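import Groth.Agent.FlatMor67.SmoothGeneric
import Groth.Agent.FBase64.SmoothFibre
import Groth.Agent.FlatMor68.EtaleSlice
import Groth.Agent.RG29.SameComp
import Mathlib.AlgebraicGeometry.Geometrically.Reduced

/-! Étale multisections through a nonempty open of a geometrically reduced fibre. -/

set_option autoImplicit false
set_option linter.style.haveILetI false
set_option maxHeartbeats 1000000
universe u

open CategoryTheory CategoryTheory.Limits AlgebraicGeometry TopologicalSpace Topology TensorProduct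

namespace Groth.Agent.NearGen2

/-- A nonempty scheme of finite type with geometrically reduced structure map over a field has a smooth point. -/
theorem exists_smooth_open {k : CommRingCat.{u}} (hk : IsField k) {P : Scheme.{u}} (t : P ⟶ Spec k)
    [LocallyOfFiniteType t] [GeometricallyReduced t] [Nonempty P] :
    ∃ O : P.Opens, (O : Set P).Nonempty ∧ Smooth (O.ι ≫ t) := by
  letI := hk.toField
  haveI : IsLocallyNoetherian P := LocallyOfFiniteType.isLocallyNoetherian t
  haveI : LocallyOfFinitePresentation t := inferInstance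
  obtain ⟨W, hW, hne, -⟩ := exists_isAffineOpen_mem_and_subset (U := ⊤) (Opens.mem_top (Classical.arbitrary P))
  haveI : IsAffine (W : Scheme.{u}) := hW
  haveI : IsLocallyNoetherian (W : Scheme.{u}) := inferInstance
  haveI : IsNoetherian (W : Scheme.{u}) := { }
  haveI : Nonempty ↥(W : Scheme.{u}) := ⟨⟨_, hne⟩⟩
  obtain ⟨C, hC⟩ : (irreducibleComponents ↥(W : Scheme.{u})).Nonempty :=
    ⟨_, irreducibleComponent_mem_irreducibleComponents (Classical.arbitrary _)⟩
  obtain ⟨o, ho, ⟨x, hx⟩, hoC⟩ := NoetherianSpace.exists_isOpen_nonempty_subset_irreducibleComponent C hC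
  let O : (W : Scheme.{u}).Opens := ⟨o, ho⟩
  let j : (O : Scheme.{u}) ⟶ P := O.ι ≫ W.ι
  haveI : Nonempty ↥(O : Scheme.{u}) := ⟨⟨x, hx⟩⟩
  haveI : IrreducibleSpace ↥(O : Scheme.{u}) := by
    haveI : PreirreducibleSpace ↥(O : Scheme.{u}) :=
      Subtype.preirreducibleSpace (hC.1.isPreirreducible.open_subset ho hoC)
    exact ⟨inferInstance⟩
  haveI : IsReduced P := by
    haveI : IsReduced (pullback t (𝟙 (Spec k))) :=
      pullback_of_geometrically GeometricallyReduced.geometrically_isReduced k (𝟙 (Spec k))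
    exact isReduced_of_isOpenImmersion (inv (pullback.fst t (𝟙 (Spec k))))
  haveI : IsReduced (O : Scheme.{u}) := isReduced_of_isOpenImmersion j
  haveI : IsIntegral (O : Scheme.{u}) := isIntegral_of_irreducibleSpace_of_isReduced _
  haveI : GeometricallyReduced (j ≫ t) := ⟨geometrically_iff_of_isClosedUnderIsomorphisms.mpr fun K _ y => by
    haveI : IsReduced (pullback t y) := pullback_of_geometrically GeometricallyReduced.geometrically_isReduced K y
    let m : pullback (j ≫ t) y ⟶ pullback t y := pullback.map (j ≫ t) y t y j (𝟙 _) (𝟙 _) (by simp) (by simp)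
    exact isReduced_of_isOpenImmersion m⟩
  haveI : IsDominant (j ≫ t) := ⟨fun s => subset_closure ⟨⟨x, hx⟩, Subsingleton.elim (α := PrimeSpectrum k) _ _⟩⟩
  have hs := FlatMor67.genericPoint_mem_smoothLocus (j ≫ t) inferInstance
  let O' := (j ≫ t).smoothLocus
  let i : (O' : Scheme.{u}) ⟶ P := O'.ι ≫ j
  refine ⟨i.opensRange, ⟨_, ⟨⟨_, hs⟩, rfl⟩⟩, ?_⟩
  haveI : Smooth (i ≫ t) := by
    rw [Category.assoc]
    rw [← Scheme.Hom.smoothLocus_eq_top_iff, ← Scheme.Hom.preimage_smoothLocus_eq]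
    exact Scheme.Opens.ι_preimage_self _
  rw [show i.opensRange.ι = i.isoOpensRange.inv ≫ i from (Scheme.Hom.isoOpensRange_inv_comp i).symm, Category.assoc]
  infer_instance

/-- An étale scheme over the base mapping to `Y` and meeting a given nonempty open of the fibre. -/
theorem exists_etale_multisection {Y S : Scheme.{u}} (h : Y ⟶ S) [Flat h] [LocallyOfFinitePresentation h]
    (s : S) (hred : GeometricallyReduced (h.fiberToSpecResidueField s)) (T : (h.fiber s).Opens)
    (hT : (T : Set ↥(h.fiber s)).Nonempty) :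
    ∃ (Z : Scheme.{u}) (π : Z ⟶ Y) (z : Z), Etale (π ≫ h) ∧ (π ≫ h) z = s ∧
      π z ∈ h.fiberι s '' (T : Set ↥(h.fiber s)) := by
  classical
  haveI : Nonempty ↥(T : Scheme.{u}) := ⟨⟨_, hT.some_mem⟩⟩
  haveI : LocallyOfFiniteType (h.fiberToSpecResidueField s) := inferInstanceAs (LocallyOfFiniteType (pullback.snd _ _))
  haveI : GeometricallyReduced (T.ι ≫ h.fiberToSpecResidueField s) :=
    ⟨geometrically_iff_of_isClosedUnderIsomorphisms.mpr fun K _ y => by
      haveI : IsReduced (pullback (h.fiberToSpecResidueField s) y) :=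
        pullback_of_geometrically GeometricallyReduced.geometrically_isReduced K y
      let m : pullback (T.ι ≫ h.fiberToSpecResidueField s) y ⟶ pullback (h.fiberToSpecResidueField s) y :=
        pullback.map (T.ι ≫ h.fiberToSpecResidueField s) y _ y T.ι (𝟙 _) (𝟙 _) (by simp) (by simp)
      exact isReduced_of_isOpenImmersion m⟩
  obtain ⟨O₁, hO₁, hsm⟩ := exists_smooth_open (Field.toIsField (S.residueField s)) (T.ι ≫ h.fiberToSpecResidueField s)
  let jO := O₁.ι ≫ T.ι
  obtain ⟨O, hOo, hO⟩ := (h.fiberι s).isEmbedding.isInducing.isOpen_iff.1 jO.isOpenEmbedding.isOpen_range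
  let Y₀ : Y.Opens := ⟨O, hOo⟩
  obtain ⟨a, ha⟩ := hO₁
  let x := h.fiberι s (jO ⟨a, ha⟩)
  have hxY : x ∈ Y₀ := show jO ⟨a, ha⟩ ∈ h.fiberι s ⁻¹' O from hO ▸ ⟨_, rfl⟩
  have hxs : h x = s := (h.range_fiberι s).le ⟨_, rfl⟩
  let h₀ := Y₀.ι ≫ h
  haveI : Smooth (h₀.fiberToSpecResidueField s) := by
    let q := pullback.snd Y₀.ι (h.fiberι s)
    let e := pullbackRightPullbackFstIso h (S.fromSpecResidueField s) Y₀.ι
    have he : e.inv ≫ q ≫ h.fiberToSpecResidueField s = (h₀.fiberToSpecResidueField s) :=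
      pullbackRightPullbackFstIso_inv_snd_snd h (S.fromSpecResidueField s) Y₀.ι
    have hr : Set.range q = Set.range jO := by
      rw [Scheme.Pullback.range_snd, Scheme.Opens.range_ι]
      exact hO
    have h1 : q ≫ h.fiberToSpecResidueField s =
        (IsOpenImmersion.isoOfRangeEq q jO hr).hom ≫ O₁.ι ≫ T.ι ≫ h.fiberToSpecResidueField s := by
      rw [← Category.assoc O₁.ι T.ι, ← Category.assoc, IsOpenImmersion.isoOfRangeEq_hom_fac q jO hr]
    haveI : Smooth (q ≫ h.fiberToSpecResidueField s) := by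
      rw [h1]
      exact (MorphismProperty.cancel_left_of_respectsIso @Smooth _ _).mpr hsm
    exact he ▸ (MorphismProperty.cancel_left_of_respectsIso @Smooth e.inv _).mpr ‹Smooth (q ≫ h.fiberToSpecResidueField s)›
  have hsmx : (⟨x, hxY⟩ : ↥(Y₀ : Scheme.{u})) ∈ h₀.smoothLocus := FBase64.mem_smoothLocus_of_smooth_fiber h₀ _ (by
    rw [show h₀ ⟨x, hxY⟩ = s from hxs]
    infer_instance)
  -- affine charts
  obtain ⟨V, hV, hsV, -⟩ := exists_isAffineOpen_mem_and_subset (U := ⊤) (Opens.mem_top s)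
  let G : Y.Opens := Y₀.ι ''ᵁ h₀.smoothLocus ⊓ h ⁻¹ᵁ V
  have hxG : x ∈ G := ⟨⟨_, hsmx, rfl⟩, show h x ∈ V from hxs.symm ▸ hsV⟩
  obtain ⟨U, hU, hxU, hUG⟩ := exists_isAffineOpen_mem_and_subset hxG
  have hUV : U ≤ h ⁻¹ᵁ V := hUG.trans inf_le_right
  let R := Γ(S, V)
  let B := Γ(Y, U)
  let φ : R ⟶ B := h.appLE V U hUV
  haveI : Smooth (hU.fromSpec ≫ h) := by
    let l := IsOpenImmersion.lift (Y₀.ι) hU.fromSpec (by
      rw [hU.range_fromSpec, Scheme.Opens.range_ι]
      intro w hw
      obtain ⟨v, -, rfl⟩ := (hUG hw).1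
      exact v.2)
    have hl : l ≫ Y₀.ι = hU.fromSpec := IsOpenImmersion.lift_fac _ _ _
    haveI : IsOpenImmersion l := by
      haveI : IsOpenImmersion (l ≫ Y₀.ι) := by rw [hl]; infer_instance
      exact IsOpenImmersion.of_comp l Y₀.ι
    rw [← hl, Category.assoc, ← Scheme.Hom.smoothLocus_eq_top_iff, ← Scheme.Hom.preimage_smoothLocus_eq]
    refine top_le_iff.mp fun w _ => ?_
    have h1 : Y₀.ι (l w) ∈ U := by
      rw [← Scheme.Hom.comp_apply, hl]
      exact hU.range_fromSpec.le ⟨w, rfl⟩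
    obtain ⟨v, hv, hve⟩ := (hUG h1).1
    show l w ∈ h₀.smoothLocus
    rwa [← Y₀.ι.isOpenEmbedding.injective hve]
  haveI : Smooth (Spec.map φ ≫ hV.fromSpec) := by rw [IsAffineOpen.SpecMap_appLE_fromSpec h hV hU hUV]; infer_instance
  haveI : Smooth (Spec.map φ) := MorphismProperty.of_postcomp (W' := @IsOpenImmersion) @Smooth (Spec.map φ) hV.fromSpec inferInstance ‹_›
  letI : Algebra R B := φ.hom.toAlgebra
  haveI : Algebra.Smooth R B := RingHom.smooth_algebraMap.mp (HasRingHomProperty.Spec_iff.mp ‹Smooth (Spec.map φ)›)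
  -- the fibre algebra
  let q := hU.primeIdealOf ⟨x, hxU⟩
  let p : PrimeSpectrum R := PrimeSpectrum.comap φ.hom q
  have hp : hV.fromSpec p = s := by
    have := congrArg (fun m => m q) (IsAffineOpen.SpecMap_appLE_fromSpec h hV hU hUV)
    simp only [Scheme.Hom.comp_apply] at this
    rw [← hxs]
    refine this.trans (congrArg h ?_)
    exact hU.fromSpec_primeIdealOf ⟨x, hxU⟩
  let C := p.asIdeal.Fiber B
  haveI : q.asIdeal.LiesOver p.asIdeal := ⟨rfl⟩
  haveI : Nontrivial C := (Algebra.TensorProduct.lift (Ideal.ResidueField.mapₐ p.asIdeal q.asIdeal (Algebra.ofId R B) rfl)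
    (IsScalarTower.toAlgHom R B q.asIdeal.ResidueField) fun _ _ => Commute.all _ _).toRingHom.domain_nontrivial
  haveI : Algebra.Smooth p.asIdeal.ResidueField C := inferInstanceAs (Algebra.Smooth p.asIdeal.ResidueField (p.asIdeal.ResidueField ⊗[R] B))
  obtain ⟨k₁, _, _, -, hsep, ⟨ψ⟩⟩ := RG29.exists_separable_point (k := p.asIdeal.ResidueField) C
  letI : Algebra R k₁ := ((algebraMap p.asIdeal.ResidueField k₁).comp (algebraMap R p.asIdeal.ResidueField)).toAlgebra
  haveI : IsScalarTower R p.asIdeal.ResidueField k₁ := IsScalarTower.of_algebraMap_eq fun _ => rfl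
  let ev : B →ₐ[R] k₁ := (ψ.restrictScalars R).comp Algebra.TensorProduct.includeRight
  have hker : ∀ r, algebraMap R k₁ r = 0 ↔ r ∈ p.asIdeal := fun r => by
    rw [IsScalarTower.algebraMap_apply R p.asIdeal.ResidueField k₁, map_eq_zero_iff _ (algebraMap p.asIdeal.ResidueField k₁).injective,
      Ideal.algebraMap_residueField_eq_zero]
  obtain ⟨W, χ, hχ⟩ := FlatMor68.EtaleSlice.exists_qs_of_separable ev p.asIdeal hker
  let Bh := Localization.Away W.h
  let c₁ : Spec (CommRingCat.of W.Z) ⟶ Spec (CommRingCat.of Bh) := Spec.map (CommRingCat.ofHom W.proj.toRingHom)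
  let c₂ : Spec (CommRingCat.of Bh) ⟶ Spec B := Spec.map (CommRingCat.ofHom (algebraMap B Bh))
  let π : Spec (CommRingCat.of W.Z) ⟶ Y := c₁ ≫ c₂ ≫ hU.fromSpec
  have hπh : π ≫ h = Spec.map (CommRingCat.ofHom (algebraMap R W.Z)) ≫ hV.fromSpec := by
    simp only [π, Category.assoc]
    rw [← IsAffineOpen.SpecMap_appLE_fromSpec h hV hU hUV]
    simp only [c₁, c₂, ← Spec.map_comp_assoc]
    congr 2
    refine CommRingCat.hom_ext (RingHom.ext fun r => ?_)
    show W.proj (algebraMap B Bh (algebraMap R B r)) = algebraMap R W.Z r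
    rw [AlgHom.commutes, ← IsScalarTower.algebraMap_apply]
  let z : PrimeSpectrum W.Z := ⟨RingHom.ker χ.toRingHom, RingHom.ker_isPrime _⟩
  have hzs : (π ≫ h) z = s := by
    rw [hπh, Scheme.Hom.comp_apply, ← hp]
    congr 1
    refine PrimeSpectrum.ext (Ideal.ext fun r => ?_)
    show χ (algebraMap R W.Z r) = 0 ↔ r ∈ p.asIdeal
    rw [AlgHom.commutes]
    exact hker r
  refine ⟨Spec (CommRingCat.of W.Z), π, z, ?_, hzs, ?_⟩
  · haveI : Etale (Spec.map (CommRingCat.ofHom (algebraMap R W.Z))) :=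
      HasRingHomProperty.Spec_iff.mpr (RingHom.etale_algebraMap.mpr W.etale)
    rw [hπh]
    infer_instance
  · rw [Scheme.Hom.comp_apply] at hzs
    obtain ⟨w, hw⟩ := (h.range_fiberι s).ge (show h (π z) ∈ ({s} : Set S) from hzs)
    have h1 : π z ∈ U := hU.range_fromSpec.le ⟨c₂ (c₁ z), rfl⟩
    obtain ⟨v, -, hv⟩ := (hUG h1).1
    have h2 : h.fiberι s w ∈ O := by rw [hw, ← hv]; exact v.2
    obtain ⟨u, hu⟩ : w ∈ Set.range jO := hO ▸ h2
    exact ⟨w, hu ▸ (O₁.ι u).2, hw⟩

end Groth.Agent.NearGen2
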