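import Groth.Agent.Cons62.Generic
import Groth.Agent.ConsProp93.Locus

/-! Fibre properties with constructible loci descend to a base of finite type over `ℤ`. -/

set_option autoImplicit false
set_option linter.style.haveILetI false
universe u

open CategoryTheory CategoryTheory.Limits AlgebraicGeometry TopologicalSpace Topology TensorProduct

namespace Groth.Agent.NearGen2

theorem exists_fg_model {A B : Type u} [CommRing A] [CommRing B] [Algebra A B]
    [Algebra.FinitePresentation A B] :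
    ∃ (A₀ : Subalgebra ℤ A) (B₀ : Type u) (_ : CommRing B₀) (_ : Algebra A₀ B₀) (_ : A ⊗[A₀] B₀ ≃ₐ[A] B),
      A₀.FG ∧ Algebra.FinitePresentation A₀ B₀ := by
  let P := Algebra.Presentation.ofFinitePresentation A B
  let A₀ : Subalgebra ℤ A := Algebra.adjoin ℤ P.coeffs
  have hfg : A₀.FG := ⟨P.finite_coeffs.toFinset, by simp [A₀]⟩
  have : P.HasCoeffs A₀ := ⟨fun x hx => ⟨⟨x, Algebra.subset_adjoin hx⟩, rfl⟩⟩
  exact ⟨A₀, P.ModelOfHasCoeffs A₀, inferInstance, inferInstance, P.tensorModelOfHasCoeffsEquiv A₀, hfg,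
    inferInstance⟩

/-- A constructible subset of the spectrum of a subring missed by the spectrum of the ring is missed
by a finitely generated stage. -/
theorem exists_fg_stage {A : Type u} [CommRing A] (A₀ : Subalgebra ℤ A) (hA₀ : A₀.FG)
    {C : Set (PrimeSpectrum A₀)} (hC : IsConstructible C)
    (h : PrimeSpectrum.comap (algebraMap A₀ A) ⁻¹' C = ∅) :
    ∃ (A₁ : Subalgebra ℤ A) (hle : A₀ ≤ A₁), A₁.FG ∧
      PrimeSpectrum.comap (Subalgebra.inclusion hle).toRingHom ⁻¹' C = ∅ := by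
  classical
  obtain ⟨D, rfl⟩ := PrimeSpectrum.exists_constructibleSetData_iff.mpr hC
  have key : ∀ E ∈ D, ∃ (N : ℕ) (c : Fin E.n → A),
      (algebraMap A₀ A E.f) ^ N = ∑ i, c i * algebraMap A₀ A (E.g i) := by
    intro E hE
    have hmem : algebraMap A₀ A E.f ∈ (Ideal.span (Set.range fun i => algebraMap A₀ A (E.g i))).radical := by
      rw [Ideal.radical_eq_sInf, Submodule.mem_sInf]
      rintro J ⟨hJ, hJp⟩
      by_contra hf
      refine (Set.eq_empty_iff_forall_notMem.mp h ⟨J, hJp⟩) (Set.mem_iUnion₂.mpr ⟨E, hE, ?_, ?_⟩)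
      · rintro _ ⟨i, rfl⟩
        exact hJ (Ideal.subset_span ⟨i, rfl⟩)
      · exact fun hz => hf (hz rfl)
    obtain ⟨N, hN⟩ := hmem
    obtain ⟨c, hc⟩ := (Ideal.mem_span_range_iff_exists_fun).mp hN
    exact ⟨N, c, hc.symm⟩
  choose N c hc using key
  obtain ⟨s, hs⟩ := hA₀
  let T : Finset A := s ∪ D.attach.biUnion fun E => Finset.univ.image (c E.1 E.2)
  refine ⟨Algebra.adjoin ℤ (T : Set A), ?_, ⟨T, rfl⟩, ?_⟩
  · rw [← hs]
    exact Algebra.adjoin_mono (by simp [T])
  · refine Set.eq_empty_iff_forall_notMem.mpr fun P hP => ?_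
    obtain ⟨E, hE, hg, hf⟩ := Set.mem_iUnion₂.mp hP
    apply hf
    rintro x rfl
    have hle : A₀ ≤ Algebra.adjoin ℤ (T : Set A) := by
      rw [← hs]; exact Algebra.adjoin_mono (by simp [T])
    show Subalgebra.inclusion hle E.f ∈ P.asIdeal
    refine P.2.mem_of_pow_mem (N E hE) ?_
    have hmem : ∀ i, c E hE i ∈ Algebra.adjoin ℤ (T : Set A) := fun i =>
      Algebra.subset_adjoin (Finset.mem_union_right _ (Finset.mem_biUnion.mpr
        ⟨⟨E, hE⟩, Finset.mem_attach _ _, Finset.mem_image_of_mem _ (Finset.mem_univ i)⟩))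
    have heq : (Subalgebra.inclusion hle E.f) ^ N E hE =
        ∑ i, (⟨c E hE i, hmem i⟩ : Algebra.adjoin ℤ (T : Set A)) * Subalgebra.inclusion hle (E.g i) := by
      apply Subtype.ext
      simp only [SubmonoidClass.coe_pow, AddSubmonoidClass.coe_finsetSum, MulMemClass.coe_mul,
        Subalgebra.coe_inclusion]
      exact hc E hE
    rw [heq]
    exact Ideal.sum_mem _ fun i _ => Ideal.mul_mem_left _ _ (hg ⟨i, rfl⟩)

/-- A field-stable fibre property with constructible loci holding on all fibres of a finitely presented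
morphism of affine schemes holds on all fibres of a model over a ring of finite type over `ℤ`. -/
theorem exists_approx {P : ∀ ⦃Y T : Scheme.{u}⦄, (Y ⟶ T) → Prop} (hP : ConsProp.IsFieldStable P)
    (hc : ∀ {X' S' : Scheme.{u}} (g : X' ⟶ S') [IsAffine X'] [IsAffine S'] [LocallyOfFinitePresentation g],
      IsLocallyConstructible (ConsProp.locus P g))
    {X S : Scheme.{u}} (f : X ⟶ S) [IsAffine X] [IsAffine S] [LocallyOfFinitePresentation f]
    (h : ∀ s, P (f.fiberToSpecResidueField s)) :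
    ∃ (X₀ S₀ : Scheme.{u}) (f₀ : X₀ ⟶ S₀) (g : S ⟶ S₀) (g' : X ⟶ X₀), IsAffine X₀ ∧ IsAffine S₀ ∧
      IsPullback g' f f₀ g ∧ Algebra.FiniteType ℤ Γ(S₀, ⊤) ∧ LocallyOfFiniteType f₀ ∧
      ∀ s₀, P (f₀.fiberToSpecResidueField s₀) := by
  let A := Γ(S, ⊤)
  let B := Γ(X, ⊤)
  algebraize [f.appTop.hom]
  have hfp : LocallyOfFinitePresentation (Spec.map f.appTop) := by
    rw [show Spec.map f.appTop = X.isoSpec.inv ≫ f ≫ S.isoSpec.hom by
      rw [← Scheme.isoSpec_inv_naturality_assoc, Iso.inv_hom_id, Category.comp_id]]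
    infer_instance
  rw [HasRingHomProperty.Spec_iff (P := @LocallyOfFinitePresentation)] at hfp
  have : Algebra.FinitePresentation A B := hfp
  obtain ⟨A₀, B₀, _, _, e, hfg, hB₀⟩ := exists_fg_model (A := A) (B := B)
  let f₀ := Spec.map (CommRingCat.ofHom (algebraMap A₀ B₀))
  have : LocallyOfFinitePresentation f₀ := by
    rw [HasRingHomProperty.Spec_iff (P := @LocallyOfFinitePresentation)]
    exact RingHom.finitePresentation_algebraMap.mpr hB₀
  have : QuasiCompact f₀ := HasAffineProperty.iff_of_isAffine.mpr (by infer_instance)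
  let γ : S ⟶ Spec (CommRingCat.of A₀) := S.isoSpec.hom ≫ Spec.map (CommRingCat.ofHom (algebraMap A₀ A))
  have hX : IsPullback X.isoSpec.hom f (Spec.map (CommRingCat.ofHom (algebraMap A B))) S.isoSpec.hom :=
    IsPullback.of_horiz_isIso ⟨Scheme.isoSpec_hom_naturality f⟩
  have hsq := hX.paste_horiz (Cons62.isPullback_spec_of_equiv e)
  have hF : IsConstructible (ConsProp.locus P f₀)ᶜ := by
    exact (Cons62.isLocallyConstructible_compl (hc f₀)).isConstructible
  have hempty : PrimeSpectrum.comap (algebraMap A₀ A) ⁻¹' (ConsProp.locus P f₀)ᶜ = ∅ := by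
    refine Set.eq_empty_iff_forall_notMem.mpr fun p hp => hp ?_
    obtain ⟨s, hs⟩ := S.isoSpec.hom.homeomorph.surjective p
    have h2 : s ∈ γ ⁻¹' ConsProp.locus P f₀ := by
      rw [← ConsProp93.locus_preimage hP hsq]; exact h s
    rw [Set.mem_preimage, Scheme.Hom.comp_apply] at h2
    rwa [← show S.isoSpec.hom s = p from hs]
  obtain ⟨A₁, hle, hA₁, hA₁e⟩ := exists_fg_stage A₀ hfg hF hempty
  letI : Algebra A₀ A₁ := (Subalgebra.inclusion hle).toRingHom.toAlgebra
  have : IsScalarTower A₀ A₁ A := IsScalarTower.of_algebraMap_eq fun _ => rfl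
  let e₁ : A ⊗[A₁] (A₁ ⊗[A₀] B₀) ≃ₐ[A] B := (Algebra.TensorProduct.cancelBaseChange A₀ A₁ A A B₀).trans e
  let f₁ := Spec.map (CommRingCat.ofHom (algebraMap A₁ (A₁ ⊗[A₀] B₀)))
  have h1 := (isPullback_SpecMap_of_isPushout _ _ _ _ (CommRingCat.isPushout_tensorProduct A₀ A₁ B₀)).flip
  refine ⟨Spec (CommRingCat.of (A₁ ⊗[A₀] B₀)), Spec (CommRingCat.of A₁), f₁,
    S.isoSpec.hom ≫ Spec.map (CommRingCat.ofHom (algebraMap A₁ A)), _, inferInstance, inferInstance,
    hX.paste_horiz (Cons62.isPullback_spec_of_equiv e₁), ?_, ?_, fun s₀ => ?_⟩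
  · exact RingHom.finiteType_algebraMap.mp (by
      rw [show algebraMap ℤ Γ(Spec (CommRingCat.of A₁), ⊤) =
        (Scheme.ΓSpecIso (CommRingCat.of A₁)).inv.hom.comp (algebraMap ℤ A₁) from RingHom.ext_int _ _]
      exact RingHom.FiniteType.comp
        (RingHom.FiniteType.of_surjective _ (Scheme.ΓSpecIso (CommRingCat.of A₁)).commRingCatIsoToRingEquiv.symm.surjective)
        (RingHom.finiteType_algebraMap.mpr (A₁.fg_iff_finiteType.mp hA₁)))
  · rw [HasRingHomProperty.Spec_iff (P := @LocallyOfFiniteType)]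
    exact RingHom.finiteType_algebraMap.mpr
      (inferInstance : Algebra.FiniteType A₁ (A₁ ⊗[A₀] B₀))
  · show s₀ ∈ ConsProp.locus P f₁
    have e1 : ConsProp.locus P f₁ =
        Spec.map (CommRingCat.ofHom (algebraMap A₀ A₁)) ⁻¹' ConsProp.locus P f₀ :=
      ConsProp93.locus_preimage hP h1
    rw [e1]
    by_contra hn
    exact Set.eq_empty_iff_forall_notMem.mp hA₁e s₀ hn

end Groth.Agent.NearGen2
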