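import Groth.Agent.NearGen2.ReducedNear
import Groth.Agent.Sk62.GeomRedFibre
import Groth.Agent.FBase64.PointCmp
import Groth.Agent.ConsProp93.Approx
import Groth.Agent.ConsProp93.DimScheme
import Groth.Agent.LimTop61.AmpleStage

/-! Geometric reducedness of fibres: openness near the generic point and constructibility. -/

set_option autoImplicit false
set_option linter.style.haveILetI false
universe u

open CategoryTheory CategoryTheory.Limits AlgebraicGeometry TopologicalSpace Topology

namespace Groth.Agent.NearGen2

variable {X Y : Scheme.{u}}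

theorem fiber_prop_iff_of_preimmersion {P : MorphismProperty Scheme.{u}} [P.RespectsIso]
    {X' Y' : Scheme.{u}} {a : X' ⟶ X} {q : X' ⟶ Y'} {f : X ⟶ Y} {r : Y' ⟶ Y} [IsPreimmersion r]
    (h : IsPullback a q f r) (p : Y') :
    P (q.fiberToSpecResidueField p) ↔ P (f.fiberToSpecResidueField (r p)) := by
  have h' := isPullback_fiberToSpecResidueField_of_isPullback h p
  have : IsIso (r.residueFieldMap p) :=
    (ConcreteCategory.isIso_iff_bijective _).mpr (E4O.residueFieldMap_bijective_of_preimmersion r p)
  have := h'.isIso_fst_of_isIso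
  exact (P.cancel_right_of_respectsIso (q.fiberToSpecResidueField p) (Spec.map (r.residueFieldMap p))).symm.trans
    ((iff_of_eq (congrArg (fun t => P t) h'.w.symm)).trans (P.cancel_left_of_respectsIso _ _))

theorem geometrically_restrict (P : ObjectProperty Scheme.{u}) (f : X ⟶ Y) (V : Y.Opens)
    [(geometrically P).RespectsIso]
    (h : ∀ y ∈ V, geometrically P (f.fiberToSpecResidueField y)) : geometrically P (f ∣_ V) := by
  rw [geometrically_iff_forall_fiberToSpecResidueField]
  intro v
  exact (fiber_prop_iff_of_preimmersion (P := geometrically P) (isPullback_morphismRestrict f V).flip v).mpr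
    (h _ v.2)

section

variable [IrreducibleSpace Y] (f : X ⟶ Y) [LocallyOfFiniteType f] [QuasiCompact f]

theorem near_geometricallyReduced (h : GeometricallyReduced (f.fiberToSpecResidueField (genericPoint Y))) :
    Near fun y => GeometricallyReduced (f.fiberToSpecResidueField y) := by
  obtain ⟨M⟩ := exists_model f
  refine M.near ?_
  rw [← M.r_genericPoint, ← M.fiber_prop_iff @GeometricallyReduced] at h
  have hO := Sk62.isOpen_isGeomReducedAt_fibre M.fam
  set O := {x | FBase.IsGeomReducedAt (M.fam.fiberToSpecResidueField (M.fam x)) (M.fam.asFiber x)}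
  have hmem : ∀ p x (hx : M.fam x = p), x ∈ O ↔
      FBase.IsGeomReducedAt (M.fam.fiberToSpecResidueField p) ((M.fam.fiberHomeo p).symm ⟨x, hx⟩) := by
    intro p x hx
    subst hx
    exact Iff.rfl
  refine (near_avoid_closed M.fam hO.isClosed_compl fun x hxO hx => hxO ?_).mono fun p hp => ?_
  · exact (hmem _ x hx).mpr (FBase64.geometricallyReduced_iff_forall _ |>.mp h _)
  · refine (M.fiber_prop_iff @GeometricallyReduced p).mp
      ((FBase64.geometricallyReduced_iff_forall (M.fam.fiberToSpecResidueField p)).mpr fun w => ?_)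
    have hx := apply_fiberι M.fam p w
    have h2 := (hmem p _ hx).mp (not_not.mp (hp _ hx))
    have e : (M.fam.fiberHomeo p).symm ⟨M.fam.fiberι p w, hx⟩ = w :=
      (M.fam.fiberι p).isEmbedding.injective (M.fam.fiberι_fiberHomeo_symm p _)
    rwa [e] at h2

end

theorem geometricallyReduced_descend {Y' : Scheme.{u}} (f : X ⟶ Y) (g : Y' ⟶ Y) [Surjective g]
    (H : GeometricallyReduced (pullback.snd f g)) : GeometricallyReduced f := by
  refine ⟨geometrically_iff_of_isClosedUnderIsomorphisms.mpr fun K _ y => ?_⟩
  let pt : ↥(Spec (CommRingCat.of K)) := Classical.arbitrary _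
  obtain ⟨s', hs'⟩ := g.surjective (y pt)
  obtain ⟨Ω, _, _, i, j, hij⟩ := FBase64.exists_common_field y (Y'.fromSpecResidueField s' ≫ g)
    ⟨pt, Classical.arbitrary _, hs'.symm.trans (congrArg g (Scheme.fromSpecResidueField_apply s' _)).symm⟩
  have h1 := pullback_of_geometrically H.geometrically_isReduced Ω
    (Spec.map (CommRingCat.ofHom j) ≫ Y'.fromSpecResidueField s')
  let b : Spec (CommRingCat.of Ω) ⟶ Spec (CommRingCat.of K) := Spec.map (CommRingCat.ofHom i)
  have h2 : IsReduced (pullback f (b ≫ y)) := by
    rw [hij, ← Category.assoc]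
    exact isReduced_of_iso (pullbackLeftPullbackSndIso f g _).symm
  have : Flat b := by
    rw [HasRingHomProperty.Spec_iff (P := @Flat)]
    letI := i.toAlgebra
    exact RingHom.flat_algebraMap_iff.mpr inferInstance
  have : Surjective b := ⟨fun x => ⟨Classical.arbitrary _, Subsingleton.elim (α := PrimeSpectrum K) _ x⟩⟩
  have : IsReduced (pullback (pullback.snd f y) b) := isReduced_of_iso (pullbackLeftPullbackSndIso f y b)
  have hpt : ∀ z, _root_.IsReduced ((pullback f y).presheaf.stalk z) := fun z => by
    obtain ⟨w, rfl⟩ := (pullback.fst (pullback.snd f y) b).surjective z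
    exact FBase64.isReduced_stalk_of_flat _ w
  exact isReduced_of_isReduced_stalk _

theorem isFieldStable_geomReduced :
    ConsProp.IsFieldStable.{u} (fun _ _ g => GeometricallyReduced g) := by
  intro Z Z' T T' g g' e h _ _ _ _ _ _ hsq
  refine ⟨fun hg => MorphismProperty.of_isPullback hsq hg, fun hg' => ?_⟩
  obtain ⟨z'⟩ : Nonempty T' := inferInstance
  have : Surjective h := ⟨fun x => ⟨z', Subsingleton.elim _ _⟩⟩
  refine geometricallyReduced_descend g h ?_
  rw [← hsq.isoPullback_inv_snd]
  exact (MorphismProperty.cancel_left_of_respectsIso @GeometricallyReduced _ _).mpr hg'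

theorem isConsMod_geomReduced :
    ConsProp.IsConsMod.{u} (fun _ _ g _ => GeometricallyReduced g) := by
  refine ⟨fun Z Z' T T' g g' e h _ _ _ _ _ _ hsq F F' _ _ => isFieldStable_geomReduced g g' e h hsq, ?_⟩
  intro Z S v _ _ _ _ F _
  by_cases hg : GeometricallyReduced (v.fiberToSpecResidueField (genericPoint S))
  · obtain ⟨V, hV, hVy⟩ := near_geometricallyReduced v hg
    exact .inl (hV.mono (V.2.subset_interior_iff.mpr fun y hy => hVy y hy))
  · obtain ⟨V, hV, hVy⟩ := near_not_geometricallyReduced v hg
    exact .inr (hV.mono (V.2.subset_interior_iff.mpr fun y hy => hVy y hy))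

theorem isLocallyConstructible_geomReduced (f : X ⟶ Y) [QuasiCompact f] [LocallyOfFinitePresentation f] :
    IsLocallyConstructible {y : Y | GeometricallyReduced (f.fiberToSpecResidueField y)} := by
  refine ConsProp93.isLocallyConstructible_of_affine fun W hW => ?_
  have : IsAffine (W : Scheme.{u}) := hW
  have hres : W.ι ⁻¹' {y : Y | GeometricallyReduced (f.fiberToSpecResidueField y)} =
      {w | GeometricallyReduced ((f ∣_ W).fiberToSpecResidueField w)} := by
    ext w
    exact (fiber_prop_iff_of_preimmersion (P := @GeometricallyReduced) (isPullback_morphismRestrict f W).flip w).symm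
  rw [hres]
  have : LocallyOfFinitePresentation (f ∣_ W) :=
    MorphismProperty.of_isPullback (isPullback_morphismRestrict f W).flip ‹_›
  have : CompactSpace ↥(f ⁻¹ᵁ W : Scheme.{u}) := QuasiCompact.compactSpace_of_compactSpace (f ∣_ W)
  let 𝒰 := (f ⁻¹ᵁ W : Scheme.{u}).affineCover.finiteSubcover
  have hi : ∀ i, IsLocallyConstructible
      {w | GeometricallyReduced ((𝒰.f i ≫ f ∣_ W).fiberToSpecResidueField w)} := by
    intro i
    have : QuasiCompact (𝒰.f i ≫ f ∣_ W) := HasAffineProperty.iff_of_isAffine.mpr (by infer_instance)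
    have := LimTop61.isQuasicoherent_structureModule (𝒰.X i)
    have := LimTop61.isFP_structureModule' (𝒰.X i)
    exact ConsProp93.isLocallyConstructible_locusMod isConsMod_geomReduced (𝒰.f i ≫ f ∣_ W)
      (Coh.structureModule _)
  convert IsLocallyConstructible.iInter hi using 1
  ext w
  simp only [Set.mem_ofPred_eq, Set.mem_iInter]
  constructor
  · intro hg i
    refine ⟨geometrically_iff_of_isClosedUnderIsomorphisms.mpr fun K _ y => ?_⟩
    have : IsReduced (pullback (f ∣_ W) (y ≫ (W : Scheme.{u}).fromSpecResidueField w)) :=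
      @isReduced_of_iso _ _ (pullbackLeftPullbackSndIso (f ∣_ W) ((W : Scheme.{u}).fromSpecResidueField w) y).symm
        (pullback_of_geometrically hg.geometrically_isReduced K y)
    have := isReduced_piece (𝒰.f i) (f ∣_ W) (y ≫ (W : Scheme.{u}).fromSpecResidueField w)
    exact isReduced_of_iso (pullbackLeftPullbackSndIso (𝒰.f i ≫ f ∣_ W) ((W : Scheme.{u}).fromSpecResidueField w) y)
  · intro hall
    refine ⟨geometrically_iff_of_isClosedUnderIsomorphisms.mpr fun K _ y => ?_⟩
    by_contra hn
    obtain ⟨i, hi'⟩ := exists_piece_not_isReduced (f ∣_ W) 𝒰 (y ≫ (W : Scheme.{u}).fromSpecResidueField w)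
      (fun hr => hn (@isReduced_of_iso _ _
        (pullbackLeftPullbackSndIso (f ∣_ W) ((W : Scheme.{u}).fromSpecResidueField w) y) hr))
    exact hi' (@isReduced_of_iso _ _
      (pullbackLeftPullbackSndIso (𝒰.f i ≫ f ∣_ W) ((W : Scheme.{u}).fromSpecResidueField w) y).symm
      (pullback_of_geometrically (hall i).geometrically_isReduced K y))

end Groth.Agent.NearGen2
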