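import Groth.Agent.NearGen2.CompCount
import Groth.Agent.NearGen2.GeomReduced
import Groth.Agent.NearGen2.Approx

/-! Constructibility of the loci of given numbers of geometric components. -/

set_option autoImplicit false
set_option linter.style.haveILetI false
universe u

open CategoryTheory CategoryTheory.Limits AlgebraicGeometry TopologicalSpace Topology

namespace Groth.Agent.NearGen2

variable {X Y : Scheme.{u}}

/-- Both counts are constant on a neighbourhood of a point in its closure. -/
theorem exists_nhd_nGeomComp (f : X ⟶ Y) [LocallyOfFiniteType f] [QuasiCompact f] (y : Y) :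
    ∃ V : Set Y, V ⊆ closure {y} ∧ y ∈ V ∧ IsOpen (Subtype.val ⁻¹' V : Set ↑(closure ({y} : Set Y))) ∧
      ∀ y' ∈ V, MoreMor.nGeomIrredComp f y' = MoreMor.nGeomIrredComp f y ∧
        MoreMor.nGeomConnComp f y' = MoreMor.nGeomConnComp f y := by
  let C : Closeds Y := ⟨closure {y}, isClosed_closure⟩
  let i := (Scheme.IdealSheafData.vanishingIdeal C).subschemeι
  have hr : Set.range i = closure {y} := SchBasics.range_vanishingIdeal_subschemeι C
  let e := i.isEmbedding.toHomeomorph.trans (Homeomorph.setCongr hr)
  have : IrreducibleSpace ↥(closure ({y} : Set Y)) := Subtype.irreducibleSpace isIrreducible_singleton.closure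
  have : IrreducibleSpace (Scheme.IdealSheafData.vanishingIdeal C).subscheme := e.irreducibleSpace_iff.mpr ‹_›
  obtain ⟨z, hz⟩ : y ∈ Set.range i := hr.ge (subset_closure rfl)
  have hg : i (genericPoint _) = y := by
    have h1 : y ⤳ i (genericPoint _) := specializes_iff_mem_closure.mpr (hr.le ⟨_, rfl⟩)
    have h2 : i (genericPoint _) ⤳ y := hz ▸ (genericPoint_specializes z).map i.continuous
    exact (h2.antisymm h1).eq
  let f' := pullback.snd f i
  obtain ⟨V₀, hV₀, hV⟩ := near_nGeomComp f'
  refine ⟨i '' V₀, (Set.image_subset_range _ _).trans hr.le, ⟨_, ((genericPoint_spec _).mem_open_set_iff V₀.2).mpr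
    (by simpa using hV₀), hg⟩, ?_, ?_⟩
  · have he : (Subtype.val ⁻¹' (i '' V₀) : Set ↑(closure ({y} : Set Y))) = e '' V₀ := by
      ext ⟨x, hx⟩
      constructor
      · rintro ⟨w, hw, rfl⟩
        exact ⟨w, hw, Subtype.ext rfl⟩
      · rintro ⟨w, hw, hwx⟩
        exact ⟨w, hw, congrArg Subtype.val hwx⟩
    rw [he]
    exact e.isOpenMap _ V₀.2
  · rintro _ ⟨w, hw, rfl⟩
    have h := hV w hw
    have hp := IsPullback.of_hasPullback f i
    rw [S1334.result f f' _ i hp, S1334.result f f' _ i hp, S1335.result f f' _ i hp, S1335.result f f' _ i hp,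
      hg] at h
    exact h

theorem isLocallyConstructible_locus_of_isCons {P : ∀ ⦃Z T : Scheme.{u}⦄, (Z ⟶ T) → Prop} (hP : ConsProp.IsCons P)
    (f : X ⟶ Y) [LocallyOfFinitePresentation f] [QuasiCompact f] [QuasiSeparated f] :
    IsLocallyConstructible (ConsProp.locus P f) := by
  have hP' : ConsProp.IsConsMod.{u} (fun _ _ g _ => P g) :=
    ⟨fun Z Z' T T' g g' e h _ _ _ _ _ _ hsq F F' _ _ => hP.1 g g' e h hsq,
      fun Z S v _ _ _ _ F _ => hP.2 v⟩
  have := LimTop61.isQuasicoherent_structureModule X
  have := LimTop61.isFP_structureModule' X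
  exact ConsProp93.isLocallyConstructible_locusMod hP' f (Coh.structureModule _)

/-- The property that all fibres have `n` geometric irreducible components. -/
def HasIrredCount (n : ℕ∞) : ∀ ⦃Z T : Scheme.{u}⦄, (Z ⟶ T) → Prop :=
  fun _ _ g => ∀ t, MoreMor.nGeomIrredComp g t = n

/-- The property that all fibres have `n` geometric connected components. -/
def HasConnCount (n : ℕ∞) : ∀ ⦃Z T : Scheme.{u}⦄, (Z ⟶ T) → Prop :=
  fun _ _ g => ∀ t, MoreMor.nGeomConnComp g t = n

theorem hasIrredCount_fiber_iff (n : ℕ∞) (f : X ⟶ Y) (y : Y) :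
    HasIrredCount n (f.fiberToSpecResidueField y) ↔ MoreMor.nGeomIrredComp f y = n := by
  have h := fun t => S1334.result f (f.fiberToSpecResidueField y) (f.fiberι y) (Y.fromSpecResidueField y)
    (IsPullback.of_hasPullback _ _) t
  simp only [Scheme.fromSpecResidueField_apply] at h
  exact ⟨fun hh => (h (Classical.arbitrary _)).symm.trans (hh _), fun hh t => (h t).trans hh⟩

theorem hasConnCount_fiber_iff (n : ℕ∞) (f : X ⟶ Y) (y : Y) :
    HasConnCount n (f.fiberToSpecResidueField y) ↔ MoreMor.nGeomConnComp f y = n := by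
  have h := fun t => S1335.result f (f.fiberToSpecResidueField y) (f.fiberι y) (Y.fromSpecResidueField y)
    (IsPullback.of_hasPullback _ _) t
  simp only [Scheme.fromSpecResidueField_apply] at h
  exact ⟨fun hh => (h (Classical.arbitrary _)).symm.trans (hh _), fun hh t => (h t).trans hh⟩

theorem isCons_hasIrredCount (n : ℕ∞) : ConsProp.IsCons.{u} (HasIrredCount n) := by
  refine ⟨fun Z Z' T T' g g' e h _ _ _ _ _ _ hsq => ⟨fun hg t => (S1334.result g g' e h hsq t).trans (hg _),
    fun hg t => ?_⟩, fun Z S v _ _ _ _ => ?_⟩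
  · obtain ⟨t'⟩ : Nonempty T' := inferInstance
    rw [Subsingleton.elim t (h t'), ← S1334.result g g' e h hsq]
    exact hg _
  · obtain ⟨V, hV, hVy⟩ := near_nGeomComp v
    by_cases hn : MoreMor.nGeomIrredComp v (genericPoint S) = n
    · exact .inl (hV.mono (V.2.subset_interior_iff.mpr fun y hy =>
        (hasIrredCount_fiber_iff n v y).mpr ((hVy y hy).1.trans hn)))
    · exact .inr (hV.mono (V.2.subset_interior_iff.mpr fun y hy hh =>
        hn ((hVy y hy).1.symm.trans ((hasIrredCount_fiber_iff n v y).mp hh))))

theorem isCons_hasConnCount (n : ℕ∞) : ConsProp.IsCons.{u} (HasConnCount n) := by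
  refine ⟨fun Z Z' T T' g g' e h _ _ _ _ _ _ hsq => ⟨fun hg t => (S1335.result g g' e h hsq t).trans (hg _),
    fun hg t => ?_⟩, fun Z S v _ _ _ _ => ?_⟩
  · obtain ⟨t'⟩ : Nonempty T' := inferInstance
    rw [Subsingleton.elim t (h t'), ← S1335.result g g' e h hsq]
    exact hg _
  · obtain ⟨V, hV, hVy⟩ := near_nGeomComp v
    by_cases hn : MoreMor.nGeomConnComp v (genericPoint S) = n
    · exact .inl (hV.mono (V.2.subset_interior_iff.mpr fun y hy =>
        (hasConnCount_fiber_iff n v y).mpr ((hVy y hy).2.trans hn)))
    · exact .inr (hV.mono (V.2.subset_interior_iff.mpr fun y hy hh =>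
        hn ((hVy y hy).2.symm.trans ((hasConnCount_fiber_iff n v y).mp hh))))

theorem geometricallyIrreducible_fiber_iff (f : X ⟶ Y) (y : Y) :
    GeometricallyIrreducible (f.fiberToSpecResidueField y) ↔ MoreMor.nGeomIrredComp f y = 1 := by
  constructor
  · intro h
    have : IrreducibleSpace ↥(MoreMor.geomFiber f y) := pullback_of_geometrically h.geometrically_irreducibleSpace _ _
    rw [MoreMor.nGeomIrredComp, irreducibleComponents_eq_singleton, Set.encard_singleton]
  · intro h
    obtain ⟨Z, hZ⟩ := Set.encard_eq_one.mp h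
    have hu : Z = Set.univ := by
      rw [← sUnion_irreducibleComponents (X := ↥(MoreMor.geomFiber f y)), hZ, Set.sUnion_singleton]
    have : IrreducibleSpace ↥(pullback (f.fiberToSpecResidueField y) (Spec.map (CommRingCat.ofHom
        (algebraMap (Y.residueField y) (SeparableClosure (Y.residueField y)))))) := by
      rw [irreducibleSpace_def]
      show IsIrreducible (Set.univ : Set ↥(MoreMor.geomFiber f y))
      rw [← hu]
      exact (hZ.ge (Set.mem_singleton Z)).1
    exact @FBase64.geometricallyIrreducible_of_sepClosed (Y.residueField y) _ _ (f.fiberToSpecResidueField y)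
      (SeparableClosure (Y.residueField y)) _ (algebraMap (Y.residueField y) (SeparableClosure (Y.residueField y)))
      (IsSepClosure.sep_closed (Y.residueField y)) this

theorem geometricallyConnected_fiber_iff (f : X ⟶ Y) (y : Y) :
    GeometricallyConnected (f.fiberToSpecResidueField y) ↔ MoreMor.nGeomConnComp f y = 1 := by
  constructor
  · intro h
    have : ConnectedSpace ↥(MoreMor.geomFiber f y) := pullback_of_geometrically h.geometrically_connectedSpace _ _
    rw [MoreMor.nGeomConnComp, ENat.card_eq_one_iff_unique]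
    exact ⟨@uniqueOfSubsingleton _ inferInstance (_root_.ConnectedComponents.mk (Classical.arbitrary _))⟩
  · intro h
    obtain ⟨hu⟩ := ENat.card_eq_one_iff_unique.mp h
    have : ConnectedSpace ↥(pullback (f.fiberToSpecResidueField y) (Spec.map (CommRingCat.ofHom
        (algebraMap (Y.residueField y) (SeparableClosure (Y.residueField y)))))) := by
      obtain ⟨w, -⟩ := _root_.ConnectedComponents.surjective_coe hu.default
      refine { toPreconnectedSpace := preconnectedSpace_iff_connectedComponent.mpr fun x => ?_,
               toNonempty := ⟨w⟩ }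
      exact Set.eq_univ_of_forall fun z =>
        _root_.ConnectedComponents.coe_eq_coe'.mp (hu.instSubsingleton.elim _ _)
    exact @FBase64.geometricallyConnected_of_sepClosed (Y.residueField y) _ _ (f.fiberToSpecResidueField y)
      (SeparableClosure (Y.residueField y)) _ (algebraMap (Y.residueField y) (SeparableClosure (Y.residueField y)))
      (IsSepClosure.sep_closed (Y.residueField y)) this

theorem isLocallyConstructible_nGeomIrredComp_eq (f : X ⟶ Y) [LocallyOfFinitePresentation f] [QuasiCompact f]
    [QuasiSeparated f] (n : ℕ∞) : IsLocallyConstructible {y : Y | MoreMor.nGeomIrredComp f y = n} := by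
  have h := isLocallyConstructible_locus_of_isCons (isCons_hasIrredCount n) f
  rwa [show ConsProp.locus (HasIrredCount n) f = {y : Y | MoreMor.nGeomIrredComp f y = n} from
    Set.ext (hasIrredCount_fiber_iff n f)] at h

theorem isLocallyConstructible_nGeomConnComp_eq (f : X ⟶ Y) [LocallyOfFinitePresentation f] [QuasiCompact f]
    [QuasiSeparated f] (n : ℕ∞) : IsLocallyConstructible {y : Y | MoreMor.nGeomConnComp f y = n} := by
  have h := isLocallyConstructible_locus_of_isCons (isCons_hasConnCount n) f
  rwa [show ConsProp.locus (HasConnCount n) f = {y : Y | MoreMor.nGeomConnComp f y = n} from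
    Set.ext (hasConnCount_fiber_iff n f)] at h

end Groth.Agent.NearGen2
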