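import Groth.Agent.NearGen2.GeomConn
import Groth.Agent.S1334
import Groth.Agent.S1335

/-! Numbers of components of geometric fibres near the generic point. -/

set_option autoImplicit false
set_option linter.style.haveILetI false
universe u

open CategoryTheory CategoryTheory.Limits AlgebraicGeometry TopologicalSpace Topology TensorProduct

namespace Groth.Agent.NearGen2

section Topology

variable {α : Type*} {ι : Type*} [TopologicalSpace α] [Finite ι] {s : ι → Set α}

theorem irreducibleComponents_eq_range (hirr : ∀ i, IsIrreducible (s i)) (hcl : ∀ i, IsClosed (s i))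
    (hcov : ⋃ i, s i = Set.univ) (hinc : ∀ i j, s i ⊆ s j → i = j) :
    irreducibleComponents α = Set.range s := by
  classical
  have : Fintype ι := Fintype.ofFinite ι
  have key : ∀ t, IsIrreducible t → ∃ i, t ⊆ s i := by
    intro t ht
    obtain ⟨z, hz, htz⟩ := isIrreducible_iff_sUnion_isClosed.mp ht (Finset.univ.image s)
      (by intro z hz; obtain ⟨i, -, rfl⟩ := Finset.mem_image.mp hz; exact hcl i)
      (by intro x _
          obtain ⟨i, hi⟩ := Set.mem_iUnion.mp (hcov.ge (Set.mem_univ x))
          exact ⟨s i, by simp, hi⟩)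
    obtain ⟨i, -, rfl⟩ := Finset.mem_image.mp hz
    exact ⟨i, htz⟩
  ext Z
  constructor
  · intro hZ
    obtain ⟨i, hi⟩ := key Z hZ.1
    exact ⟨i, (hi.antisymm (hZ.2 (hirr i) hi)).symm⟩
  · rintro ⟨i, rfl⟩
    refine ⟨hirr i, fun t ht hle => ?_⟩
    obtain ⟨j, hj⟩ := key t ht
    obtain rfl := hinc i j (hle.trans hj)
    exact hj

theorem encard_irreducibleComponents (hirr : ∀ i, IsIrreducible (s i)) (hcl : ∀ i, IsClosed (s i))
    (hcov : ⋃ i, s i = Set.univ) (hinc : ∀ i j, s i ⊆ s j → i = j) :
    (irreducibleComponents α).encard = ENat.card ι := by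
  rw [irreducibleComponents_eq_range hirr hcl hcov hinc, ← Set.image_univ,
    (Function.Injective.encard_image fun i j h => hinc i j h.le), Set.encard_univ]

theorem card_connectedComponents (R : ι → ι → Prop) (hconn : ∀ i, _root_.IsConnected (s i))
    (hcl : ∀ i, IsClosed (s i)) (hcov : ⋃ i, s i = Set.univ) (hR : ∀ i j, (s i ∩ s j).Nonempty ↔ R i j) :
    ENat.card (_root_.ConnectedComponents α) = ENat.card (Quot R) := by
  have hx : ∀ x, ∃ i, x ∈ s i := fun x => Set.mem_iUnion.mp (hcov.ge (Set.mem_univ x))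
  choose idx hidx using hx
  let cls : α → Quot R := fun x => Quot.mk R (idx x)
  have hcls : ∀ x i, x ∈ s i → cls x = Quot.mk R i := fun x i hi => Quot.sound ((hR _ _).mp ⟨x, hidx x, hi⟩)
  have : Finite (Quot R) := Finite.of_surjective _ Quot.mk_surjective
  have hloc : IsLocallyConstant cls := IsLocallyConstant.iff_isOpen_fiber.mpr fun c => by
    have : cls ⁻¹' {c} = (⋃ i : {i // Quot.mk R i ≠ c}, s i)ᶜ := by
      ext x
      simp only [Set.mem_preimage, Set.mem_singleton_iff, Set.mem_compl_iff, Set.mem_iUnion, not_exists]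
      constructor
      · intro hx i hi
        exact i.2 ((hcls x i hi).symm.trans hx)
      · intro h
        by_contra hne
        exact h ⟨idx x, hne⟩ (hidx x)
    rw [this]
    exact (isClosed_iUnion_of_finite fun i => hcl _).isOpen_compl
  let Φ : Quot R → _root_.ConnectedComponents α := Quot.lift
    (fun i => _root_.ConnectedComponents.mk (hconn i).nonempty.some) fun i j hij => by
      obtain ⟨x, hxi, hxj⟩ := (hR i j).mpr hij
      have h1 := (hconn i).isPreconnected.subset_connectedComponent hxi (hconn i).nonempty.some_mem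
      have h2 := (hconn j).isPreconnected.subset_connectedComponent hxj (hconn j).nonempty.some_mem
      exact (_root_.ConnectedComponents.coe_eq_coe'.mpr h1).trans (_root_.ConnectedComponents.coe_eq_coe'.mpr h2).symm
  refine ENat.card_congr (Equiv.ofBijective Φ ⟨?_, ?_⟩).symm
  · intro a b
    induction a using Quot.inductionOn with | h i => ?_
    induction b using Quot.inductionOn with | h j => ?_
    intro hab
    have h1 := _root_.ConnectedComponents.coe_eq_coe'.mp hab
    have h2 := hloc.apply_eq_of_isPreconnected isPreconnected_connectedComponent h1 mem_connectedComponent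
    rwa [hcls _ i (hconn i).nonempty.some_mem, hcls _ j (hconn j).nonempty.some_mem] at h2
  · intro c
    obtain ⟨x, rfl⟩ := _root_.ConnectedComponents.surjective_coe c
    exact ⟨Quot.mk R (idx x), _root_.ConnectedComponents.coe_eq_coe'.mpr
      ((hconn _).isPreconnected.subset_connectedComponent (hidx x) (hconn _).nonempty.some_mem)⟩

end Topology

/-- A finite extension of the base ring over which the geometric components of nearby fibres are cut out by
finitely many closed subsets with prescribed incidences. -/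
theorem exists_components_model {A : CommRingCat.{u}} [IsDomain A] {Z : Scheme.{u}}
    (g : Z ⟶ Spec A) [LocallyOfFiniteType g] [QuasiCompact g] :
    ∃ (L : Type u) (_ : Field L) (_ : Algebra A L) (A' : Subalgebra A L) (_ : A'.FG)
      (_ : Function.Injective (algebraMap A A')) (ι : Type u) (_ : Finite ι) (R : ι → ι → Prop)
      (Zc : ι → Closeds ↥(pullback g (Spec.map (CommRingCat.ofHom (algebraMap A A'))))),
      Near fun q => ∀ (L' : Type u) [Field L'] (y : Spec (CommRingCat.of L') ⟶
          Spec ((Spec (CommRingCat.of A')).residueField q)),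
        let p := pullback.fst ((pullback.snd g (Spec.map (CommRingCat.ofHom (algebraMap A A')))).fiberToSpecResidueField q) y ≫
          (pullback.snd g (Spec.map (CommRingCat.ofHom (algebraMap A A')))).fiberι q
        (∀ i, IsIrreducible (p ⁻¹' (Zc i : Set _))) ∧ (⋃ i, p ⁻¹' (Zc i : Set _) = Set.univ) ∧
          (∀ i j, p ⁻¹' (Zc i : Set _) ⊆ p ⁻¹' (Zc j : Set _) → i = j) ∧
          ∀ i j, (p ⁻¹' (Zc i : Set _) ∩ p ⁻¹' (Zc j : Set _)).Nonempty ↔ R i j := by
  classical
  let K := FractionRing A
  let yK : Spec (CommRingCat.of K) ⟶ Spec A := Spec.map (CommRingCat.ofHom (algebraMap A K))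
  let gK := pullback.snd g yK
  haveI : LocallyOfFiniteType gK := inferInstanceAs (LocallyOfFiniteType (pullback.snd g yK))
  haveI : QuasiCompact gK := inferInstanceAs (QuasiCompact (pullback.snd g yK))
  have hnoeth : IsNoetherian (pullback g yK) :=
    have : IsLocallyNoetherian (pullback g yK) := LocallyOfFiniteType.isLocallyNoetherian gK
    have : CompactSpace ↥(pullback g yK) := QuasiCompact.compactSpace_of_compactSpace gK
    { }
  have : Finite ↥(irreducibleComponents ↥(pullback g yK)) :=
    TopologicalSpace.NoetherianSpace.finite_irreducibleComponents.to_subtype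
  obtain ⟨L, iL, _, hfd, -, hL⟩ := FBase64.exists_finite_separable_irreducibleComponents gK
    fun Z hZ => VarGal.residueFieldProp_finite_separableClosure _ _
  letI iAL : Algebra A L := ((algebraMap K L).comp (algebraMap A K)).toAlgebra
  haveI : IsScalarTower A K L := IsScalarTower.of_algebraMap_eq fun _ => rfl
  obtain ⟨A', hfg, hAA', hfrac⟩ := exists_fg_subalgebra_isFractionRing (A := A) L
  let t : Spec (CommRingCat.of A') ⟶ Spec A := Spec.map (CommRingCat.ofHom (algebraMap A A'))
  let g' := pullback.snd g t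
  let η := genericPoint ↥(Spec (CommRingCat.of A'))
  have hAinj : Function.Injective (algebraMap A' L) := IsFractionRing.injective A' L
  let y₀ : Spec (CommRingCat.of L) ⟶ Spec (CommRingCat.of A') :=
    Spec.map (CommRingCat.ofHom (algebraMap A' L))
  have : IsPreimmersion y₀ := IsPreimmersion.of_isLocalization (nonZeroDivisors A')
  let b : Spec (CommRingCat.of L) ⟶ Spec (CommRingCat.of K) := Spec.map (CommRingCat.ofHom (algebraMap K L))
  have hbt : b ≫ yK = y₀ ≫ t := by
    rw [← Spec.map_comp, ← Spec.map_comp, ← CommRingCat.ofHom_comp, ← CommRingCat.ofHom_comp,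
      ← IsScalarTower.algebraMap_eq, ← IsScalarTower.algebraMap_eq]
  let Q := FBase.bc gK L
  have hQ0 : IsPullback (FBase.bcπ gK L ≫ pullback.fst g yK) (FBase.bcStr gK L) g (b ≫ yK) :=
    (IsPullback.of_hasPullback gK b).paste_horiz (IsPullback.of_hasPullback g yK)
  let c : Q ⟶ pullback g t := pullback.lift (FBase.bcπ gK L ≫ pullback.fst g yK) (FBase.bcStr gK L ≫ y₀)
    (by rw [hQ0.w, Category.assoc, hbt])
  have hc : IsPullback c (FBase.bcStr gK L) g' y₀ := by
    refine IsPullback.of_right ?_ (pullback.lift_snd _ _ _) (IsPullback.of_hasPullback g t)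
    rw [pullback.lift_fst, ← hbt]
    exact hQ0
  have : IsPreimmersion c := MorphismProperty.of_isPullback hc.flip ‹_›
  have hcη : ∀ z, g' (c z) = η := fun z => by
    rw [← Scheme.Hom.comp_apply, hc.w, Scheme.Hom.comp_apply]
    exact SpecMap_apply_eq_genericPoint (A := CommRingCat.of A') _ hAinj _
  have hcrange : ∀ x, g' x = η → x ∈ Set.range c := fun x hx => by
    obtain ⟨z, hz, -⟩ := Scheme.exists_preimage_of_isPullback hc x (Classical.arbitrary _)
      (hx.trans (SpecMap_apply_eq_genericPoint (A := CommRingCat.of A') _ hAinj _).symm)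
    exact ⟨z, hz⟩
  have : IsNoetherian Q := by
    haveI i1 : LocallyOfFiniteType (FBase.bcStr gK L) :=
      MorphismProperty.of_isPullback (IsPullback.of_hasPullback gK b) (inferInstanceAs (LocallyOfFiniteType gK))
    haveI i2 : QuasiCompact (FBase.bcStr gK L) :=
      MorphismProperty.of_isPullback (IsPullback.of_hasPullback gK b) (inferInstanceAs (QuasiCompact gK))
    haveI i3 : IsLocallyNoetherian Q := LocallyOfFiniteType.isLocallyNoetherian (FBase.bcStr gK L)
    haveI i4 : CompactSpace ↥Q := QuasiCompact.compactSpace_of_compactSpace (FBase.bcStr gK L)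
    exact { }
  have hfin : Finite ↥(irreducibleComponents ↥Q) :=
    TopologicalSpace.NoetherianSpace.finite_irreducibleComponents.to_subtype
  have hcl : ∀ C : irreducibleComponents ↥Q, IsClosed C.1 := fun C => isClosed_of_mem_irreducibleComponents _ C.2
  have hcov : ⋃ C : irreducibleComponents ↥Q, C.1 = Set.univ := by
    rw [← Set.sUnion_eq_iUnion]
    exact sUnion_irreducibleComponents
  let Zc : irreducibleComponents ↥Q → Closeds ↥(pullback g t) := fun C => ⟨closure (c '' C.1), isClosed_closure⟩
  have hZc : ∀ C, c ⁻¹' (Zc C : Set ↥(pullback g t)) = C.1 := fun C => by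
    show c ⁻¹' closure (c '' C.1) = C.1
    rw [← c.isEmbedding.closure_eq_preimage_closure_image, (hcl C).closure_eq]
  refine ⟨L, iL, iAL, A', hfg, hAA', ↥(irreducibleComponents ↥Q), hfin,
    fun C D => (C.1 ∩ D.1).Nonempty, Zc, ?_⟩
  let ι := fun C => (Scheme.IdealSheafData.vanishingIdeal (Zc C)).subschemeι
  have hι : ∀ C, Set.range (ι C) = (Zc C : Set ↥(pullback g t)) := fun C =>
    SchBasics.range_vanishingIdeal_subschemeι _
  have hirr : Near fun q => ∀ C, GeometricallyIrreducible ((ι C ≫ g').fiberToSpecResidueField q) := by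
    refine Near.all fun C => ?_
    refine near_geometricallyIrreducible (ι C ≫ g')
      ⟨geometrically_iff_of_isClosedUnderIsomorphisms.mpr fun L' _ y => ?_⟩
    obtain ⟨σ, hσ⟩ := Spec.map_surjective (y ≫ (Spec (CommRingCat.of A')).fromSpecResidueField η)
    have hσinj : Function.Injective σ.hom := by
      have h0 : Spec.map σ (Classical.arbitrary _) = η := by
        rw [hσ, Scheme.Hom.comp_apply, Scheme.fromSpecResidueField_apply]
      simp only [η, genericPoint_eq_bot_of_affine] at h0
      rw [RingHom.injective_iff_ker_eq_bot, eq_bot_iff]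
      intro r hr
      have : r ∈ (Spec.map σ (Classical.arbitrary _)).asIdeal := by
        show σ.hom r ∈ PrimeSpectrum.asIdeal _
        rw [show σ.hom r = 0 from hr]
        exact zero_mem _
      rw [h0] at this
      exact this
    letI : Algebra L L' := (IsFractionRing.lift hσinj : L →+* L').toAlgebra
    have hy : Spec.map (CommRingCat.ofHom (algebraMap L L')) ≫ y₀ =
        y ≫ (Spec (CommRingCat.of A')).fromSpecResidueField η := by
      rw [← hσ, ← Spec.map_comp, ← CommRingCat.ofHom_comp]
      congr 1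
      exact CommRingCat.hom_ext (RingHom.ext fun r => IsFractionRing.lift_algebraMap hσinj r)
    have sq : IsPullback (FBase.bcπ (FBase.bcStr gK L) L' ≫ c) (FBase.bcStr (FBase.bcStr gK L) L') g'
        (Spec.map (CommRingCat.ofHom (algebraMap L L')) ≫ y₀) :=
      (IsPullback.of_hasPullback (FBase.bcStr gK L) _).paste_horiz hc
    have hpre : IsIrreducible ((FBase.bcπ (FBase.bcStr gK L) L' ≫ c) ⁻¹' Set.range (ι C)) := by
      rw [hι, Scheme.Hom.comp_base, TopCat.coe_comp, Set.preimage_comp, hZc]
      exact hL L' C.1 C.2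
    rw [hy] at sq
    have h1 := irreducibleSpace_of_preimage (ι C) g' _ sq hpre
    exact (pullbackLeftPullbackSndIso (ι C ≫ g') _ y).hom.homeomorph.irreducibleSpace_iff.mpr h1
  have hcover : Near fun q => ∀ x, g' x = q → x ∈ ⋃ C, (Zc C : Set ↥(pullback g t)) := by
    refine near_cover_closed g' (isClosed_iUnion_of_finite fun C => (Zc C).isClosed) fun x hx => ?_
    obtain ⟨z, rfl⟩ := hcrange x hx
    obtain ⟨C, hC⟩ := Set.mem_iUnion.mp (hcov.ge (Set.mem_univ z))
    exact Set.mem_iUnion.mpr ⟨C, (hZc C).ge hC⟩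
  have hne : Near fun q => ∀ p : irreducibleComponents ↥Q × irreducibleComponents ↥Q,
      p.1 ≠ p.2 → ∃ x, g' x = q ∧ x ∈ (Zc p.1 : Set ↥(pullback g t)) ∧ x ∉ Zc p.2 := by
    refine Near.all fun p => ?_
    by_cases hp : p.1 = p.2
    · exact ⟨⊤, Set.univ_nonempty, fun q _ hne => absurd hp hne⟩
    · obtain ⟨z, hz, hz'⟩ : ∃ z ∈ p.1.1, z ∉ p.2.1 := Set.not_subset.mp fun hle =>
        hp (Subtype.ext (hle.antisymm (p.1.2.2 p.2.2.1 hle)))
      obtain ⟨w, hw⟩ : c z ∈ Set.range (ι p.1) := (hι p.1).ge ((hZc p.1).ge hz)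
      refine (near_meet_open (ι p.1 ≫ g') ((Zc p.2).isClosed.isOpen_compl.preimage (ι p.1).continuous)
        (show w ∈ ι p.1 ⁻¹' (Zc p.2 : Set ↥(pullback g t))ᶜ by
          intro hmem; rw [hw] at hmem; exact hz' ((hZc p.2).le hmem))
        (by rw [Scheme.Hom.comp_apply, hw]; exact hcη z)).mono ?_
      rintro q ⟨v, hv, hv'⟩ -
      rw [Scheme.Hom.comp_apply] at hv
      exact ⟨ι p.1 v, hv, (hι p.1).le ⟨v, rfl⟩, hv'⟩
  have hmeet : Near fun q => ∀ p : irreducibleComponents ↥Q × irreducibleComponents ↥Q,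
      (p.1.1 ∩ p.2.1).Nonempty ↔ ∃ x, g' x = q ∧ x ∈ (Zc p.1 : Set ↥(pullback g t)) ∧ x ∈ Zc p.2 := by
    refine Near.all fun p => ?_
    by_cases hp : (p.1.1 ∩ p.2.1).Nonempty
    · obtain ⟨z, hz⟩ := hp
      let S : Closeds ↥(pullback g t) := Zc p.1 ⊓ Zc p.2
      let s := (Scheme.IdealSheafData.vanishingIdeal S).subschemeι
      have hs : Set.range s = (S : Set ↥(pullback g t)) := SchBasics.range_vanishingIdeal_subschemeι _
      obtain ⟨w, hw⟩ : c z ∈ Set.range s := hs.ge ⟨(hZc p.1).ge hz.1, (hZc p.2).ge hz.2⟩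
      refine (near_meet_open (s ≫ g') isOpen_univ (Set.mem_univ w)
        (by rw [Scheme.Hom.comp_apply, hw]; exact hcη z)).mono ?_
      rintro q ⟨v, hv, -⟩
      rw [Scheme.Hom.comp_apply] at hv
      exact ⟨fun _ => ⟨s v, hv, hs.le ⟨v, rfl⟩⟩, fun _ => ⟨z, hz⟩⟩
    · refine (near_avoid_closed g' ((Zc p.1).isClosed.inter (Zc p.2).isClosed) fun x hx he => hp ?_).mono ?_
      · obtain ⟨z, rfl⟩ := hcrange x he
        exact ⟨z, (hZc p.1).le hx.1, (hZc p.2).le hx.2⟩
      · exact fun q hq => ⟨fun hne => absurd hne hp, fun ⟨x, hx, h1, h2⟩ => absurd ⟨h1, h2⟩ (hq x hx)⟩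
  refine (((hirr.and hcover).and hne).and hmeet).mono ?_
  rintro q ⟨⟨⟨hI, hC⟩, hN⟩, hM⟩ L' _ y
  intro p
  have sq : IsPullback p (pullback.snd _ _) g' (y ≫ (Spec (CommRingCat.of A')).fromSpecResidueField q) :=
    (IsPullback.of_hasPullback _ y).paste_horiz (IsPullback.of_hasPullback _ _)
  have hlift : ∀ x, g' x = q → ∃ v, p v = x := fun x hx => by
    obtain ⟨v, hv, -⟩ := Scheme.exists_preimage_of_isPullback sq x (Classical.arbitrary _)
      (by rw [hx, Scheme.Hom.comp_apply, Scheme.fromSpecResidueField_apply])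
    exact ⟨v, hv⟩
  have hpq : ∀ v, g' (p v) = q := fun v => by
    simp only [p, Scheme.Hom.comp_apply]
    exact apply_fiberι g' q _
  refine ⟨fun C => ?_, Set.eq_univ_of_forall fun v => ?_, fun C D hCD => ?_, fun C D => ?_⟩
  · have h1 : IrreducibleSpace ↥(pullback (ι C ≫ g') (y ≫ (Spec (CommRingCat.of A')).fromSpecResidueField q)) :=
      (pullbackLeftPullbackSndIso (ι C ≫ g') _ y).hom.homeomorph.irreducibleSpace_iff.mp
        (pullback_of_geometrically (hI C).geometrically_irreducibleSpace L' y)
    have sq' := IsPullback.of_bot' (IsPullback.of_hasPullback (ι C ≫ g')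
      (y ≫ (Spec (CommRingCat.of A')).fromSpecResidueField q)) sq
    set m := sq.lift _ _ _
    have hr : Set.range m = p ⁻¹' (Zc C : Set ↥(pullback g t)) := by
      rw [← hι C]
      ext z
      constructor
      · rintro ⟨v, rfl⟩
        refine ⟨pullback.fst (ι C ≫ g') (y ≫ (Spec (CommRingCat.of A')).fromSpecResidueField q) v, ?_⟩
        rw [← Scheme.Hom.comp_apply, sq'.w, Scheme.Hom.comp_apply]
      · rintro ⟨b, hb⟩
        obtain ⟨v, -, hv⟩ := Scheme.exists_preimage_of_isPullback sq' b z hb
        exact ⟨v, hv⟩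
    rw [← hr, ← Set.image_univ]
    exact (IrreducibleSpace.isIrreducible_univ _).image _ m.continuous.continuousOn
  · obtain ⟨C, hC'⟩ := Set.mem_iUnion.mp (hC _ (hpq v))
    exact Set.mem_iUnion.mpr ⟨C, hC'⟩
  · by_contra hne'
    obtain ⟨x, hx, hxC, hxD⟩ := hN (C, D) hne'
    obtain ⟨v, rfl⟩ := hlift x hx
    exact hxD (hCD hxC)
  · refine Iff.trans ?_ (hM (C, D)).symm
    constructor
    · rintro ⟨v, hvC, hvD⟩
      exact ⟨p v, hpq v, hvC, hvD⟩
    · rintro ⟨x, hx, hxC, hxD⟩
      obtain ⟨v, rfl⟩ := hlift x hx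
      exact ⟨v, hxC, hxD⟩

theorem near_nGeomComp_spec {A : CommRingCat.{u}} [IsDomain A] {Z : Scheme.{u}}
    (g : Z ⟶ Spec A) [LocallyOfFiniteType g] [QuasiCompact g] :
    ∃ m n : ℕ∞, Near fun p => MoreMor.nGeomIrredComp g p = m ∧ MoreMor.nGeomConnComp g p = n := by
  obtain ⟨L, _, _, A', hfg, hinj, ι, hι, R, Zc, V', hV', hgood⟩ := exists_components_model g
  refine ⟨ENat.card ι, ENat.card (Quot R), ?_⟩
  let t : Spec (CommRingCat.of A') ⟶ Spec A := Spec.map (CommRingCat.ofHom (algebraMap A A'))
  have : LocallyOfFiniteType t := by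
    rw [HasRingHomProperty.Spec_iff (P := @LocallyOfFiniteType)]
    exact RingHom.finiteType_algebraMap.mpr ((Subalgebra.fg_iff_finiteType A').mp hfg)
  have htη : t (genericPoint ↥(Spec (CommRingCat.of A'))) = genericPoint ↥(Spec A) := by
    rw [genericPoint_eq_bot_of_affine, genericPoint_eq_bot_of_affine]
    refine PrimeSpectrum.ext ?_
    exact (RingHom.injective_iff_ker_eq_bot _).mp hinj
  refine (near_meet_open t V'.2 (((genericPoint_spec _).mem_open_set_iff V'.2).mpr (by simpa using hV')) htη).mono ?_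
  rintro p ⟨q, rfl, hq⟩
  have hpb := IsPullback.of_hasPullback g t
  rw [← S1334.result g _ _ t hpb q, ← S1335.result g _ _ t hpb q]
  obtain ⟨h1, h2, h3, h4⟩ := hgood q hq (SeparableClosure ((Spec (CommRingCat.of A')).residueField q))
    (Spec.map (CommRingCat.ofHom (algebraMap ((Spec (CommRingCat.of A')).residueField q)
      (SeparableClosure ((Spec (CommRingCat.of A')).residueField q)))))
  refine ⟨encard_irreducibleComponents h1 (fun i => (Zc i).isClosed.preimage (Scheme.Hom.continuous _)) h2 h3, ?_⟩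
  exact card_connectedComponents R (fun i => (h1 i).isConnected)
    (fun i => (Zc i).isClosed.preimage (Scheme.Hom.continuous _)) h2 h4

theorem near_nGeomComp {X Y : Scheme.{u}} [IrreducibleSpace Y] (f : X ⟶ Y) [LocallyOfFiniteType f]
    [QuasiCompact f] :
    Near fun y => MoreMor.nGeomIrredComp f y = MoreMor.nGeomIrredComp f (genericPoint Y) ∧
      MoreMor.nGeomConnComp f y = MoreMor.nGeomConnComp f (genericPoint Y) := by
  obtain ⟨M⟩ := exists_model f
  obtain ⟨m, n, h⟩ := near_nGeomComp_spec M.fam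
  have h' : Near fun y => MoreMor.nGeomIrredComp f y = m ∧ MoreMor.nGeomConnComp f y = n := by
    refine M.near (h.mono fun p hp => ?_)
    rwa [S1334.result f _ _ M.r M.isPullback p, S1335.result f _ _ M.r M.isPullback p] at hp
  obtain ⟨h1, h2⟩ := h'.at_generic
  rw [h1, h2]
  exact h'

end Groth.Agent.NearGen2
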