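import Groth.Agent.ConsProp93.Basic
import Groth.Agent.Cons62.FibrePreds
import Groth.Agent.SchBasics.Reduced
import Groth.Agent.E4O.InfNbhd
import Groth.Agent.FlatCrit65.GenFlat
import Mathlib.AlgebraicGeometry.FunctionField
import Mathlib.AlgebraicGeometry.Geometrically.Basic

/-! Properties of fibres near the generic point of an irreducible base (EGA IV 9.5–9.7). -/

set_option autoImplicit false
set_option linter.style.haveILetI false
universe u

open CategoryTheory CategoryTheory.Limits AlgebraicGeometry TopologicalSpace Topology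

namespace Groth.Agent.NearGen2

variable {X Y : Scheme.{u}}

/-- `Q` holds on a nonempty open of `Y`. -/
def Near (Q : Y → Prop) : Prop := ∃ V : Y.Opens, (V : Set Y).Nonempty ∧ ∀ y ∈ V, Q y

theorem Near.mono {Q R : Y → Prop} (h : Near Q) (hQR : ∀ y, Q y → R y) : Near R := by
  obtain ⟨V, hV, h⟩ := h
  exact ⟨V, hV, fun y hy => hQR y (h y hy)⟩

theorem Near.at_generic [IrreducibleSpace Y] {Q : Y → Prop} (h : Near Q) : Q (genericPoint Y) := by
  obtain ⟨V, hV, h⟩ := h
  exact h _ (((genericPoint_spec Y).mem_open_set_iff V.2).mpr (by simpa using hV))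

theorem Near.and [IrreducibleSpace Y] {Q R : Y → Prop} (h : Near Q) (h' : Near R) :
    Near fun y => Q y ∧ R y := by
  obtain ⟨V, hV, h⟩ := h
  obtain ⟨W, hW, h'⟩ := h'
  refine ⟨V ⊓ W, ⟨genericPoint Y, ((genericPoint_spec Y).mem_open_set_iff V.2).mpr (by simpa using hV),
    ((genericPoint_spec Y).mem_open_set_iff W.2).mpr (by simpa using hW)⟩, fun y hy => ⟨h y hy.1, h' y hy.2⟩⟩

theorem Near.all [IrreducibleSpace Y] {ι : Sort*} [Finite ι] {Q : ι → Y → Prop} (h : ∀ i, Near (Q i)) :
    Near fun y => ∀ i, Q i y := by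
  choose V hV h using h
  refine ⟨⟨⋂ i, (V i : Set Y), isOpen_iInter_of_finite fun i => (V i).2⟩, ⟨genericPoint Y, ?_⟩,
    fun y hy i => h i y (Set.mem_iInter.mp hy i)⟩
  exact Set.mem_iInter.mpr fun i => ((genericPoint_spec Y).mem_open_set_iff (V i).2).mpr (by simpa using hV i)

theorem near_of_mem_interior [IrreducibleSpace Y] {Q : Y → Prop}
    (h : genericPoint Y ∈ interior {y | Q y}) : Near Q :=
  ⟨⟨_, isOpen_interior⟩, ⟨_, h⟩, fun _ hy => interior_subset hy⟩

theorem near_of_isLocallyConstructible [IrreducibleSpace Y] {Q : Y → Prop}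
    (hc : IsLocallyConstructible {y | Q y}) (h : Q (genericPoint Y)) : Near Q :=
  near_of_mem_interior (ConsProp93.genericPoint_mem_interior (ConsPts12.isLocallyConstructible_iff.mp hc).1 h)

/-- For a quasi-compact morphism, a closed subset missing the generic fibre misses all nearby fibres. -/
theorem near_avoid_closed [IrreducibleSpace Y] (f : X ⟶ Y) [QuasiCompact f] {C : Set X} (hC : IsClosed C)
    (h : ∀ x ∈ C, f x ≠ genericPoint Y) : Near fun y => ∀ x, f x = y → x ∉ C := by
  let ι := (Scheme.IdealSheafData.vanishingIdeal (⟨C, hC⟩ : Closeds X)).subschemeι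
  have hr : Set.range ι = C := SchBasics.range_vanishingIdeal_subschemeι _
  have hp := ConsPts12.isProConstructible_image (ι ≫ f) (ConsPts12.isProConstructible_univ _)
  have hp' : ProCons.IsIndConstructible ((ι ≫ f) '' Set.univ)ᶜ := by
    rw [ConsPts12.isIndConstructible_iff, compl_compl, ← ConsPts12.isProConstructible_iff]
    exact hp
  have hg : genericPoint Y ∈ ((ι ≫ f) '' Set.univ)ᶜ := by
    rintro ⟨z, -, hz⟩
    rw [Scheme.Hom.comp_apply] at hz
    exact h (ι z) (hr.le ⟨z, rfl⟩) hz
  refine near_of_mem_interior (interior_mono ?_ (ConsProp93.genericPoint_mem_interior hp' hg))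
  intro y hy x hx hxC
  obtain ⟨z, rfl⟩ := hr.ge hxC
  exact hy ⟨z, trivial, by rw [Scheme.Hom.comp_apply]; exact hx⟩

/-- An affine flat finitely presented model of `f` over a nonempty open of the reduction of `Y`. -/
structure Model (f : X ⟶ Y) where
  A : CommRingCat.{u}
  domain : IsDomain A
  r : Spec A ⟶ Y
  preimm : IsPreimmersion r
  isOpen_range : IsOpen (Set.range r)
  flat : Flat (pullback.snd f r)
  lfp : LocallyOfFinitePresentation (pullback.snd f r)

attribute [instance] Model.domain Model.preimm Model.flat Model.lfp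

theorem exists_model [IrreducibleSpace Y] (f : X ⟶ Y) [LocallyOfFiniteType f] [QuasiCompact f] :
    Nonempty (Model f) := by
  let i := (Scheme.IdealSheafData.vanishingIdeal (⊤ : Closeds Y)).subschemeι
  have : IsReduced (Scheme.IdealSheafData.vanishingIdeal (⊤ : Closeds Y)).subscheme :=
    SchBasics.isReduced_vanishingIdeal_subscheme _
  have hs : Function.Surjective i :=
    Set.range_eq_univ.mp (SchBasics.range_vanishingIdeal_subschemeι _)
  let e := i.isClosedEmbedding.isEmbedding.toHomeomorphOfSurjective hs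
  have : IrreducibleSpace (Scheme.IdealSheafData.vanishingIdeal (⊤ : Closeds Y)).subscheme :=
    e.irreducibleSpace_iff.mpr inferInstance
  have := isIntegral_of_irreducibleSpace_of_isReduced (Scheme.IdealSheafData.vanishingIdeal (⊤ : Closeds Y)).subscheme
  let f₁ := pullback.snd f i
  obtain ⟨U, hU, hflat, hlfp⟩ := FlatCrit65.exists_dense_flat_lfp f₁
  obtain ⟨p, hp⟩ := hU.nonempty
  obtain ⟨_, ⟨W, hW, rfl⟩, hpW, hWU⟩ :=
    (Scheme.IdealSheafData.vanishingIdeal (⊤ : Closeds Y)).subscheme.isBasis_affineOpens.exists_subset_of_mem_open hp U.2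
  replace hW : IsAffineOpen W := hW
  have : Nonempty W := ⟨⟨p, hpW⟩⟩
  let j := IsOpenImmersion.lift U.ι hW.fromSpec (by rw [hW.range_fromSpec, Scheme.Opens.range_ι]; exact hWU)
  have hj : j ≫ U.ι = hW.fromSpec := IsOpenImmersion.lift_fac _ _ _
  have h1 := (IsPullback.of_hasPullback (f₁ ∣_ U) j).paste_horiz (isPullback_morphismRestrict f₁ U).flip
  rw [hj] at h1
  have h2 := h1.paste_horiz (IsPullback.of_hasPullback f i)
  refine ⟨⟨Γ(_, W), inferInstance, hW.fromSpec ≫ i, inferInstance, ?_, ?_, ?_⟩⟩
  · rw [Scheme.Hom.comp_base, TopCat.coe_comp, Set.range_comp, hW.range_fromSpec]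
    exact e.isOpenMap _ W.2
  · rw [← h2.isoPullback_inv_snd]
    have : Flat (pullback.snd (f₁ ∣_ U) j) := MorphismProperty.pullback_snd _ _ hflat
    infer_instance
  · rw [← h2.isoPullback_inv_snd]
    have : LocallyOfFinitePresentation (pullback.snd (f₁ ∣_ U) j) := MorphismProperty.pullback_snd _ _ hlfp
    infer_instance

namespace Model

variable {f : X ⟶ Y} (M : Model f)

/-- The base changed family. -/
noncomputable def fam : pullback f M.r ⟶ Spec M.A := pullback.snd f M.r

noncomputable def proj : pullback f M.r ⟶ X := pullback.fst f M.r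

theorem isPullback : IsPullback M.proj M.fam f M.r := IsPullback.of_hasPullback f M.r

instance : Flat M.fam := M.flat
instance : LocallyOfFinitePresentation M.fam := M.lfp
instance [QuasiCompact f] : QuasiCompact M.fam := inferInstanceAs (QuasiCompact (pullback.snd f M.r))
instance : IsPreimmersion M.proj := inferInstanceAs (IsPreimmersion (pullback.fst f M.r))

theorem apply_proj (x : ↥(pullback f M.r)) : f (M.proj x) = M.r (M.fam x) := by
  rw [← Scheme.Hom.comp_apply, M.isPullback.w, Scheme.Hom.comp_apply]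

theorem exists_proj_eq {x : X} {p : Spec M.A} (h : f x = M.r p) :
    ∃ x', M.proj x' = x ∧ M.fam x' = p :=
  Scheme.exists_preimage_of_isPullback M.isPullback x p h

theorem fam_eq {x : ↥(pullback f M.r)} {p : Spec M.A} (h : f (M.proj x) = M.r p) : M.fam x = p :=
  M.r.isEmbedding.injective (by rw [← M.apply_proj, h])

theorem near {Q : Y → Prop} (h : Near fun p => Q (M.r p)) : Near Q := by
  obtain ⟨V, hV, h⟩ := h
  refine ⟨⟨M.r '' V, (IsOpenEmbedding.mk M.r.isEmbedding M.isOpen_range).isOpenMap _ V.2⟩, hV.image _, ?_⟩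
  rintro _ ⟨p, hp, rfl⟩
  exact h p hp

theorem r_genericPoint [IrreducibleSpace Y] : M.r (genericPoint ↥(Spec M.A)) = genericPoint Y := by
  obtain ⟨p, hp⟩ : genericPoint Y ∈ Set.range M.r :=
    ((genericPoint_spec Y).mem_open_set_iff M.isOpen_range).mpr
      (by simpa using Set.range_nonempty M.r)
  exact ((hp ▸ (genericPoint_specializes p).map M.r.continuous).antisymm (genericPoint_specializes _)).eq

/-- Fibres are unchanged by passing to the model. -/
theorem exists_fiber_iso (p : Spec M.A) :
    ∃ m : M.fam.fiber p ⟶ f.fiber (M.r p), IsIso m ∧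
      m ≫ f.fiberι (M.r p) = M.fam.fiberι p ≫ M.proj ∧
      m ≫ f.fiberToSpecResidueField (M.r p) =
        M.fam.fiberToSpecResidueField p ≫ Spec.map (M.r.residueFieldMap p) := by
  have h := isPullback_fiberToSpecResidueField_of_isPullback M.isPullback p
  have : IsIso (M.r.residueFieldMap p) :=
    (ConcreteCategory.isIso_iff_bijective _).mpr (E4O.residueFieldMap_bijective_of_preimmersion M.r p)
  have : IsIso (pullback.map M.fam ((Spec M.A).fromSpecResidueField p) f (Y.fromSpecResidueField (M.r p))
      M.proj (Spec.map (M.r.residueFieldMap p)) M.r M.isPullback.w.symm (by simp)) :=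
    h.isIso_fst_of_isIso
  exact ⟨_, this, pullback.lift_fst _ _ _, pullback.lift_snd _ _ _⟩

theorem fiber_prop_iff (P : MorphismProperty Scheme.{u}) [P.RespectsIso] (p : Spec M.A) :
    P (M.fam.fiberToSpecResidueField p) ↔ P (f.fiberToSpecResidueField (M.r p)) := by
  obtain ⟨m, hm, -, h⟩ := M.exists_fiber_iso p
  have : IsIso (M.r.residueFieldMap p) :=
    (ConcreteCategory.isIso_iff_bijective _).mpr (E4O.residueFieldMap_bijective_of_preimmersion M.r p)
  rw [← P.cancel_right_of_respectsIso (M.fam.fiberToSpecResidueField p) (Spec.map (M.r.residueFieldMap p)), ← h,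
    P.cancel_left_of_respectsIso]

end Model

variable [IrreducibleSpace Y] (f : X ⟶ Y) [LocallyOfFiniteType f] [QuasiCompact f]

/-- An open subset missing the generic fibre misses all nearby fibres. -/
theorem near_avoid_open {W : Set X} (hW : IsOpen W) (h : ∀ x ∈ W, f x ≠ genericPoint Y) :
    Near fun y => ∀ x, f x = y → x ∉ W := by
  obtain ⟨M⟩ := exists_model f
  refine M.near ⟨⊤, Set.univ_nonempty, fun p _ x hx hxW => ?_⟩
  obtain ⟨x', rfl, rfl⟩ := M.exists_proj_eq hx
  obtain ⟨z, hz, hzg⟩ := Flat.generalizingMap M.fam (genericPoint_specializes (M.fam x'))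
  refine h (M.proj z) ((hz.map M.proj.continuous).mem_open hW hxW) ?_
  rw [M.apply_proj, hzg, M.r_genericPoint]

/-- An open subset meeting the generic fibre meets all nearby fibres. -/
theorem near_meet_open {W : Set X} (hW : IsOpen W) {x : X} (hx : x ∈ W) (h : f x = genericPoint Y) :
    Near fun y => ∃ x, f x = y ∧ x ∈ W := by
  obtain ⟨M⟩ := exists_model f
  refine M.near ⟨⟨M.fam '' (M.proj ⁻¹' W), M.fam.isOpenMap _ (hW.preimage M.proj.continuous)⟩, ?_, ?_⟩
  · obtain ⟨x', rfl, -⟩ := M.exists_proj_eq (x := x) (p := genericPoint ↥(Spec M.A))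
      (h.trans M.r_genericPoint.symm)
    exact ⟨_, x', hx, rfl⟩
  · rintro p ⟨x', hx', rfl⟩
    exact ⟨M.proj x', M.apply_proj x', hx'⟩

/-- A closed subset containing the generic fibre contains all nearby fibres. -/
theorem near_cover_closed {T : Set X} (hT : IsClosed T) (h : ∀ x, f x = genericPoint Y → x ∈ T) :
    Near fun y => ∀ x, f x = y → x ∈ T :=
  (near_avoid_open f hT.isOpen_compl fun x hx he => hx (h x he)).mono fun _ hy x hx =>
    not_not.mp (hy x hx)

end Groth.Agent.NearGen2
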