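import Groth.Agent.NearGen2.Basic

/-! An open set dense in the generic fibre is dense in nearby fibres. -/

set_option autoImplicit false
set_option linter.style.haveILetI false
universe u

open CategoryTheory CategoryTheory.Limits AlgebraicGeometry TopologicalSpace Topology

namespace Groth.Agent.NearGen2

/-- The affine case over an integral affine base. -/
theorem near_dense_affine {A : CommRingCat.{u}} [IsDomain A] {P : Scheme.{u}} [IsAffine P]
    (g : P ⟶ Spec A) [LocallyOfFinitePresentation g] [QuasiCompact g] {W : Set P} (hW : IsOpen W)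
    (h : g ⁻¹' {genericPoint ↥(Spec A)} ⊆ closure (W ∩ g ⁻¹' {genericPoint ↥(Spec A)})) :
    Near fun p => g ⁻¹' {p} ⊆ closure (W ∩ g ⁻¹' {p}) := by
  set η := genericPoint ↥(Spec A)
  have : IsLocallyNoetherian (g.fiber η) :=
    have : LocallyOfFiniteType (g.fiberToSpecResidueField η) :=
      inferInstanceAs (LocallyOfFiniteType (pullback.snd g _))
    LocallyOfFiniteType.isLocallyNoetherian (g.fiberToSpecResidueField η)
  have : IsNoetherian (g.fiber η) := { }
  have hK : IsCompact (W ∩ g ⁻¹' {η}) := by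
    rw [← g.range_fiberι η, ← Set.image_preimage_eq_inter_range]
    exact (NoetherianSpace.isCompact _).image (g.fiberι η).continuous
  obtain ⟨U, hU, hUo, hUW, hKU⟩ : ∃ U : Set P, IsCompact U ∧ IsOpen U ∧ U ⊆ W ∧ W ∩ g ⁻¹' {η} ⊆ U := by
    have hcov : ∀ x ∈ W ∩ g ⁻¹' {η}, ∃ V : P.Opens, IsCompact (V : Set P) ∧ x ∈ V ∧ (V : Set P) ⊆ W := by
      intro x hx
      obtain ⟨_, ⟨V, hV, rfl⟩, hxV, hVW⟩ := P.isBasis_affineOpens.exists_subset_of_mem_open hx.1 hW
      exact ⟨V, IsAffineOpen.isCompact hV, hxV, hVW⟩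
    choose V hVc hxV hVW using hcov
    obtain ⟨t, ht⟩ := hK.elim_finite_subcover (fun x : ↥(W ∩ g ⁻¹' {η}) => (V x.1 x.2 : Set P))
      (fun x => (V x.1 x.2).2) (fun x hx => Set.mem_iUnion.mpr ⟨⟨x, hx⟩, hxV x hx⟩)
    exact ⟨_, t.finite_toSet.isCompact_biUnion fun x _ => hVc x.1 x.2,
      isOpen_biUnion fun x _ => (V x.1 x.2).2, Set.iUnion₂_subset fun x _ => hVW x.1 x.2, ht⟩
  have hUc : IsLocallyConstructible U := ((hU.isRetrocompact hUo).isConstructible hUo).isLocallyConstructible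
  have huniv : IsLocallyConstructible (Set.univ : Set P) := IsLocallyConstructible.univ
  have hiff : ∀ p, g.fiberι p ⁻¹' Set.univ ⊆ closure (g.fiberι p ⁻¹' U) ↔
      g ⁻¹' {p} ⊆ closure (U ∩ g ⁻¹' {p}) := fun p => by
    rw [Cons62.closure_fiberι_preimage, ← g.range_fiberι p]
    exact ⟨fun h x hx => by obtain ⟨z, rfl⟩ := hx; exact h (Set.mem_univ z), fun h z _ => h ⟨z, rfl⟩⟩
  have hη : g.fiberι η ⁻¹' Set.univ ⊆ closure (g.fiberι η ⁻¹' U) :=
    (hiff η).mpr (h.trans (closure_mono fun x hx => ⟨hKU hx, hx.2⟩))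
  exact (near_of_isLocallyConstructible (Cons62.cons_dense g hUc huniv) hη).mono fun p hp =>
    ((hiff p).mp hp).trans (closure_mono (Set.inter_subset_inter_left _ hUW))

variable {X Y : Scheme.{u}} [IrreducibleSpace Y] (f : X ⟶ Y) [LocallyOfFiniteType f] [QuasiCompact f]

/-- An open set dense in the generic fibre is dense in nearby fibres. -/
theorem near_dense {W : Set X} (hW : IsOpen W)
    (h : f ⁻¹' {genericPoint Y} ⊆ closure (W ∩ f ⁻¹' {genericPoint Y})) :
    Near fun y => f ⁻¹' {y} ⊆ closure (W ∩ f ⁻¹' {y}) := by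
  obtain ⟨M⟩ := exists_model f
  refine M.near ?_
  have hfib : ∀ p, M.proj '' (M.proj ⁻¹' W ∩ M.fam ⁻¹' {p}) = W ∩ f ⁻¹' {M.r p} := fun p => by
    ext x
    constructor
    · rintro ⟨x', ⟨hx', rfl⟩, rfl⟩
      exact ⟨hx', M.apply_proj x'⟩
    · rintro ⟨hxW, hx⟩
      obtain ⟨x', rfl, rfl⟩ := M.exists_proj_eq hx
      exact ⟨x', ⟨hxW, rfl⟩, rfl⟩
  have : CompactSpace ↥(pullback f M.r) := QuasiCompact.compactSpace_of_compactSpace M.fam
  let 𝒰 := (pullback f M.r).affineCover.finiteSubcover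
  have hi : ∀ i, Near fun p => (𝒰.f i ≫ M.fam) ⁻¹' {p} ⊆
      closure (𝒰.f i ⁻¹' (M.proj ⁻¹' W) ∩ (𝒰.f i ≫ M.fam) ⁻¹' {p}) := by
    intro i
    have : QuasiCompact (𝒰.f i ≫ M.fam) := HasAffineProperty.iff_of_isAffine.mpr (by infer_instance)
    refine near_dense_affine _ ((hW.preimage M.proj.continuous).preimage (𝒰.f i).continuous) ?_
    intro z hz
    have hz' : M.fam (𝒰.f i z) = genericPoint ↥(Spec M.A) := by rwa [← Scheme.Hom.comp_apply]
    have h2 : 𝒰.f i z ∈ closure (M.proj ⁻¹' W ∩ M.fam ⁻¹' {genericPoint ↥(Spec M.A)}) := by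
      rw [M.proj.isEmbedding.closure_eq_preimage_closure_image, Set.mem_preimage, hfib, M.r_genericPoint]
      refine h ?_
      show f (M.proj (𝒰.f i z)) = _
      rw [M.apply_proj, hz', M.r_genericPoint]
    have h3 : z ∈ 𝒰.f i ⁻¹' closure (M.proj ⁻¹' W ∩ M.fam ⁻¹' {genericPoint ↥(Spec M.A)}) := h2
    rw [(𝒰.f i).isOpenEmbedding.isOpenMap.preimage_closure_eq_closure_preimage (𝒰.f i).continuous,
      Set.preimage_inter] at h3
    convert h3 using 3
    ext w
    simp [Scheme.Hom.comp_apply]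
  refine (Near.all hi).mono fun p hp x hx => ?_
  obtain ⟨x', rfl, hx'⟩ := M.exists_proj_eq hx
  rw [← hfib p]
  refine image_closure_subset_closure_image M.proj.continuous ⟨x', ?_, rfl⟩
  obtain ⟨i, z, rfl⟩ : ∃ i z, 𝒰.f i z = x' := ⟨_, 𝒰.covers x'⟩
  have h4 := hp i (show z ∈ (𝒰.f i ≫ M.fam) ⁻¹' {p} by
    rw [Set.mem_preimage, Scheme.Hom.comp_apply]; exact hx')
  refine closure_mono ?_ (image_closure_subset_closure_image (𝒰.f i).continuous ⟨z, h4, rfl⟩)
  rintro _ ⟨w, ⟨hw1, hw2⟩, rfl⟩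
  exact ⟨hw1, by rw [Set.mem_preimage, Scheme.Hom.comp_apply] at hw2; exact hw2⟩

end Groth.Agent.NearGen2
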