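import Groth.Agent.Cons62.Core
import Groth.Agent.FlatCrit65.GenFree
import Mathlib.LinearAlgebra.TensorProduct.Pi

/-! Injectivity of restriction to a union of basic opens spreads from the generic fibre. -/

set_option autoImplicit false
set_option linter.style.haveILetI false
universe u

open TensorProduct

namespace Groth.Agent.NearGen2

/-- If a family has no common annihilator then neither do its powers. -/
theorem eq_zero_of_pow_mul {C ι : Type*} [CommRing C] [Fintype ι] (g : ι → C)
    (h : ∀ c : C, (∀ l, g l * c = 0) → c = 0) (c : C) (hc : ∀ l, ∃ N : ℕ, g l ^ N * c = 0) : c = 0 := by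
  classical
  choose e he using hc
  suffices ∀ n, ∀ (e : ι → ℕ) (c : C), ∑ l, e l = n → (∀ l, g l ^ e l * c = 0) → c = 0 from
    this _ e c rfl he
  intro n
  induction n using Nat.strong_induction_on with
  | _ n ih =>
    intro e c hn hc
    by_cases h0 : ∃ l, e l = 0
    · obtain ⟨l, hl⟩ := h0
      simpa [hl] using hc l
    · push Not at h0
      refine h c fun l => ih (∑ j, (e - Pi.single l 1 : ι → ℕ) j) ?_ (e - Pi.single l 1 : ι → ℕ) _ rfl fun j => ?_
      · rw [← hn]
        refine Finset.sum_lt_sum (fun j _ => Nat.sub_le _ _) ⟨l, Finset.mem_univ l, ?_⟩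
        simp only [Pi.sub_apply, Pi.single_eq_same]
        exact Nat.sub_lt (Nat.pos_of_ne_zero (h0 l)) one_pos
      · rcases eq_or_ne j l with rfl | hjl
        · simp only [Pi.sub_apply, Pi.single_eq_same]
          rw [← mul_assoc, ← pow_succ, Nat.sub_add_cancel (Nat.pos_of_ne_zero (h0 j))]
          exact hc j
        · simp only [Pi.sub_apply, Pi.single_eq_of_ne hjl, Nat.sub_zero]
          rw [mul_left_comm, hc j, mul_zero]

theorem piRight_baseChange_mul {A B L ι : Type u} [CommRing A] [CommRing B] [Algebra A B] [CommRing L]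
    [Algebra A L] [Fintype ι] [DecidableEq ι] (g : ι → B) (c : L ⊗[A] B) (l : ι) :
    TensorProduct.piRight A L L (fun _ : ι => B) ((LinearMap.pi fun l => LinearMap.mulLeft A (g l)).baseChange L c) l =
      ((1 : L) ⊗ₜ[A] g l) * c := by
  induction c using TensorProduct.induction_on with
  | zero => simp
  | tmul a b => simp [Algebra.TensorProduct.tmul_mul_tmul]
  | add x y hx hy => rw [map_add, map_add, Pi.add_apply, hx, hy, mul_add]

/-- If a finite family has no common annihilator in the generic fibre, the same holds over a nonempty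
open of the base. -/
theorem exists_no_common_annihilator {A B ι : Type u} [CommRing A] [IsDomain A] [CommRing B] [Algebra A B]
    [Algebra.FiniteType A B] [Module.Flat A B] [Fintype ι] (g : ι → B)
    (K : Type u) [Field K] [Algebra A K] (hK : Function.Injective (algebraMap A K))
    (h : ∀ c : K ⊗[A] B, (∀ l, ((1 : K) ⊗ₜ[A] g l) * c = 0) → c = 0) :
    ∃ a : A, a ≠ 0 ∧ ∀ (L : Type u) [Field L] [Algebra A L], algebraMap A L a ≠ 0 →
      ∀ c : L ⊗[A] B, (∀ l, ((1 : L) ⊗ₜ[A] g l) * c = 0) → c = 0 := by
  classical
  let μB : B →ₗ[B] (ι → B) := LinearMap.pi fun l => LinearMap.mulLeft B (g l)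
  let μ : B →ₗ[A] (ι → B) := LinearMap.pi fun l => LinearMap.mulLeft A (g l)
  have hμ : Function.Injective μ := by
    rw [injective_iff_map_eq_zero]
    intro b hb
    apply Algebra.TensorProduct.includeRight_injective (R := A) (A := K) (B := B) hK
    rw [map_zero]
    refine h _ fun l => ?_
    rw [Algebra.TensorProduct.includeRight_apply, Algebra.TensorProduct.tmul_mul_tmul,
      show g l * b = 0 from congrFun hb l, TensorProduct.tmul_zero]
  obtain ⟨f, hf, hfree, -⟩ := FlatCrit65.generic_freeness (R := A) (S := B) (M := (ι → B) ⧸ LinearMap.range μB)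
  have hrange : LinearMap.range μ = (LinearMap.range μB).restrictScalars A := SetLike.ext fun _ => Iff.rfl
  have hfree' : GenFree62.FreeAway f ((ι → B) ⧸ LinearMap.range μ) :=
    hfree.of_equiv ((Submodule.Quotient.restrictScalarsEquiv A (LinearMap.range μB)).symm ≪≫ₗ
      Submodule.quotEquivOfEq _ _ hrange.symm)
  refine ⟨f, hf, fun L _ _ hL c hc => ?_⟩
  apply Cons62.baseChange_injective_of_freeAway μ hμ hfree' L hL.isUnit
  rw [map_zero]
  apply (TensorProduct.piRight A L L (fun _ : ι => B)).injective
  rw [map_zero]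
  funext l
  rw [piRight_baseChange_mul, hc l, Pi.zero_apply]

end Groth.Agent.NearGen2
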