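import Groth.Agent.NearGen2.GeomConn
import Groth.Agent.Dix2.Spread
import Mathlib.AlgebraicGeometry.Morphisms.Etale
import Mathlib.AlgebraicGeometry.Morphisms.Finite

/-! A finite étale base change over an open, after which the components of the generic fibre are geometrically
irreducible. -/

set_option autoImplicit false
set_option linter.style.haveILetI false
universe u

open CategoryTheory CategoryTheory.Limits AlgebraicGeometry TopologicalSpace Topology Polynomial

namespace Groth.Agent.NearGen2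

theorem SpecMap_evaluation_fromSpec {Y : Scheme.{u}} {U : Y.Opens} (hU : IsAffineOpen U) (y : Y) (hy : y ∈ U) :
    Spec.map (Y.evaluation U y hy) ≫ hU.fromSpec = Y.fromSpecResidueField y := by
  rw [Scheme.evaluation, Spec.map_comp, Category.assoc, Scheme.fromSpecResidueField,
    ← hU.fromSpecStalk_eq_fromSpecStalk hy]
  rfl

theorem exists_affine_lifts {Y : Scheme.{u}} (y : Y) (s : Finset (Y.residueField y)) :
    ∃ (U : Y.Opens) (_ : IsAffineOpen U) (hy : y ∈ U), ∀ x ∈ s, x ∈ Set.range (Y.evaluation U y hy) := by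
  classical
  induction s using Finset.induction with
  | empty =>
    obtain ⟨U, hU, hy, -⟩ := exists_isAffineOpen_mem_and_subset (U := ⊤) (Opens.mem_top y)
    exact ⟨U, hU, hy, by simp⟩
  | insert a s _ ih =>
    obtain ⟨U, hU, hy, hs⟩ := ih
    obtain ⟨a', ha'⟩ := Y.residue_surjective y a
    obtain ⟨V, hyV, r, hr⟩ := Y.presheaf.exists_germ_eq a'
    obtain ⟨W, hW, hyW, hWUV⟩ := exists_isAffineOpen_mem_and_subset (U := U ⊓ V) ⟨hy, hyV⟩
    refine ⟨W, hW, hyW, fun x hx => ?_⟩
    have hres : ∀ {O : Y.Opens} (h : W ≤ O) (t : Γ(Y, O)),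
        Y.evaluation W y hyW (Y.presheaf.map (homOfLE h).op t) = Y.evaluation O y (h hyW) t := by
      intro O h t
      show Y.residue y (Y.presheaf.germ W y hyW (Y.presheaf.map (homOfLE h).op t)) = Y.residue y _
      rw [TopCat.Presheaf.germ_res_apply]
      rfl
    rcases Finset.mem_insert.mp hx with rfl | hx
    · refine ⟨Y.presheaf.map (homOfLE (show W ≤ V from fun p hp => (hWUV hp).2)).op r, ?_⟩
      rw [hres]
      show Y.residue y (Y.presheaf.germ V y hyV r) = _
      rw [hr, ha']
    · obtain ⟨t, rfl⟩ := hs x hx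
      exact ⟨Y.presheaf.map (homOfLE (show W ≤ U from fun p hp => (hWUV hp).1)).op t, hres _ t⟩

theorem isNilpotent_of_evaluation_eq_zero {Y : Scheme.{u}} [IrreducibleSpace Y] {U : Y.Opens} (hU : IsAffineOpen U)
    (hy : genericPoint Y ∈ U) {r : Γ(Y, U)} (h : Y.evaluation U (genericPoint Y) hy r = 0) : IsNilpotent r := by
  refine (Scheme.isNilpotent_iff_basicOpen_eq_bot_of_isCompact hU.isCompact r).mpr ?_
  rw [Scheme.evaluation_eq_zero_iff_notMem_basicOpen] at h
  by_contra hne
  exact h (((genericPoint_spec Y).mem_open_set_iff (Y.basicOpen r).2).mpr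
    (by simpa using (TopologicalSpace.Opens.ne_bot_iff_nonempty _).mp hne))

/-- Lifting a finite separable extension to a finite étale algebra. -/
theorem exists_finite_etale_lift {R K L : Type u} [CommRing R] [Field K] [Field L] [Algebra K L]
    [FiniteDimensional K L] [Algebra.IsSeparable K L] (ev : R →+* K)
    (hnil : ∀ r, ev r = 0 → IsNilpotent r)
    (pb : PowerBasis K L) (F : R[X]) (hF : F.Monic) (hFmap : F.map ev = minpoly K pb.gen)
    (a b : R[X]) (hab : (a * F + b * derivative F).map ev = 1) :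
    ∃ (τ : AdjoinRoot F →+* L), (∀ r, τ (AdjoinRoot.of F r) = algebraMap K L (ev r)) ∧
      τ (AdjoinRoot.root F) = pb.gen ∧ RingHom.ker τ = nilradical (AdjoinRoot F) ∧
      Algebra.Etale R (AdjoinRoot F) := by
  have hz : F.eval₂ ((algebraMap K L).comp ev) pb.gen = 0 := by
    rw [← eval₂_map, hFmap]; exact minpoly.aeval K pb.gen
  let τ := AdjoinRoot.lift ((algebraMap K L).comp ev) pb.gen hz
  refine ⟨τ, fun r => AdjoinRoot.lift_of _, AdjoinRoot.lift_root _, le_antisymm ?_ ?_, ?_⟩
  · intro x hx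
    obtain ⟨q, rfl⟩ := AdjoinRoot.mk_surjective x
    have hmod : AdjoinRoot.mk F q = AdjoinRoot.mk F (q %ₘ F) := by
      rw [AdjoinRoot.mk_eq_mk]
      exact ⟨q /ₘ F, by rw [sub_eq_iff_eq_add']; exact (Polynomial.modByMonic_add_div q F).symm⟩
    rw [hmod] at hx ⊢
    set r := q %ₘ F
    have h1 : aeval pb.gen (r.map ev) = 0 := by
      rw [aeval_def, eval₂_map]
      exact (AdjoinRoot.lift_mk _ r).symm.trans hx
    have h2 : r.map ev = 0 := by
      by_contra h0
      have h3 := minpoly.degree_le_of_ne_zero K pb.gen h0 h1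
      rw [← hFmap, hF.degree_map] at h3
      have : Nontrivial R := ev.domain_nontrivial
      exact absurd (h3.trans (degree_map_le.trans le_rfl)) (not_le.mpr (Polynomial.degree_modByMonic_lt q hF))
    rw [mem_nilradical]
    refine IsNilpotent.map (r := r) (Polynomial.isNilpotent_iff.mpr fun i => hnil _ ?_) _
    rw [← Polynomial.coeff_map, h2, coeff_zero]
  · intro x hx
    exact ((mem_nilradical.mp hx).map τ).eq_zero
  · have he : IsNilpotent (a * F + b * derivative F - 1) := by
      refine Polynomial.isNilpotent_iff.mpr fun i => hnil _ ?_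
      rw [← Polynomial.coeff_map, Polynomial.map_sub, hab, Polynomial.map_one, sub_self, coeff_zero]
    obtain ⟨u, hu⟩ : IsUnit (a * F + b * derivative F) := by
      have := he.isUnit_one_add
      rwa [add_sub_cancel] at this
    refine Dix2.etale_adjoinRoot hF (b * (u⁻¹ : (R[X])ˣ)) (a * (u⁻¹ : (R[X])ˣ)) ?_
    calc derivative F * (b * (u⁻¹ : (R[X])ˣ)) + F * (a * (u⁻¹ : (R[X])ˣ))
        = (a * F + b * derivative F) * (u⁻¹ : (R[X])ˣ) := by ring
      _ = 1 := by rw [← hu]; exact u.mul_inv

theorem exists_finite_etale_base {X Y : Scheme.{u}} (f : X ⟶ Y) [IrreducibleSpace Y] [LocallyOfFiniteType f]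
    [QuasiCompact f] :
    ∃ (V : Y.Opens) (Y' : Scheme.{u}) (g : Y' ⟶ (V : Scheme.{u})) (hY' : IrreducibleSpace ↑Y'),
      (V : Set ↑Y).Nonempty ∧ IsAffine Y' ∧ Surjective g ∧ IsFinite g ∧ Etale g ∧
      ∀ (Z : Set ↑((pullback.snd f (g ≫ V.ι)).fiber (genericPoint ↑Y')))
        (hZ : Z ∈ irreducibleComponents ↑((pullback.snd f (g ≫ V.ι)).fiber (genericPoint ↑Y'))),
        GeometricallyIrreducible ((Scheme.IdealSheafData.vanishingIdeal
            (⟨Z, isClosed_of_mem_irreducibleComponents Z hZ⟩ : TopologicalSpace.Closeds _)).subschemeι ≫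
          (pullback.snd f (g ≫ V.ι)).fiberToSpecResidueField (genericPoint ↑Y')) := by
  classical
  let η := genericPoint Y
  let K : Type u := Y.residueField η
  let gK : f.fiber η ⟶ Spec (CommRingCat.of K) := f.fiberToSpecResidueField η
  haveI : LocallyOfFiniteType gK := inferInstanceAs (LocallyOfFiniteType (pullback.snd f _))
  have := isNoetherian_fiber f η
  have : Finite ↥(irreducibleComponents ↥(f.fiber η)) :=
    TopologicalSpace.NoetherianSpace.finite_irreducibleComponents.to_subtype
  obtain ⟨L, _, _, hfd, hsep, hL⟩ := FBase64.exists_finite_separable_irreducibleComponents gK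
    fun Z hZ => VarGal.residueFieldProp_finite_separableClosure _ _
  let pb := Field.powerBasisOfFiniteOfSeparable K L
  let F₀ := minpoly K pb.gen
  obtain ⟨a₀, b₀, hab₀⟩ : IsCoprime F₀ (derivative F₀) := Algebra.IsSeparable.isSeparable K pb.gen
  let coeffs : Finset K := (F₀.support.image F₀.coeff) ∪ (a₀.support.image a₀.coeff) ∪ (b₀.support.image b₀.coeff)
  obtain ⟨U, hU, hy, hev⟩ := exists_affine_lifts η coeffs
  let R : Type u := Γ(Y, U)
  let ev : R →+* K := (Y.evaluation U η hy).hom
  have hlift : ∀ P : K[X], (P.support.image P.coeff) ⊆ coeffs → P ∈ Polynomial.lifts ev := fun P hP => by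
    rw [Polynomial.lifts_iff_coeff_lifts]
    intro i
    by_cases hi : i ∈ P.support
    · exact hev _ (hP (Finset.mem_image_of_mem _ hi))
    · exact ⟨0, by rw [map_zero, Polynomial.notMem_support_iff.mp hi]⟩
  obtain ⟨F, hFmap, -, hF⟩ := Polynomial.lifts_and_degree_eq_and_monic
    (hlift F₀ (Finset.subset_union_left.trans Finset.subset_union_left))
    (minpoly.monic (Algebra.IsIntegral.isIntegral _))
  obtain ⟨a, ha⟩ := (Polynomial.mem_lifts a₀).mp (hlift a₀ (Finset.subset_union_right.trans Finset.subset_union_left))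
  obtain ⟨b, hb⟩ := (Polynomial.mem_lifts b₀).mp (hlift b₀ Finset.subset_union_right)
  obtain ⟨τ, hτof, hτroot, hker, het⟩ := exists_finite_etale_lift ev
    (fun r hr => isNilpotent_of_evaluation_eq_zero hU hy hr) pb F hF hFmap a b (by
      rw [Polynomial.map_add, Polynomial.map_mul, Polynomial.map_mul, ← derivative_map, hFmap, ha, hb]
      exact hab₀)
  let S : Type u := AdjoinRoot F
  have hprime : (nilradical S).IsPrime := hker ▸ RingHom.ker_isPrime τ
  let Y' : Scheme.{u} := Spec (CommRingCat.of S)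
  have hY' : IrreducibleSpace ↥Y' := (PrimeSpectrum.irreducibleSpace_iff_isPrime_nilradical (R := S)).mpr hprime
  let a' : Y' ⟶ Spec (CommRingCat.of R) := Spec.map (CommRingCat.ofHom (algebraMap R S))
  let g : Y' ⟶ (U : Scheme.{u}) := a' ≫ hU.isoSpec.inv
  haveI := hF.finite_adjoinRoot
  have hRne : Nontrivial R := ev.domain_nontrivial
  have : Surjective a' := ⟨fun p => by
    obtain ⟨Q, -, hQ, hQp⟩ := Ideal.exists_ideal_over_prime_of_isIntegral (S := S) p.asIdeal ⊥ (fun r hr => by
      refine nilradical_le_prime p.asIdeal (mem_nilradical.mpr (isNilpotent_of_evaluation_eq_zero hU hy ?_))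
      refine (algebraMap K L).injective ?_
      have h0 : AdjoinRoot.of F r = 0 := hr
      rw [map_zero, ← map_zero τ, ← h0]
      exact (hτof r).symm)
    exact ⟨⟨Q, hQ⟩, PrimeSpectrum.ext hQp⟩⟩
  have : IsFinite a' := (IsFinite.SpecMap_iff _).mpr (RingHom.finite_algebraMap.mpr inferInstance)
  have : Etale a' := by
    rw [HasRingHomProperty.Spec_iff (P := @Etale)]
    exact RingHom.etale_algebraMap.mpr het
  refine ⟨U, Y', g, hY', ⟨η, hy⟩, inferInstance, inferInstance, inferInstance, inferInstance, ?_⟩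
  let η' : ↥Y' := genericPoint ↥Y'
  let g' : Y' ⟶ Y := g ≫ U.ι
  have hg' : g' = a' ≫ hU.fromSpec := by
    simp only [g', g, Category.assoc, IsAffineOpen.isoSpec_inv_ι]
  -- the point with values in `L`
  let x : Spec (CommRingCat.of L) ⟶ Y' := Spec.map (CommRingCat.ofHom τ)
  have hxη : ∀ pt, x pt = η' := fun pt => by
    refine ((genericPoint_spec ↥Y').eq (isGenericPoint_iff_specializes.mpr fun z => ?_)).symm
    simp only [Set.mem_univ, iff_true]
    refine (PrimeSpectrum.le_iff_specializes _ z).mp ?_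
    show Ideal.comap τ pt.asIdeal ≤ z.asIdeal
    rw [(Ideal.eq_bot_or_top pt.asIdeal).resolve_right pt.isPrime.ne_top, ← RingHom.ker_eq_comap_bot, hker]
    exact nilradical_le_prime _
  have hxg : x ≫ g' = Spec.map (CommRingCat.ofHom (algebraMap K L)) ≫ Y.fromSpecResidueField η := by
    rw [hg', ← Category.assoc, ← SpecMap_evaluation_fromSpec hU η hy, ← Category.assoc, ← Spec.map_comp,
      ← Spec.map_comp]
    congr 2
    exact CommRingCat.hom_ext (RingHom.ext hτof)
  have hgη : g' η' = η := by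
    rw [← hxη (Classical.arbitrary _), ← Scheme.Hom.comp_apply, hxg, Scheme.Hom.comp_apply,
      Scheme.fromSpecResidueField_apply]
  obtain ⟨⟨p, φ⟩, hφ⟩ := (Scheme.SpecToEquivOfField L Y').symm.surjective x
  change Spec.map φ ≫ Y'.fromSpecResidueField p = x at hφ
  have hp : p = η' := by
    rw [← hxη (Classical.arbitrary _), ← hφ, Scheme.Hom.comp_apply, Scheme.fromSpecResidueField_apply]
  subst hp
  obtain ⟨⟨p, ρ⟩, hρ⟩ := (Scheme.SpecToEquivOfField (Y'.residueField η') Y).symm.surjective
    (Y'.fromSpecResidueField η' ≫ g')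
  change Spec.map ρ ≫ Y.fromSpecResidueField p = Y'.fromSpecResidueField η' ≫ g' at hρ
  have hp : p = η := by
    have := congrArg (fun k => k (Classical.arbitrary _)) hρ
    simp only [Scheme.Hom.comp_apply, Scheme.fromSpecResidueField_apply] at this
    rw [this]
    exact (congrArg g' (Scheme.fromSpecResidueField_apply _ _)).trans hgη
  subst hp
  have hφρ : ρ ≫ φ = CommRingCat.ofHom (algebraMap K L) := by
    apply Spec.map_injective
    rw [← cancel_mono (Y.fromSpecResidueField η), Spec.map_comp, Category.assoc, hρ, ← Category.assoc, hφ, hxg]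
  obtain ⟨ξ, hξ⟩ := Spec.map_surjective (Y'.fromSpecResidueField η')
  have hτξ : ξ ≫ φ = CommRingCat.ofHom τ := by
    apply Spec.map_injective
    rw [Spec.map_comp, hξ, hφ]
  have hφbij : Function.Bijective φ.hom := by
    refine ⟨φ.hom.injective, fun l => ?_⟩
    have hl : l ∈ Algebra.adjoin K {pb.gen} := by rw [pb.adjoin_gen_eq_top]; trivial
    induction hl using Algebra.adjoin_induction with
    | mem z hz =>
      obtain rfl := Set.mem_singleton_iff.mp hz
      exact ⟨ξ.hom (AdjoinRoot.root F), (congrArg (fun k => k.hom (AdjoinRoot.root F)) hτξ).trans hτroot⟩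
    | algebraMap c => exact ⟨ρ.hom c, congrArg (fun k => k.hom c) hφρ⟩
    | add z w _ _ hz hw =>
      obtain ⟨z, rfl⟩ := hz; obtain ⟨w, rfl⟩ := hw; exact ⟨z + w, map_add _ _ _⟩
    | mul z w _ _ hz hw =>
      obtain ⟨z, rfl⟩ := hz; obtain ⟨w, rfl⟩ := hw; exact ⟨z * w, map_mul _ _ _⟩
  have : IsIso φ := (ConcreteCategory.isIso_iff_bijective φ).mpr hφbij
  intro Z hZ
  let F' := (pullback.snd f g').fiber η'
  let st : F' ⟶ Spec (Y'.residueField η') := (pullback.snd f g').fiberToSpecResidueField η'
  have hF' : IsPullback ((pullback.snd f g').fiberι η' ≫ pullback.fst f g') st f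
      (Spec.map ρ ≫ Y.fromSpecResidueField η) := by
    rw [hρ]
    exact (IsPullback.of_hasPullback _ _).paste_horiz (IsPullback.of_hasPullback f g')
  let m : F' ⟶ f.fiber η := pullback.lift _ (st ≫ Spec.map ρ) (hF'.w.trans (Category.assoc _ _ _).symm)
  have hm : IsPullback m st gK (Spec.map ρ) := by
    refine IsPullback.of_right ?_ (pullback.lift_snd _ _ _) (IsPullback.of_hasPullback f (Y.fromSpecResidueField η))
    exact (congrArg (fun k => IsPullback k st f _) (pullback.lift_fst _ _ _)).mpr hF'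
  have hmL : IsPullback (𝟙 F' ≫ m) (st ≫ inv (Spec.map φ)) gK (Spec.map φ ≫ Spec.map ρ) :=
    (IsPullback.of_horiz_isIso ⟨by simp⟩).paste_horiz hm
  rw [← Spec.map_comp, hφρ] at hmL
  let e : F' ≅ FBase.bc gK L := hmL.isoPullback
  have he : e.hom ≫ FBase.bcStr gK L = st ≫ inv (Spec.map φ) := hmL.isoPullback_hom_snd
  let h : ↥F' ≃ₜ ↥(FBase.bc gK L) := Scheme.Hom.homeomorph e.hom
  have hC : h '' Z ∈ irreducibleComponents ↥(FBase.bc gK L) := by
    refine ⟨hZ.1.image h h.continuous.continuousOn, fun t ht hle => ?_⟩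
    have h1 : Z ⊆ h ⁻¹' t := Set.image_subset_iff.mp hle
    have h2 : IsIrreducible (h ⁻¹' t) :=
      ht.preimage h.isOpenEmbedding (by rw [h.surjective.range_eq, Set.inter_univ]; exact ht.nonempty)
    rw [← h.image_preimage t]
    exact Set.image_mono (hZ.2 h2 h1)
  let ι := (Scheme.IdealSheafData.vanishingIdeal
    (⟨Z, isClosed_of_mem_irreducibleComponents Z hZ⟩ : TopologicalSpace.Closeds _)).subschemeι
  have hι : Set.range ι = Z := SchBasics.range_vanishingIdeal_subschemeι _
  refine ⟨geometrically_iff_of_isClosedUnderIsomorphisms.mpr fun K'' _ y => ?_⟩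
  let σ : L →+* K'' := (Spec.preimage (y ≫ inv (Spec.map φ))).hom
  letI : Algebra L K'' := σ.toAlgebra
  have hy' : Spec.map (CommRingCat.ofHom (algebraMap L K'')) = y ≫ inv (Spec.map φ) :=
    Spec.map_preimage _
  have sq2 : IsPullback (pullback.fst st y ≫ e.hom) (pullback.snd st y) (FBase.bcStr gK L)
      (Spec.map (CommRingCat.ofHom (algebraMap L K''))) := by
    rw [hy']
    exact (IsPullback.of_hasPullback st y).paste_horiz (IsPullback.of_horiz_isIso ⟨he⟩)
  refine irreducibleSpace_of_preimage ι st y (IsPullback.of_hasPullback st y) ?_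
  rw [hι]
  let E : pullback st y ≅ FBase.bc (FBase.bcStr gK L) K'' := sq2.isoPullback
  have hpre : pullback.fst st y ⁻¹' Z =
      E.hom ⁻¹' (FBase.bcπ (FBase.bcStr gK L) K'' ⁻¹' (h '' Z)) := by
    ext v
    have hv : FBase.bcπ (FBase.bcStr gK L) K'' (E.hom v) = h (pullback.fst st y v) :=
      (Scheme.Hom.comp_apply _ _ v).symm.trans ((congrArg (fun k => k v)
        (show E.hom ≫ FBase.bcπ (FBase.bcStr gK L) K'' = _ from sq2.isoPullback_hom_fst)).trans
          (Scheme.Hom.comp_apply _ _ v))
    show _ ↔ FBase.bcπ (FBase.bcStr gK L) K'' (E.hom v) ∈ h '' Z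
    rw [hv]
    exact (h.injective.mem_set_image).symm
  rw [hpre]
  have hi := hL K'' _ hC
  exact hi.preimage E.hom.isOpenEmbedding
    (by rw [E.hom.surjective.range_eq, Set.inter_univ]; exact hi.nonempty)

end Groth.Agent.NearGen2
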