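import Groth.Agent.NearGen2.Dense

/-! Passing between subsets of fibres and subsets of the source. -/

set_option autoImplicit false
set_option linter.style.haveILetI false
universe u

open CategoryTheory CategoryTheory.Limits AlgebraicGeometry TopologicalSpace Topology

namespace Groth.Agent.NearGen2

variable {X Y : Scheme.{u}} (f : X ⟶ Y)

theorem apply_fiberι (y : Y) (z : f.fiber y) : f (f.fiberι y z) = y :=
  (f.range_fiberι y).le ⟨z, rfl⟩

theorem exists_fiberι {y : Y} {x : X} (h : f x = y) : ∃ z, f.fiberι y z = x :=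
  (f.range_fiberι y).ge h

theorem exists_open_trace (y : Y) {U : Set (f.fiber y)} (hU : IsOpen U) :
    ∃ W : Set X, IsOpen W ∧ f.fiberι y ⁻¹' W = U :=
  (f.fiberι y).isEmbedding.isInducing.isOpen_iff.mp hU

theorem dense_trace_iff (y : Y) (W : Set X) :
    Dense (f.fiberι y ⁻¹' W) ↔ f ⁻¹' {y} ⊆ closure (W ∩ f ⁻¹' {y}) := by
  rw [dense_iff_closure_eq, Cons62.closure_fiberι_preimage, Set.preimage_eq_univ_iff, f.range_fiberι]

theorem isNoetherian_fiber [LocallyOfFiniteType f] [QuasiCompact f] (y : Y) : IsNoetherian (f.fiber y) :=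
  have : LocallyOfFiniteType (f.fiberToSpecResidueField y) :=
    inferInstanceAs (LocallyOfFiniteType (pullback.snd f _))
  have : IsLocallyNoetherian (f.fiber y) :=
    LocallyOfFiniteType.isLocallyNoetherian (f.fiberToSpecResidueField y)
  { }

variable [IrreducibleSpace Y] [LocallyOfFiniteType f] [QuasiCompact f]

/-- Opens disjoint on the generic fibre are disjoint on nearby fibres. -/
theorem near_disjoint {W W' : Set X} (hW : IsOpen W) (hW' : IsOpen W')
    (h : Disjoint (f.fiberι (genericPoint Y) ⁻¹' W) (f.fiberι (genericPoint Y) ⁻¹' W')) :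
    Near fun y => Disjoint (f.fiberι y ⁻¹' W) (f.fiberι y ⁻¹' W') := by
  refine (near_avoid_open f (hW.inter hW') fun x hx he => ?_).mono fun y hy =>
    Set.disjoint_left.mpr fun z hz hz' => hy _ (apply_fiberι f y z) ⟨hz, hz'⟩
  obtain ⟨z, rfl⟩ := exists_fiberι f he
  exact Set.disjoint_left.mp h hx.1 hx.2

/-- An open meeting the generic fibre meets nearby fibres. -/
theorem near_nonempty {W : Set X} (hW : IsOpen W) (h : (f.fiberι (genericPoint Y) ⁻¹' W).Nonempty) :
    Near fun y => (f.fiberι y ⁻¹' W).Nonempty := by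
  obtain ⟨z, hz⟩ := h
  refine (near_meet_open f hW hz (apply_fiberι f _ z)).mono fun y ⟨x, hx, hxW⟩ => ?_
  obtain ⟨w, rfl⟩ := exists_fiberι f hx
  exact ⟨w, hxW⟩

/-- Opens covering the generic fibre cover nearby fibres. -/
theorem near_cover {ι : Type*} (W : ι → Set X) (hW : ∀ i, IsOpen (W i))
    (h : ⋃ i, f.fiberι (genericPoint Y) ⁻¹' W i = Set.univ) :
    Near fun y => ⋃ i, f.fiberι y ⁻¹' W i = Set.univ := by
  refine (near_avoid_closed f (isOpen_iUnion hW).isClosed_compl fun x hx he => hx ?_).mono fun y hy =>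
    Set.eq_univ_of_forall fun z => ?_
  · obtain ⟨z, rfl⟩ := exists_fiberι f he
    obtain ⟨i, hi⟩ := Set.mem_iUnion.mp (h.ge (Set.mem_univ z))
    exact Set.mem_iUnion.mpr ⟨i, hi⟩
  · have := not_not.mp (hy _ (apply_fiberι f y z))
    obtain ⟨i, hi⟩ := Set.mem_iUnion.mp this
    exact Set.mem_iUnion.mpr ⟨i, hi⟩

end Groth.Agent.NearGen2
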