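import Groth.Agent.NearGen2.GeomIrred
import Groth.Agent.FBase64.Splitting
import Groth.Agent.VarGal.Residue
import Mathlib.AlgebraicGeometry.Geometrically.Connected

/-! Geometric connectedness of fibres near the generic point. -/

set_option autoImplicit false
set_option linter.style.haveILetI false
universe u

open CategoryTheory CategoryTheory.Limits AlgebraicGeometry TopologicalSpace Topology TensorProduct

namespace Groth.Agent.NearGen2

theorem SpecMap_apply_eq_genericPoint {A : CommRingCat.{u}} [IsDomain A] {L : Type u} [Field L]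
    (σ : (A : Type u) →+* L) (hσ : Function.Injective σ) (pt : ↥(Spec (CommRingCat.of L))) :
    Spec.map (CommRingCat.ofHom σ) pt = genericPoint ↥(Spec A) := by
  rw [genericPoint_eq_bot_of_affine]
  refine PrimeSpectrum.ext ?_
  show Ideal.comap σ pt.asIdeal = ⊥
  rw [(Ideal.eq_bot_or_top pt.asIdeal).resolve_right pt.isPrime.ne_top]
  exact (RingHom.injective_iff_ker_eq_bot σ).mp hσ

theorem pullback_of_generic (P : ObjectProperty Scheme.{u}) [P.IsClosedUnderIsomorphisms]
    {A : CommRingCat.{u}} [IsDomain A] {Z : Scheme.{u}}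
    (g : Z ⟶ Spec A) (h : geometrically P (g.fiberToSpecResidueField (genericPoint ↥(Spec A))))
    {L : Type u} [Field L] (σ : (A : Type u) →+* L) (hσ : Function.Injective σ) :
    P (pullback g (Spec.map (CommRingCat.ofHom σ))) := by
  obtain ⟨⟨p, φ⟩, hx⟩ := (Scheme.SpecToEquivOfField L (Spec A)).symm.surjective (Spec.map (CommRingCat.ofHom σ))
  change Spec.map φ ≫ (Spec A).fromSpecResidueField p = _ at hx
  have hp : p = genericPoint ↥(Spec A) := by
    rw [← SpecMap_apply_eq_genericPoint σ hσ (Classical.arbitrary _), ← hx, Scheme.Hom.comp_apply,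
      Scheme.fromSpecResidueField_apply]
  subst hp
  rw [← hx]
  exact P.prop_of_iso (pullbackLeftPullbackSndIso g _ (Spec.map φ)) (pullback_of_geometrically h L _)

theorem exists_fg_subalgebra_isFractionRing {A : Type u} [CommRing A] [IsDomain A] (L : Type u) [Field L]
    [Algebra A L] [Algebra (FractionRing A) L] [IsScalarTower A (FractionRing A) L]
    [FiniteDimensional (FractionRing A) L] :
    ∃ A' : Subalgebra A L, A'.FG ∧ Function.Injective (algebraMap A A') ∧ IsFractionRing A' L := by
  classical
  let K := FractionRing A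
  let bas := Module.Free.chooseBasis K L
  let G : Finset L := Finset.univ.image bas
  let A' : Subalgebra A L := Algebra.adjoin A (G : Set L)
  have hAL : Function.Injective (algebraMap A L) := by
    rw [IsScalarTower.algebraMap_eq A K L]
    exact (algebraMap K L).injective.comp (IsFractionRing.injective A K)
  refine ⟨A', ⟨G, rfl⟩, fun x y h => hAL (congrArg Subtype.val h), isFractionRing_subalgebra A' fun z => ?_⟩
  have hz : z ∈ Submodule.span K (Set.range bas) := bas.span_eq ▸ Submodule.mem_top
  induction hz using Submodule.span_induction with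
  | mem z hz =>
    obtain ⟨i, rfl⟩ := hz
    exact ⟨⟨bas i, Algebra.subset_adjoin (by simp [G])⟩, 1, one_ne_zero, mul_one _⟩
  | zero => exact ⟨0, 1, one_ne_zero, by simp⟩
  | add z w _ _ hz hw =>
    obtain ⟨x, y, hy, hxy⟩ := hz
    obtain ⟨x', y', hy', hxy'⟩ := hw
    refine ⟨x * y' + x' * y, y * y', mul_ne_zero hy hy', ?_⟩
    push_cast
    rw [← hxy, ← hxy']
    ring
  | smul k z _ hz =>
    obtain ⟨x, y, hy, hxy⟩ := hz
    obtain ⟨⟨n, d⟩, hnd⟩ := IsLocalization.surj (nonZeroDivisors A) k
    have hd : algebraMap A L d ≠ 0 := fun e =>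
      nonZeroDivisors.ne_zero d.2 (hAL (e.trans (map_zero _).symm))
    refine ⟨algebraMap A A' n * x, algebraMap A A' d * y,
      mul_ne_zero (fun h0 => hd (congrArg Subtype.val h0)) hy, ?_⟩
    push_cast
    rw [← hxy, Algebra.smul_def, IsScalarTower.algebraMap_apply A K L n, ← hnd, map_mul,
      IsScalarTower.algebraMap_apply A K L d]
    ring

/-- A property of fibres descends along a finite type extension of the base ring. -/
theorem near_descend (P : ObjectProperty Scheme.{u}) [P.IsClosedUnderIsomorphisms]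
    (hP : ∀ (S T : Scheme.{u}) (k : S ⟶ T) [Surjective k], P S → P T)
    {A : CommRingCat.{u}} [IsDomain A] {Z : Scheme.{u}} (g : Z ⟶ Spec A)
    {L : Type u} [Field L] [Algebra A L] (A' : Subalgebra A L) (hfg : A'.FG)
    (hinj : Function.Injective (algebraMap A A'))
    (h : Near fun q => geometrically P
      ((pullback.snd g (Spec.map (CommRingCat.ofHom (algebraMap A A')))).fiberToSpecResidueField q)) :
    Near fun p => geometrically P (g.fiberToSpecResidueField p) := by
  obtain ⟨V', hV', hup⟩ := h
  let t : Spec (CommRingCat.of A') ⟶ Spec A := Spec.map (CommRingCat.ofHom (algebraMap A A'))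
  have : LocallyOfFiniteType t := by
    rw [HasRingHomProperty.Spec_iff (P := @LocallyOfFiniteType)]
    exact RingHom.finiteType_algebraMap.mpr ((Subalgebra.fg_iff_finiteType A').mp hfg)
  have htη : t (genericPoint ↥(Spec (CommRingCat.of A'))) = genericPoint ↥(Spec A) := by
    rw [genericPoint_eq_bot_of_affine, genericPoint_eq_bot_of_affine]
    refine PrimeSpectrum.ext ?_
    exact (RingHom.injective_iff_ker_eq_bot _).mp hinj
  refine (near_meet_open t V'.2 (((genericPoint_spec _).mem_open_set_iff V'.2).mpr (by simpa using hV')) htη).mono ?_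
  rintro p ⟨q, rfl, hq⟩
  have hsq := isPullback_fiberToSpecResidueField_of_isPullback (IsPullback.of_hasPullback g t) q
  have : Surjective (Spec.map (t.residueFieldMap q)) :=
    ⟨fun x => ⟨Classical.arbitrary _, Subsingleton.elim _ _⟩⟩
  have h3 := (MorphismProperty.cancel_left_of_respectsIso
    (geometrically P) hsq.isoPullback.inv _).mpr (hup q hq)
  exact FBase64.geometrically_descend P hP _ _ ((congrArg _ hsq.isoPullback_inv_snd).mp h3)

/-- The pullback of a closed immersion along a projection is irreducible if the preimage of its image is. -/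
theorem irreducibleSpace_of_preimage {W Z' S T Q : Scheme.{u}} (ι : W ⟶ Z') [IsClosedImmersion ι] (g' : Z' ⟶ S)
    (x : T ⟶ S) {p : Q ⟶ Z'} {q : Q ⟶ T} (sq : IsPullback p q g' x) (h : IsIrreducible (p ⁻¹' Set.range ι)) :
    IrreducibleSpace ↥(pullback (ι ≫ g') x) := by
  have sq' := IsPullback.of_bot' (IsPullback.of_hasPullback (ι ≫ g') x) sq
  set m := sq.lift _ _ _
  have : IsClosedImmersion m := MorphismProperty.of_isPullback sq' ‹_›
  have hr : Set.range m = p ⁻¹' Set.range ι := by
    ext z
    constructor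
    · rintro ⟨v, rfl⟩
      refine ⟨pullback.fst (ι ≫ g') x v, ?_⟩
      rw [← Scheme.Hom.comp_apply, sq'.w, Scheme.Hom.comp_apply]
    · rintro ⟨b, hb⟩
      obtain ⟨v, -, hv⟩ := Scheme.exists_preimage_of_isPullback sq' b z hb
      exact ⟨v, hv⟩
  have : IrreducibleSpace ↥(Set.range m) := Subtype.irreducibleSpace (hr ▸ h)
  exact m.isEmbedding.toHomeomorph.irreducibleSpace_iff.mpr this

theorem reflTransGen_of_closed_cover {α ι : Type*} [TopologicalSpace α] [PreconnectedSpace α] [Finite ι]
    {s : ι → Set α} (hs : ∀ i, IsClosed (s i)) (hne : ∀ i, (s i).Nonempty) (hcov : ⋃ i, s i = Set.univ) (i j : ι) :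
    Relation.ReflTransGen (fun a b => (s a ∩ s b).Nonempty) i j := by
  let R := fun a => Relation.ReflTransGen (fun a b => (s a ∩ s b).Nonempty) i a
  by_contra hij
  let U₁ := ⋃ a : {a // R a}, s a
  let U₂ := ⋃ a : {a // ¬ R a}, s a
  have h1 : IsClosed U₁ := isClosed_iUnion_of_finite fun a => hs a
  have h2 : IsClosed U₂ := isClosed_iUnion_of_finite fun a => hs a
  have hd : U₁ᶜ = U₂ := by
    ext x
    constructor
    · intro hx
      obtain ⟨a, ha⟩ := Set.mem_iUnion.mp (hcov.ge (Set.mem_univ x))
      exact Set.mem_iUnion.mpr ⟨⟨a, fun hR => hx (Set.mem_iUnion.mpr ⟨⟨a, hR⟩, ha⟩)⟩, ha⟩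
    · intro hx hx'
      obtain ⟨⟨b, hb⟩, hxb⟩ := Set.mem_iUnion.mp hx
      obtain ⟨⟨a, ha⟩, hxa⟩ := Set.mem_iUnion.mp hx'
      exact hb (Relation.ReflTransGen.tail ha ⟨x, hxa, hxb⟩)
  have hu : U₁ = Set.univ := IsClopen.eq_univ ⟨h1, isClosed_compl_iff.mp (hd ▸ h2)⟩ <| by
    obtain ⟨x, hx⟩ := hne i
    exact ⟨x, Set.mem_iUnion.mpr ⟨⟨i, Relation.ReflTransGen.refl⟩, hx⟩⟩
  obtain ⟨x, hx⟩ := hne j
  have : x ∈ U₂ := Set.mem_iUnion.mpr ⟨⟨j, hij⟩, hx⟩
  rw [← hd, hu] at this
  exact this trivial

theorem near_geometricallyConnected_spec {A : CommRingCat.{u}} [IsDomain A] {Z : Scheme.{u}}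
    (g : Z ⟶ Spec A) [LocallyOfFiniteType g] [QuasiCompact g]
    (h : geometrically (fun S : Scheme.{u} => ConnectedSpace S) (g.fiberToSpecResidueField (genericPoint ↥(Spec A)))) :
    Near fun p => geometrically (fun S : Scheme.{u} => ConnectedSpace S) (g.fiberToSpecResidueField p) := by
  classical
  let K := FractionRing A
  let yK : Spec (CommRingCat.of K) ⟶ Spec A := Spec.map (CommRingCat.ofHom (algebraMap A K))
  let gK := pullback.snd g yK
  haveI : LocallyOfFiniteType gK := inferInstanceAs (LocallyOfFiniteType (pullback.snd g yK))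
  haveI : QuasiCompact gK := inferInstanceAs (QuasiCompact (pullback.snd g yK))
  have hnoeth : IsNoetherian (pullback g yK) :=
    have : IsLocallyNoetherian (pullback g yK) := LocallyOfFiniteType.isLocallyNoetherian gK
    have : CompactSpace ↥(pullback g yK) := QuasiCompact.compactSpace_of_compactSpace gK
    { }
  have : Finite ↥(irreducibleComponents ↥(pullback g yK)) :=
    TopologicalSpace.NoetherianSpace.finite_irreducibleComponents.to_subtype
  obtain ⟨L, _, _, hfd, -, hL⟩ := FBase64.exists_finite_separable_irreducibleComponents gK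
    fun Z hZ => VarGal.residueFieldProp_finite_separableClosure _ _
  letI : Algebra A L := ((algebraMap K L).comp (algebraMap A K)).toAlgebra
  haveI : IsScalarTower A K L := IsScalarTower.of_algebraMap_eq fun _ => rfl
  obtain ⟨A', hfg, hAA', hfrac⟩ := exists_fg_subalgebra_isFractionRing (A := A) L
  refine near_descend _ (fun _ _ k _ hk => @FBase64.connectedSpace_of_surjective _ _ k _ hk) g A' hfg hAA' ?_
  let t : Spec (CommRingCat.of A') ⟶ Spec A := Spec.map (CommRingCat.ofHom (algebraMap A A'))
  let g' := pullback.snd g t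
  let η := genericPoint ↥(Spec (CommRingCat.of A'))
  have hAinj : Function.Injective (algebraMap A' L) := IsFractionRing.injective A' L
  let y₀ : Spec (CommRingCat.of L) ⟶ Spec (CommRingCat.of A') :=
    Spec.map (CommRingCat.ofHom (algebraMap A' L))
  have : IsPreimmersion y₀ := IsPreimmersion.of_isLocalization (nonZeroDivisors A')
  let b : Spec (CommRingCat.of L) ⟶ Spec (CommRingCat.of K) := Spec.map (CommRingCat.ofHom (algebraMap K L))
  have hbt : b ≫ yK = y₀ ≫ t := by
    rw [← Spec.map_comp, ← Spec.map_comp, ← CommRingCat.ofHom_comp, ← CommRingCat.ofHom_comp,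
      ← IsScalarTower.algebraMap_eq, ← IsScalarTower.algebraMap_eq]
  let Q := FBase.bc gK L
  have hQ0 : IsPullback (FBase.bcπ gK L ≫ pullback.fst g yK) (FBase.bcStr gK L) g (b ≫ yK) :=
    (IsPullback.of_hasPullback gK b).paste_horiz (IsPullback.of_hasPullback g yK)
  let c : Q ⟶ pullback g t := pullback.lift (FBase.bcπ gK L ≫ pullback.fst g yK) (FBase.bcStr gK L ≫ y₀)
    (by rw [hQ0.w, Category.assoc, hbt])
  have hc : IsPullback c (FBase.bcStr gK L) g' y₀ := by
    refine IsPullback.of_right ?_ (pullback.lift_snd _ _ _) (IsPullback.of_hasPullback g t)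
    rw [pullback.lift_fst, ← hbt]
    exact hQ0
  have : IsPreimmersion c := MorphismProperty.of_isPullback hc.flip ‹_›
  have hcη : ∀ z, g' (c z) = η := fun z => by
    rw [← Scheme.Hom.comp_apply, hc.w, Scheme.Hom.comp_apply]
    exact SpecMap_apply_eq_genericPoint (A := CommRingCat.of A') _ hAinj _
  have hcrange : ∀ x, g' x = η → x ∈ Set.range c := fun x hx => by
    obtain ⟨z, hz, -⟩ := Scheme.exists_preimage_of_isPullback hc x (Classical.arbitrary _)
      (hx.trans (SpecMap_apply_eq_genericPoint (A := CommRingCat.of A') _ hAinj _).symm)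
    exact ⟨z, hz⟩
  -- the generic fibre is connected
  have hQc : ConnectedSpace ↥Q := by
    have hinjL : Function.Injective (algebraMap A L) := by
      rw [IsScalarTower.algebraMap_eq A A' L]; exact hAinj.comp hAA'
    have h1 : ConnectedSpace ↥(pullback g (Spec.map (CommRingCat.ofHom (algebraMap A L)))) :=
      pullback_of_generic (fun S : Scheme.{u} => ConnectedSpace S) g h _ hinjL
    have h2 : b ≫ yK = Spec.map (CommRingCat.ofHom (algebraMap A L)) := by
      rw [← Spec.map_comp, ← CommRingCat.ofHom_comp, ← IsScalarTower.algebraMap_eq]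
    rw [h2] at hQ0
    exact hQ0.isoPullback.hom.homeomorph.connectedSpace_iff.mpr h1
  have : IsNoetherian Q := by
    haveI i1 : LocallyOfFiniteType (FBase.bcStr gK L) :=
      MorphismProperty.of_isPullback (IsPullback.of_hasPullback gK b) (inferInstanceAs (LocallyOfFiniteType gK))
    haveI i2 : QuasiCompact (FBase.bcStr gK L) :=
      MorphismProperty.of_isPullback (IsPullback.of_hasPullback gK b) (inferInstanceAs (QuasiCompact gK))
    haveI i3 : IsLocallyNoetherian Q := LocallyOfFiniteType.isLocallyNoetherian (FBase.bcStr gK L)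
    haveI i4 : CompactSpace ↥Q := QuasiCompact.compactSpace_of_compactSpace (FBase.bcStr gK L)
    exact { }
  have : Finite ↥(irreducibleComponents ↥Q) :=
    TopologicalSpace.NoetherianSpace.finite_irreducibleComponents.to_subtype
  have hne : ∀ C : irreducibleComponents ↥Q, C.1.Nonempty := fun C => C.2.1.nonempty
  have hcl : ∀ C : irreducibleComponents ↥Q, IsClosed C.1 := fun C => isClosed_of_mem_irreducibleComponents _ C.2
  have hcov : ⋃ C : irreducibleComponents ↥Q, C.1 = Set.univ := by
    rw [← Set.sUnion_eq_iUnion]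
    exact sUnion_irreducibleComponents
  have hnonempty : Nonempty ↥(irreducibleComponents ↥Q) := by
    obtain ⟨C, -⟩ := Set.mem_iUnion.mp (hcov.ge (Set.mem_univ (Classical.arbitrary ↥Q)))
    exact ⟨C⟩
  have hgraph := reflTransGen_of_closed_cover hcl hne hcov
  -- closures of the components
  let Zc : irreducibleComponents ↥Q → Closeds ↥(pullback g t) := fun C => ⟨closure (c '' C.1), isClosed_closure⟩
  have hZc : ∀ C, c ⁻¹' (Zc C : Set ↥(pullback g t)) = C.1 := fun C => by
    show c ⁻¹' closure (c '' C.1) = C.1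
    rw [← c.isEmbedding.closure_eq_preimage_closure_image, (hcl C).closure_eq]
  let ι := fun C => (Scheme.IdealSheafData.vanishingIdeal (Zc C)).subschemeι
  have hι : ∀ C, Set.range (ι C) = (Zc C : Set ↥(pullback g t)) := fun C =>
    SchBasics.range_vanishingIdeal_subschemeι _
  have hirr : Near fun q => ∀ C, GeometricallyIrreducible ((ι C ≫ g').fiberToSpecResidueField q) := by
    refine Near.all fun C => ?_
    refine near_geometricallyIrreducible (ι C ≫ g')
      ⟨geometrically_iff_of_isClosedUnderIsomorphisms.mpr fun L' _ y => ?_⟩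
    obtain ⟨σ, hσ⟩ := Spec.map_surjective (y ≫ (Spec (CommRingCat.of A')).fromSpecResidueField η)
    have hσinj : Function.Injective σ.hom := by
      have h0 : Spec.map σ (Classical.arbitrary _) = η := by
        rw [hσ, Scheme.Hom.comp_apply, Scheme.fromSpecResidueField_apply]
      simp only [η, genericPoint_eq_bot_of_affine] at h0
      rw [RingHom.injective_iff_ker_eq_bot, eq_bot_iff]
      intro r hr
      have : r ∈ (Spec.map σ (Classical.arbitrary _)).asIdeal := by
        show σ.hom r ∈ PrimeSpectrum.asIdeal _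
        rw [show σ.hom r = 0 from hr]
        exact zero_mem _
      rw [h0] at this
      exact this
    letI : Algebra L L' := (IsFractionRing.lift hσinj : L →+* L').toAlgebra
    have hy : Spec.map (CommRingCat.ofHom (algebraMap L L')) ≫ y₀ =
        y ≫ (Spec (CommRingCat.of A')).fromSpecResidueField η := by
      rw [← hσ, ← Spec.map_comp, ← CommRingCat.ofHom_comp]
      congr 1
      exact CommRingCat.hom_ext (RingHom.ext fun r => IsFractionRing.lift_algebraMap hσinj r)
    have sq : IsPullback (FBase.bcπ (FBase.bcStr gK L) L' ≫ c) (FBase.bcStr (FBase.bcStr gK L) L') g'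
        (Spec.map (CommRingCat.ofHom (algebraMap L L')) ≫ y₀) :=
      (IsPullback.of_hasPullback (FBase.bcStr gK L) _).paste_horiz hc
    have hpre : IsIrreducible ((FBase.bcπ (FBase.bcStr gK L) L' ≫ c) ⁻¹' Set.range (ι C)) := by
      rw [hι, Scheme.Hom.comp_base, TopCat.coe_comp, Set.preimage_comp, hZc]
      exact hL L' C.1 C.2
    rw [hy] at sq
    have h1 := irreducibleSpace_of_preimage (ι C) g' _ sq hpre
    exact (pullbackLeftPullbackSndIso (ι C ≫ g') _ y).hom.homeomorph.irreducibleSpace_iff.mpr h1
  have hcover : Near fun q => ∀ x, g' x = q → x ∈ ⋃ C, (Zc C : Set ↥(pullback g t)) := by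
    refine near_cover_closed g' (isClosed_iUnion_of_finite fun C => (Zc C).isClosed) fun x hx => ?_
    obtain ⟨z, rfl⟩ := hcrange x hx
    obtain ⟨C, hC⟩ := Set.mem_iUnion.mp (hcov.ge (Set.mem_univ z))
    exact Set.mem_iUnion.mpr ⟨C, (hZc C).ge hC⟩
  have hmeet : Near fun q => ∀ p : irreducibleComponents ↥Q × irreducibleComponents ↥Q,
      (p.1.1 ∩ p.2.1).Nonempty → ∃ x, g' x = q ∧ x ∈ (Zc p.1 : Set ↥(pullback g t)) ∧ x ∈ Zc p.2 := by
    refine Near.all fun p => ?_
    by_cases hp : (p.1.1 ∩ p.2.1).Nonempty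
    · obtain ⟨z, hz⟩ := hp
      let S : Closeds ↥(pullback g t) := Zc p.1 ⊓ Zc p.2
      let s := (Scheme.IdealSheafData.vanishingIdeal S).subschemeι
      have hs : Set.range s = (S : Set ↥(pullback g t)) := SchBasics.range_vanishingIdeal_subschemeι _
      obtain ⟨w, hw⟩ : c z ∈ Set.range s := hs.ge ⟨(hZc p.1).ge hz.1, (hZc p.2).ge hz.2⟩
      refine (near_meet_open (s ≫ g') isOpen_univ (Set.mem_univ w)
        (by rw [Scheme.Hom.comp_apply, hw]; exact hcη z)).mono ?_
      rintro q ⟨v, hv, -⟩ -
      rw [Scheme.Hom.comp_apply] at hv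
      exact ⟨s v, hv, hs.le ⟨v, rfl⟩⟩
    · exact ⟨⊤, Set.univ_nonempty, fun q _ hne => absurd hne hp⟩
  -- assemble
  refine ((hirr.and hcover).and hmeet).mono ?_
  rintro q ⟨⟨hI, hC⟩, hM⟩
  refine geometrically_iff_of_isClosedUnderIsomorphisms.mpr fun L' _ y => ?_
  have sq : IsPullback (pullback.fst (g'.fiberToSpecResidueField q) y ≫ g'.fiberι q)
      (pullback.snd _ _) g' (y ≫ (Spec (CommRingCat.of A')).fromSpecResidueField q) :=
    (IsPullback.of_hasPullback _ y).paste_horiz (IsPullback.of_hasPullback _ _)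
  set p := pullback.fst (g'.fiberToSpecResidueField q) y ≫ g'.fiberι q
  have hpiece : ∀ C, _root_.IsConnected (p ⁻¹' (Zc C : Set ↥(pullback g t))) := by
    intro C
    have h1 : IrreducibleSpace ↥(pullback (ι C ≫ g') (y ≫ (Spec (CommRingCat.of A')).fromSpecResidueField q)) :=
      (pullbackLeftPullbackSndIso (ι C ≫ g') _ y).hom.homeomorph.irreducibleSpace_iff.mp
        (pullback_of_geometrically (hI C).geometrically_irreducibleSpace L' y)
    have sq' := IsPullback.of_bot' (IsPullback.of_hasPullback (ι C ≫ g')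
      (y ≫ (Spec (CommRingCat.of A')).fromSpecResidueField q)) sq
    set m := sq.lift _ _ _
    have hr : Set.range m = p ⁻¹' (Zc C : Set ↥(pullback g t)) := by
      rw [← hι C]
      ext z
      constructor
      · rintro ⟨v, rfl⟩
        refine ⟨pullback.fst (ι C ≫ g') (y ≫ (Spec (CommRingCat.of A')).fromSpecResidueField q) v, ?_⟩
        rw [← Scheme.Hom.comp_apply, sq'.w, Scheme.Hom.comp_apply]
      · rintro ⟨b, hb⟩
        obtain ⟨v, -, hv⟩ := Scheme.exists_preimage_of_isPullback sq' b z hb
        exact ⟨v, hv⟩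
    rw [← hr, ← Set.image_univ]
    exact ((IrreducibleSpace.isIrreducible_univ _).image _ m.continuous.continuousOn).isConnected
  have hK : ∀ C D, Relation.ReflTransGen
      (fun a b => (p ⁻¹' (Zc a : Set ↥(pullback g t)) ∩ p ⁻¹' (Zc b : Set ↥(pullback g t))).Nonempty) C D := by
    refine fun C D => Relation.ReflTransGen.mono (fun a b hab => ?_) _ _ (hgraph C D)
    obtain ⟨x, hx, hxa, hxb⟩ := hM (a, b) hab
    obtain ⟨v, hv, -⟩ := Scheme.exists_preimage_of_isPullback sq x (Classical.arbitrary _)
      (by rw [hx, Scheme.Hom.comp_apply, Scheme.fromSpecResidueField_apply])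
    exact ⟨v, by rw [Set.mem_preimage, hv]; exact hxa, by rw [Set.mem_preimage, hv]; exact hxb⟩
  refine connectedSpace_iff_univ.mpr ?_
  have hu : (Set.univ : Set ↥(pullback (g'.fiberToSpecResidueField q) y)) = ⋃ C, p ⁻¹' (Zc C : Set ↥(pullback g t)) := by
    refine (Set.eq_univ_of_forall fun v => ?_).symm
    have hv : g' (p v) = q := by
      rw [Scheme.Hom.comp_apply]
      exact apply_fiberι g' q _
    obtain ⟨C, hC'⟩ := Set.mem_iUnion.mp (hC _ hv)
    exact Set.mem_iUnion.mpr ⟨C, hC'⟩
  rw [hu]
  exact _root_.IsConnected.iUnion_of_reflTransGen hpiece hK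

theorem near_geometricallyConnected {X Y : Scheme.{u}} [IrreducibleSpace Y] (f : X ⟶ Y) [LocallyOfFiniteType f]
    [QuasiCompact f] (h : GeometricallyConnected (f.fiberToSpecResidueField (genericPoint Y))) :
    Near fun y => GeometricallyConnected (f.fiberToSpecResidueField y) := by
  obtain ⟨M⟩ := exists_model f
  refine M.near ?_
  rw [← M.r_genericPoint] at h
  have h' := (M.fiber_prop_iff (geometrically fun S : Scheme.{u} => ConnectedSpace S) _).mpr
    h.geometrically_connectedSpace
  exact (near_geometricallyConnected_spec M.fam h').mono fun p hp =>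
    ⟨(M.fiber_prop_iff (geometrically fun S : Scheme.{u} => ConnectedSpace S) p).mp hp⟩

end Groth.Agent.NearGen2
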