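import Groth.Agent.NearGen2.PIScheme
import Groth.Agent.NearGen2.GeomConn
import Groth.Agent.NearGen2.GeomReduced
import Groth.Agent.Tors37.IsoLocal
import Mathlib.AlgebraicGeometry.Geometrically.Integral
import Mathlib.AlgebraicGeometry.Morphisms.Finite
import Mathlib.RingTheory.DedekindDomain.IntegralClosure

/-! After a finite flat base change of a nonempty open, the components of the source are flat with geometrically
integral fibres. -/

set_option autoImplicit false
set_option linter.style.haveILetI false
set_option maxHeartbeats 1000000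
universe u

open CategoryTheory CategoryTheory.Limits AlgebraicGeometry TopologicalSpace Topology TensorProduct

namespace Groth.Agent.NearGen2

theorem exists_finite_subalgebra_isFractionRing {A : Type u} [CommRing A] [IsDomain A] (L : Type u) [Field L]
    [Algebra A L] [Algebra (FractionRing A) L] [IsScalarTower A (FractionRing A) L]
    [FiniteDimensional (FractionRing A) L] :
    ∃ A' : Subalgebra A L, Module.Finite A A' ∧ Function.Injective (algebraMap A A') ∧ IsFractionRing A' L := by
  classical
  let K := FractionRing A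
  obtain ⟨s, bas, hint⟩ := FiniteDimensional.exists_is_basis_integral A K L
  let A' : Subalgebra A L := Algebra.adjoin A (Set.range bas)
  have hfin : Module.Finite A A' :=
    Module.Finite.iff_fg.mpr (fg_adjoin_of_finite (Set.finite_range bas) (by rintro _ ⟨i, rfl⟩; exact hint i))
  have hAL : Function.Injective (algebraMap A L) := by
    rw [IsScalarTower.algebraMap_eq A K L]
    exact (algebraMap K L).injective.comp (IsFractionRing.injective A K)
  refine ⟨A', hfin, fun x y h => hAL (congrArg Subtype.val h), isFractionRing_subalgebra A' fun z => ?_⟩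
  have hz : z ∈ Submodule.span K (Set.range bas) := bas.span_eq ▸ Submodule.mem_top
  induction hz using Submodule.span_induction with
  | mem z hz => exact ⟨⟨z, Algebra.subset_adjoin hz⟩, 1, one_ne_zero, mul_one _⟩
  | zero => exact ⟨0, 1, one_ne_zero, by simp⟩
  | add z w _ _ hz hw =>
    obtain ⟨x, y, hy, hxy⟩ := hz
    obtain ⟨x', y', hy', hxy'⟩ := hw
    refine ⟨x * y' + x' * y, y * y', mul_ne_zero hy hy', ?_⟩
    push_cast
    rw [← hxy, ← hxy']
    ring
  | smul k z _ hz =>
    obtain ⟨x, y, hy, hxy⟩ := hz
    obtain ⟨⟨n, d⟩, hnd⟩ := IsLocalization.surj (nonZeroDivisors A) k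
    have hd : algebraMap A L d ≠ 0 := fun e =>
      nonZeroDivisors.ne_zero d.2 (hAL (e.trans (map_zero _).symm))
    refine ⟨algebraMap A A' n * x, algebraMap A A' d * y,
      mul_ne_zero (fun h0 => hd (congrArg Subtype.val h0)) hy, ?_⟩
    push_cast
    rw [← hxy, Algebra.smul_def, IsScalarTower.algebraMap_apply A K L n, ← hnd, map_mul,
      IsScalarTower.algebraMap_apply A K L d]
    ring

/-- Reduced closed subschemes with the same range are isomorphic. -/
theorem exists_iso_of_range_eq {X Z W : Scheme.{u}} (i : Z ⟶ X) (j : W ⟶ X) [IsClosedImmersion i]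
    [IsClosedImmersion j] [IsReduced Z] [IsReduced W] (h : Set.range i = Set.range j) :
    ∃ e : Z ≅ W, e.hom ≫ j = i := by
  have h1 : Surjective (pullback.fst i j) := ⟨fun z => by
    obtain ⟨w, hw⟩ := h.le ⟨z, rfl⟩
    obtain ⟨p, hp, -⟩ := Scheme.Pullback.exists_preimage_pullback (f := i) (g := j) z w hw.symm
    exact ⟨p, hp⟩⟩
  have h2 : Surjective (pullback.snd i j) := ⟨fun w => by
    obtain ⟨z, hz⟩ := h.ge ⟨w, rfl⟩
    obtain ⟨p, -, hp⟩ := Scheme.Pullback.exists_preimage_pullback (f := i) (g := j) z w hz
    exact ⟨p, hp⟩⟩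
  have := isIso_of_isClosedImmersion_of_surjective (pullback.fst i j)
  have := isIso_of_isClosedImmersion_of_surjective (pullback.snd i j)
  exact ⟨(asIso (pullback.fst i j)).symm ≪≫ asIso (pullback.snd i j), by
    simp [← pullback.condition]⟩

/-- A reduced closed subscheme supported on a component of a scheme with geometrically reduced reduction is
geometrically reduced. -/
theorem geometricallyReduced_component {k : Type u} [Field k] {X X₂ W : Scheme.{u}}
    (f : X ⟶ Spec (CommRingCat.of k)) (r : X₂ ⟶ X) [IsClosedImmersion r] [Surjective r] [IsReduced X₂]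
    [GeometricallyReduced (r ≫ f)] [Finite ↥(irreducibleComponents ↥X)]
    (m : W ⟶ X) [IsClosedImmersion m] [IsReduced W] (hm : Set.range m ∈ irreducibleComponents ↥X) :
    GeometricallyReduced (m ≫ f) := by
  have hs : Surjective (pullback.fst m r) := ⟨fun w => by
    obtain ⟨v, hv⟩ := r.surjective (m w)
    obtain ⟨p, hp, -⟩ := Scheme.Pullback.exists_preimage_pullback (f := m) (g := r) w v hv.symm
    exact ⟨p, hp⟩⟩
  have := isIso_of_isClosedImmersion_of_surjective (pullback.fst m r)
  let a : W ⟶ X₂ := inv (pullback.fst m r) ≫ pullback.snd m r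
  have ha : a ≫ r = m := by simp [a, ← pullback.condition]
  let h₂ := r.isClosedEmbedding.isEmbedding.toHomeomorphOfSurjective r.surjective
  -- the open avoiding the other components
  let O : Set ↥X₂ := r ⁻¹' (⋃ C : {C : irreducibleComponents ↥X // C.1 ≠ Set.range m}, C.1.1)ᶜ
  have hO : IsOpen O := (isClosed_iUnion_of_finite fun C : {C : irreducibleComponents ↥X // C.1 ≠ Set.range m} =>
    isClosed_of_mem_irreducibleComponents _ C.1.2).isOpen_compl.preimage r.continuous
  have hOr : O ⊆ Set.range a := fun v hv => by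
    obtain ⟨C, hC, hvC⟩ := Set.mem_sUnion.mp
      ((sUnion_irreducibleComponents (X := ↥X)).ge (Set.mem_univ (r v)))
    have : C = Set.range m := by
      by_contra hne
      exact hv (Set.mem_iUnion.mpr ⟨⟨⟨C, hC⟩, hne⟩, hvC⟩)
    obtain ⟨w, hw⟩ := this.le hvC
    exact ⟨w, r.isClosedEmbedding.injective (by rw [← Scheme.Hom.comp_apply, ha, hw])⟩
  letI : W.Over (Spec (CommRingCat.of k)) := ⟨a ≫ r ≫ f⟩
  rw [← ha, Category.assoc]
  refine VarGal.geometricallyReduced_of_maximal_points fun η hη => ?_
  have hηgen : closure {m η} = Set.range m := by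
    refine (closure_minimal (Set.singleton_subset_iff.mpr (Set.mem_range_self η)) m.isClosedEmbedding.isClosed_range).antisymm ?_
    obtain ⟨w, hw⟩ : hm.1.genericPoint ∈ Set.range m :=
      (hm.1.isGenericPoint_genericPoint m.isClosedEmbedding.isClosed_range).mem
    have hsp : w ⤳ η := m.isClosedEmbedding.isEmbedding.isInducing.specializes_iff.mp (by
      rw [hw]
      exact (hm.1.isGenericPoint_genericPoint m.isClosedEmbedding.isClosed_range).specializes ⟨η, rfl⟩)
    rw [← hη w hsp, hw, hm.1.closure_genericPoint m.isClosedEmbedding.isClosed_range]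
  have hηO : a η ∈ O := by
    intro hmem
    obtain ⟨⟨⟨C, hC⟩, hne⟩, hmC⟩ := Set.mem_iUnion.mp hmem
    rw [← Scheme.Hom.comp_apply, ha] at hmC
    refine hne (Set.Subset.antisymm (hm.2 hC.1 ?_) ?_)
    · rw [← hηgen]
      exact closure_minimal (Set.singleton_subset_iff.mpr hmC) (isClosed_of_mem_irreducibleComponents _ hC)
    · rw [← hηgen]
      exact closure_minimal (Set.singleton_subset_iff.mpr hmC) (isClosed_of_mem_irreducibleComponents _ hC)
  have : IsClosedImmersion a := IsClosedImmersion.of_comp a r
  obtain ⟨R, j, hj, hxj, hjO⟩ :=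
    Scheme.exists_affine_mem_range_and_range_subset (U := (⟨O, hO⟩ : X₂.Opens)) hηO
  obtain ⟨φ, hφ⟩ := Spec.map_surjective (j ≫ r ≫ f)
  letI : Algebra k R := φ.hom.toAlgebra
  have hjf : j ≫ r ≫ f = Spec.map (CommRingCat.ofHom (algebraMap k R)) := hφ.symm
  have : IsReduced (Spec R) := isReduced_of_isOpenImmersion j
  have : Surjective (pullback.snd a j) := ⟨fun p => by
    obtain ⟨w, hw⟩ := hOr (hjO ⟨p, rfl⟩)
    obtain ⟨q, -, hq⟩ := Scheme.Pullback.exists_preimage_pullback (f := a) (g := j) w p hw
    exact ⟨q, hq⟩⟩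
  have := isIso_of_isClosedImmersion_of_surjective (pullback.snd a j)
  let v : Spec R ⟶ W := inv (pullback.snd a j) ≫ pullback.fst a j
  have hv : v ≫ a = j := by simp [v, pullback.condition]
  obtain ⟨P, hP⟩ := hxj
  have hvP : v P = η := a.isClosedEmbedding.injective (by rw [← Scheme.Hom.comp_apply, hv, hP])
  rw [← hvP]
  refine (VarGal.isGeomReducedAt_chart_iff (A := R) v ?_ P).mpr ?_
  · show v ≫ a ≫ r ≫ f = _
    rw [← Category.assoc, hv]
    exact hjf
  · letI : X₂.Over (Spec (CommRingCat.of k)) := ⟨r ≫ f⟩
    refine (VarGal.isGeomReducedAt_chart_iff (A := R) j hjf P).mp ?_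
    rw [VarGal.isGeomReducedAt_iff_fbase]
    exact (FBase64.geometricallyReduced_iff_forall _).mp ‹GeometricallyReduced (r ≫ f)› _

end Groth.Agent.NearGen2
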