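import Groth.Agent.NearGen2.GIBase

/-! Finite flat base change of a nonempty open making all components flat with geometrically integral fibres. -/

set_option autoImplicit false
set_option linter.style.haveILetI false
set_option maxHeartbeats 2000000
universe u

open CategoryTheory CategoryTheory.Limits AlgebraicGeometry TopologicalSpace Topology TensorProduct

namespace Groth.Agent.NearGen2

theorem finite_irreducibleComponents_of_field {k : Type u} [Field k] {X : Scheme.{u}}
    (f : X ⟶ Spec (CommRingCat.of k)) [LocallyOfFiniteType f] [QuasiCompact f] :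
    Finite ↥(irreducibleComponents ↥X) := by
  have : IsLocallyNoetherian X := LocallyOfFiniteType.isLocallyNoetherian f
  have : CompactSpace ↥X := QuasiCompact.compactSpace_of_compactSpace f
  have : IsNoetherian X := { }
  exact TopologicalSpace.NoetherianSpace.finite_irreducibleComponents.to_subtype

/-- A component model over a finite extension of a domain, with geometrically integral generic fibres. -/
theorem exists_integral_components {A : CommRingCat.{u}} [IsDomain A] {Z : Scheme.{u}}
    (g : Z ⟶ Spec A) [LocallyOfFiniteType g] [QuasiCompact g] :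
    ∃ (L : Type u) (_ : Field L) (_ : Algebra A L) (A' : Subalgebra A L) (_ : Module.Finite A A')
      (_ : Function.Injective (algebraMap A A')) (ι : Type u) (_ : Finite ι)
      (Zc : ι → Closeds ↥(pullback g (Spec.map (CommRingCat.ofHom (algebraMap A A'))))),
      (∀ i, IsIrreducible (Zc i : Set ↥(pullback g (Spec.map (CommRingCat.ofHom (algebraMap A A')))))) ∧
      Near fun q => (∀ x, pullback.snd g (Spec.map (CommRingCat.ofHom (algebraMap A A'))) x = q → x ∈ ⋃ i, (Zc i : Set _)) ∧
        ∀ i, GeometricallyIntegral (((Scheme.IdealSheafData.vanishingIdeal (Zc i)).subschemeι ≫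
          pullback.snd g (Spec.map (CommRingCat.ofHom (algebraMap A A')))).fiberToSpecResidueField q) := by
  classical
  let K := FractionRing A
  let yK : Spec (CommRingCat.of K) ⟶ Spec A := Spec.map (CommRingCat.ofHom (algebraMap A K))
  let gK := pullback.snd g yK
  haveI : LocallyOfFiniteType gK := inferInstanceAs (LocallyOfFiniteType (pullback.snd g yK))
  haveI : QuasiCompact gK := inferInstanceAs (QuasiCompact (pullback.snd g yK))
  haveI := finite_irreducibleComponents_of_field gK
  obtain ⟨L₁, _, _, hfd₁, -, hGR₁⟩ := exists_finite_purelyInseparable_reduced gK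
  let g₁ := FBase.bcStr gK L₁
  haveI : LocallyOfFiniteType g₁ :=
    MorphismProperty.of_isPullback (IsPullback.of_hasPullback gK _) (inferInstanceAs (LocallyOfFiniteType gK))
  haveI : QuasiCompact g₁ :=
    MorphismProperty.of_isPullback (IsPullback.of_hasPullback gK _) (inferInstanceAs (QuasiCompact gK))
  haveI := finite_irreducibleComponents_of_field g₁
  obtain ⟨L, iL, _, hfd₂, -, hL⟩ := FBase64.exists_finite_separable_irreducibleComponents g₁
    fun Z hZ => VarGal.residueFieldProp_finite_separableClosure _ _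
  letI : Algebra K L := ((algebraMap L₁ L).comp (algebraMap K L₁)).toAlgebra
  haveI : IsScalarTower K L₁ L := IsScalarTower.of_algebraMap_eq fun _ => rfl
  haveI : FiniteDimensional K L := FiniteDimensional.trans K L₁ L
  letI iAL : Algebra A L := ((algebraMap K L).comp (algebraMap A K)).toAlgebra
  haveI : IsScalarTower A K L := IsScalarTower.of_algebraMap_eq fun _ => rfl
  obtain ⟨A', hfin, hAA', hfrac⟩ := exists_finite_subalgebra_isFractionRing (A := A) L
  let t : Spec (CommRingCat.of A') ⟶ Spec A := Spec.map (CommRingCat.ofHom (algebraMap A A'))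
  let g' := pullback.snd g t
  let η := genericPoint ↥(Spec (CommRingCat.of A'))
  have hAinj : Function.Injective (algebraMap A' L) := IsFractionRing.injective A' L
  let y₀ : Spec (CommRingCat.of L) ⟶ Spec (CommRingCat.of A') :=
    Spec.map (CommRingCat.ofHom (algebraMap A' L))
  haveI : IsPreimmersion y₀ := IsPreimmersion.of_isLocalization (nonZeroDivisors A')
  haveI : Flat y₀ := by
    rw [HasRingHomProperty.Spec_iff (P := @Flat)]
    exact RingHom.flat_algebraMap_iff.mpr (IsLocalization.flat _ (nonZeroDivisors A'))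
  let b₁ : Spec (CommRingCat.of L₁) ⟶ Spec (CommRingCat.of K) := Spec.map (CommRingCat.ofHom (algebraMap K L₁))
  let b₂ : Spec (CommRingCat.of L) ⟶ Spec (CommRingCat.of L₁) := Spec.map (CommRingCat.ofHom (algebraMap L₁ L))
  have hbt : b₂ ≫ b₁ ≫ yK = y₀ ≫ t := by
    rw [← Spec.map_comp, ← Spec.map_comp, ← Spec.map_comp, ← CommRingCat.ofHom_comp, ← CommRingCat.ofHom_comp,
      ← CommRingCat.ofHom_comp]
    congr 2
  let Q := FBase.bc g₁ L
  have hQ0 : IsPullback (FBase.bcπ g₁ L ≫ FBase.bcπ gK L₁ ≫ pullback.fst g yK) (FBase.bcStr g₁ L) g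
      (b₂ ≫ b₁ ≫ yK) :=
    (IsPullback.of_hasPullback g₁ b₂).paste_horiz
      ((IsPullback.of_hasPullback gK b₁).paste_horiz (IsPullback.of_hasPullback g yK))
  let c : Q ⟶ pullback g t := pullback.lift (FBase.bcπ g₁ L ≫ FBase.bcπ gK L₁ ≫ pullback.fst g yK)
    (FBase.bcStr g₁ L ≫ y₀) (by rw [hQ0.w, Category.assoc, hbt])
  have hc : IsPullback c (FBase.bcStr g₁ L) g' y₀ := by
    refine IsPullback.of_right ?_ (pullback.lift_snd _ _ _) (IsPullback.of_hasPullback g t)
    rw [pullback.lift_fst, ← hbt]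
    exact hQ0
  haveI : IsPreimmersion c := MorphismProperty.of_isPullback hc.flip ‹_›
  have hcrange : ∀ x, g' x = η → x ∈ Set.range c := fun x hx => by
    obtain ⟨z, hz, -⟩ := Scheme.exists_preimage_of_isPullback hc x (Classical.arbitrary _)
      (hx.trans (SpecMap_apply_eq_genericPoint (A := CommRingCat.of A') _ hAinj _).symm)
    exact ⟨z, hz⟩
  haveI i1 : LocallyOfFiniteType (FBase.bcStr g₁ L) :=
    MorphismProperty.of_isPullback (IsPullback.of_hasPullback g₁ b₂) (inferInstanceAs (LocallyOfFiniteType g₁))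
  haveI i2 : QuasiCompact (FBase.bcStr g₁ L) :=
    MorphismProperty.of_isPullback (IsPullback.of_hasPullback g₁ b₂) (inferInstanceAs (QuasiCompact g₁))
  haveI hfinQ := finite_irreducibleComponents_of_field (FBase.bcStr g₁ L)
  have hcl : ∀ C : irreducibleComponents ↥Q, IsClosed C.1 := fun C => isClosed_of_mem_irreducibleComponents _ C.2
  have hcov : ⋃ C : irreducibleComponents ↥Q, C.1 = Set.univ := by
    rw [← Set.sUnion_eq_iUnion]
    exact sUnion_irreducibleComponents
  let Zc : irreducibleComponents ↥Q → Closeds ↥(pullback g t) := fun C => ⟨closure (c '' C.1), isClosed_closure⟩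
  have hZc : ∀ C, c ⁻¹' (Zc C : Set ↥(pullback g t)) = C.1 := fun C => by
    show c ⁻¹' closure (c '' C.1) = C.1
    rw [← c.isEmbedding.closure_eq_preimage_closure_image, (hcl C).closure_eq]
  refine ⟨L, iL, iAL, A', hfin, hAA', ↥(irreducibleComponents ↥Q), hfinQ, Zc,
    fun C => (C.2.1.image c c.continuous.continuousOn).closure, ?_⟩
  let ι := fun C => (Scheme.IdealSheafData.vanishingIdeal (Zc C)).subschemeι
  have hι : ∀ C, Set.range (ι C) = (Zc C : Set ↥(pullback g t)) := fun C =>
    SchBasics.range_vanishingIdeal_subschemeι _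
  have hirr : Near fun q => ∀ C, GeometricallyIrreducible ((ι C ≫ g').fiberToSpecResidueField q) := by
    refine Near.all fun C => ?_
    refine near_geometricallyIrreducible (ι C ≫ g')
      ⟨geometrically_iff_of_isClosedUnderIsomorphisms.mpr fun L' _ y => ?_⟩
    obtain ⟨σ, hσ⟩ := Spec.map_surjective (y ≫ (Spec (CommRingCat.of A')).fromSpecResidueField η)
    have hσinj : Function.Injective σ.hom := by
      have h0 : Spec.map σ (Classical.arbitrary _) = η := by
        rw [hσ, Scheme.Hom.comp_apply, Scheme.fromSpecResidueField_apply]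
      simp only [η, genericPoint_eq_bot_of_affine] at h0
      rw [RingHom.injective_iff_ker_eq_bot, eq_bot_iff]
      intro r hr
      have : r ∈ (Spec.map σ (Classical.arbitrary _)).asIdeal := by
        show σ.hom r ∈ PrimeSpectrum.asIdeal _
        rw [show σ.hom r = 0 from hr]
        exact zero_mem _
      rw [h0] at this
      exact this
    letI : Algebra L L' := (IsFractionRing.lift hσinj : L →+* L').toAlgebra
    have hy : Spec.map (CommRingCat.ofHom (algebraMap L L')) ≫ y₀ =
        y ≫ (Spec (CommRingCat.of A')).fromSpecResidueField η := by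
      rw [← hσ, ← Spec.map_comp, ← CommRingCat.ofHom_comp]
      congr 1
      exact CommRingCat.hom_ext (RingHom.ext fun r => IsFractionRing.lift_algebraMap hσinj r)
    have sq : IsPullback (FBase.bcπ (FBase.bcStr g₁ L) L' ≫ c) (FBase.bcStr (FBase.bcStr g₁ L) L') g'
        (Spec.map (CommRingCat.ofHom (algebraMap L L')) ≫ y₀) :=
      (IsPullback.of_hasPullback (FBase.bcStr g₁ L) _).paste_horiz hc
    have hpre : IsIrreducible ((FBase.bcπ (FBase.bcStr g₁ L) L' ≫ c) ⁻¹' Set.range (ι C)) := by
      rw [hι, Scheme.Hom.comp_base, TopCat.coe_comp, Set.preimage_comp, hZc]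
      exact hL L' C.1 C.2
    rw [hy] at sq
    have h1 := irreducibleSpace_of_preimage (ι C) g' _ sq hpre
    exact (pullbackLeftPullbackSndIso (ι C ≫ g') _ y).hom.homeomorph.irreducibleSpace_iff.mpr h1
  -- the reduced part of the generic fibre
  let r₁ := (FBase.bc gK L₁).nilradical.subschemeι
  haveI : GeometricallyReduced (r₁ ≫ g₁) := hGR₁
  let X₂ := FBase.bc (r₁ ≫ g₁) L
  haveI : IsReduced X₂ :=
    pullback_of_geometrically GeometricallyReduced.geometrically_isReduced L b₂
  have sq₂ : IsPullback (FBase.bcπ (r₁ ≫ g₁) L) (FBase.bcStr (r₁ ≫ g₁) L) (r₁ ≫ g₁) b₂ :=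
    IsPullback.of_hasPullback _ _
  have hr := IsPullback.of_bot' sq₂ (show IsPullback (FBase.bcπ g₁ L) (FBase.bcStr g₁ L) g₁ b₂ from
    IsPullback.of_hasPullback _ _)
  set r := (show IsPullback (FBase.bcπ g₁ L) (FBase.bcStr g₁ L) g₁ b₂ from IsPullback.of_hasPullback _ _).lift _ _ _
    with hrdef
  haveI : IsClosedImmersion r := MorphismProperty.of_isPullback hr (inferInstance : IsClosedImmersion r₁)
  haveI : Surjective r₁ := ⟨Set.range_eq_univ.mp (by
    rw [Scheme.IdealSheafData.range_subschemeι, Scheme.support_nilradical]; rfl)⟩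
  haveI : Surjective r := MorphismProperty.of_isPullback hr ‹Surjective r₁›
  haveI : GeometricallyReduced (r ≫ FBase.bcStr g₁ L) := by
    rw [show r ≫ FBase.bcStr g₁ L = FBase.bcStr (r₁ ≫ g₁) L from IsPullback.lift_snd _ _ _ _]
    exact MorphismProperty.of_isPullback sq₂ ‹GeometricallyReduced (r₁ ≫ g₁)›
  have hred : Near fun q => ∀ C, GeometricallyReduced ((ι C ≫ g').fiberToSpecResidueField q) := by
    refine Near.all fun C => near_geometricallyReduced (ι C ≫ g') ?_
    haveI : IsReduced (Scheme.IdealSheafData.vanishingIdeal (Zc C)).subscheme :=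
      SchBasics.isReduced_vanishingIdeal_subscheme _
    let P := pullback (ι C) c
    let m : P ⟶ Q := pullback.snd (ι C) c
    haveI : Flat c := MorphismProperty.of_isPullback hc.flip ‹Flat y₀›
    haveI : ∀ z : P, _root_.IsReduced (P.presheaf.stalk z) := fun z => by
      haveI := Tors37.isIso_stalkMap_of_flat_preimmersion (pullback.fst (ι C) c) z
      exact isReduced_of_injective (inv ((pullback.fst (ι C) c).stalkMap z)).hom
        (ConcreteCategory.bijective_of_isIso _).1
    haveI : IsReduced P := isReduced_of_isReduced_stalk P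
    have hmr : Set.range m = C.1 := by
      rw [Scheme.Pullback.range_snd, hι, hZc]
    haveI : IsClosedImmersion m := inferInstanceAs (IsClosedImmersion (pullback.snd (ι C) c))
    have hGRm := geometricallyReduced_component (FBase.bcStr g₁ L) r m (by rw [hmr]; exact C.2)
    have hp : IsPullback (pullback.fst (ι C) c) (m ≫ FBase.bcStr g₁ L) (ι C ≫ g') y₀ :=
      (IsPullback.of_hasPullback (ι C) c).paste_vert hc
    have h2 : GeometricallyReduced ((m ≫ FBase.bcStr g₁ L).fiberToSpecResidueField (Classical.arbitrary _)) :=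
      inferInstance
    have h3 := (fiber_prop_iff_of_preimmersion (P := @GeometricallyReduced) hp _).mp h2
    rwa [show y₀ (Classical.arbitrary _) = η from
      SpecMap_apply_eq_genericPoint (A := CommRingCat.of A') _ hAinj _] at h3
  have hcover : Near fun q => ∀ x, g' x = q → x ∈ ⋃ C, (Zc C : Set ↥(pullback g t)) := by
    refine near_cover_closed g' (isClosed_iUnion_of_finite fun C => (Zc C).isClosed) fun x hx => ?_
    obtain ⟨z, rfl⟩ := hcrange x hx
    obtain ⟨C, hC⟩ := Set.mem_iUnion.mp (hcov.ge (Set.mem_univ z))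
    exact Set.mem_iUnion.mpr ⟨C, (hZc C).ge hC⟩
  refine ((hcover.and hirr).and hred).mono ?_
  rintro q ⟨⟨h1, h2⟩, h3⟩
  refine ⟨h1, fun C => ?_⟩
  haveI := h2 C
  haveI := h3 C
  exact GeometricallyIntegral.of_geometricallyReduced_of_geometricallyIrreducible _

theorem exists_giBase {X S : Scheme.{u}} [IsIntegral S] (f : X ⟶ S) [LocallyOfFiniteType f] [QuasiCompact f] :
    ∃ (V : S.Opens) (S' : Scheme.{u}) (h : S' ⟶ (V : Scheme.{u})), (V : Set S).Nonempty ∧ IsIntegral S' ∧
      IsFinite h ∧ Flat h ∧ Surjective h ∧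
      ∀ (Z : Scheme.{u}) (i : Z ⟶ pullback f (h ≫ V.ι)) [IsClosedImmersion i] [IsReduced Z],
        Set.range i.base ∈ irreducibleComponents ↥(pullback f (h ≫ V.ι)) →
          Flat (i ≫ pullback.snd f (h ≫ V.ι)) ∧ GeometricallyIntegral (i ≫ pullback.snd f (h ≫ V.ι)) := by
  classical
  obtain ⟨U₀, hU₀, hηU, -⟩ := exists_isAffineOpen_mem_and_subset (U := ⊤) (Opens.mem_top (genericPoint S))
  haveI : Nonempty U₀ := ⟨⟨_, hηU⟩⟩
  let j₀ : Spec Γ(S, U₀) ⟶ S := hU₀.fromSpec
  haveI : IsDomain Γ(S, U₀) := inferInstance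
  obtain ⟨L, _, _, A', hfin, hinj, ι, hι, Zc, hirr, hnear⟩ := exists_integral_components (pullback.snd f j₀)
  let A := Γ(S, U₀)
  let t : Spec (CommRingCat.of A') ⟶ Spec A := Spec.map (CommRingCat.ofHom (algebraMap A A'))
  haveI : IsFinite t := (IsFinite.SpecMap_iff _).mpr (RingHom.finite_algebraMap.mpr hfin)
  haveI : Surjective t := ⟨fun p => by
    obtain ⟨Q, -, hQ, hQp⟩ := Ideal.exists_ideal_over_prime_of_isIntegral (S := A') p.asIdeal ⊥ (fun r hr => by
      have : algebraMap A A' r = 0 := hr
      rw [hinj (this.trans (map_zero _).symm)]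
      exact zero_mem _)
    exact ⟨⟨Q, hQ⟩, PrimeSpectrum.ext hQp⟩⟩
  let η' := genericPoint ↥(Spec (CommRingCat.of A'))
  have hη' : ∀ q, t q = genericPoint ↥(Spec A) → q = η' := fun q hq => by
    simp only [η', genericPoint_eq_bot_of_affine] at hq ⊢
    refine PrimeSpectrum.ext ?_
    exact Ideal.eq_bot_of_comap_eq_bot (congrArg PrimeSpectrum.asIdeal hq)
  let g' := pullback.snd (pullback.snd f j₀) t
  let ιc := fun i => (Scheme.IdealSheafData.vanishingIdeal (Zc i)).subschemeι
  choose Uc hUc hUcf using fun i => (FlatCrit65.exists_dense_flat_lfp (ιc i ≫ g')).imp fun U h => And.intro h.1 h.2.1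
  have hflat : Near fun q => ∀ i, q ∈ Uc i := Near.all fun i => ⟨Uc i, (hUc i).nonempty, fun _ hq => hq⟩
  obtain ⟨V', hV', hgood⟩ := hnear.and hflat
  obtain ⟨U, hU, hUflat, -⟩ := FlatCrit65.exists_dense_flat_lfp t
  let W : (Spec A).Opens :=
    ⟨(t '' (V' : Set ↥(Spec (CommRingCat.of A')))ᶜ)ᶜ, (t.isClosedMap _ V'.2.isClosed_compl).isOpen_compl⟩ ⊓ U
  have hWη : genericPoint ↥(Spec A) ∈ W := by
    refine ⟨?_, ((genericPoint_spec _).mem_open_set_iff U.2).mpr (by simpa using hU.nonempty)⟩
    rintro ⟨q, hq, hqη⟩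
    exact hq (hη' q hqη ▸ ((genericPoint_spec _).mem_open_set_iff V'.2).mpr (by simpa using hV'))
  have hsub : t ⁻¹ᵁ W ≤ V' := fun q hq => by
    by_contra hne
    exact hq.1 ⟨q, hne, rfl⟩
  haveI : Flat (t ∣_ W) := by
    have h1 : (Spec A).homOfLE (inf_le_right : W ≤ U) ≫ U.ι = W.ι := Scheme.homOfLE_ι _ _
    have sqW := (isPullback_morphismRestrict t W).flip
    rw [← h1] at sqW
    exact MorphismProperty.of_isPullback
      (IsPullback.of_bot' sqW.flip (isPullback_morphismRestrict t U)).flip hUflat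
  let j : (W : Scheme.{u}) ⟶ S := W.ι ≫ j₀
  let O := t ⁻¹ᵁ W
  let h : (O : Scheme.{u}) ⟶ (j.opensRange : Scheme.{u}) := (t ∣_ W) ≫ j.isoOpensRange.hom
  have hh : h ≫ j.opensRange.ι = O.ι ≫ t ≫ j₀ := by
    simp [h, j, O, morphismRestrict_ι_assoc]
  haveI : Nonempty O := by
    obtain ⟨q, hq⟩ := t.surjective (genericPoint ↥(Spec A))
    exact ⟨⟨q, show t q ∈ W from hq.symm ▸ hWη⟩⟩
  haveI : IsFinite (t ∣_ W) := MorphismProperty.of_isPullback (isPullback_morphismRestrict t W).flip ‹_›
  haveI : Surjective (t ∣_ W) := MorphismProperty.of_isPullback (isPullback_morphismRestrict t W).flip ‹_›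
  refine ⟨j.opensRange, O, h, ⟨_, ⟨⟨_, hWη⟩, rfl⟩⟩, inferInstance, inferInstance, inferInstance, inferInstance,
    fun Z i _ _ hZ => ?_⟩
  -- the base change over `O` inside the model
  let X' := pullback f (h ≫ j.opensRange.ι)
  let sd : X' ⟶ (O : Scheme.{u}) := pullback.snd f (h ≫ j.opensRange.ι)
  have hbig : IsPullback (pullback.fst (pullback.snd f j₀) t ≫ pullback.fst f j₀) g' f (t ≫ j₀) :=
    (IsPullback.of_hasPullback _ t).paste_horiz (IsPullback.of_hasPullback f j₀)
  let q : X' ⟶ pullback (pullback.snd f j₀) t := hbig.lift (pullback.fst f (h ≫ j.opensRange.ι)) (sd ≫ O.ι) (by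
    exact pullback.condition.trans ((congrArg (fun k => sd ≫ k) hh).trans (Category.assoc _ _ _).symm))
  have hq : IsPullback q sd g' O.ι := by
    refine IsPullback.of_right ?_ (hbig.lift_snd _ _ _) hbig
    rw [hbig.lift_fst, ← hh]
    exact IsPullback.of_hasPullback f (h ≫ j.opensRange.ι)
  haveI : IsOpenImmersion q := MorphismProperty.of_isPullback hq.flip inferInstance
  have hsd : ∀ x, g' (q x) = (sd x).1 := fun x => by
    rw [← Scheme.Hom.comp_apply, hq.w, Scheme.Hom.comp_apply]
    rfl
  have hcov : ⋃ C, q ⁻¹' (Zc C : Set ↥(pullback (pullback.snd f j₀) t)) = Set.univ := Set.eq_univ_of_forall fun x => by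
    obtain ⟨C, hC⟩ := Set.mem_iUnion.mp ((hgood _ (hsub (sd x).2)).1.1 (q x) (hsd x))
    exact Set.mem_iUnion.mpr ⟨C, hC⟩
  obtain ⟨C, hC⟩ : ∃ C, Set.range i.base = q ⁻¹' (Zc C : Set ↥(pullback (pullback.snd f j₀) t)) := by
    haveI : Fintype ι := Fintype.ofFinite ι
    obtain ⟨z, hz, hzle⟩ := isIrreducible_iff_sUnion_isClosed.mp hZ.1
      (Finset.univ.image fun C => q ⁻¹' (Zc C : Set ↥(pullback (pullback.snd f j₀) t)))
      (by intro z hz; obtain ⟨C, -, rfl⟩ := Finset.mem_image.mp hz; exact (Zc C).isClosed.preimage q.continuous)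
      (by intro x _
          obtain ⟨C, hC⟩ := Set.mem_iUnion.mp (hcov.ge (Set.mem_univ x))
          exact ⟨_, by simp, hC⟩)
    obtain ⟨C, -, rfl⟩ := Finset.mem_image.mp hz
    refine ⟨C, hzle.antisymm (hZ.2 ((hirr C).preimage q.isOpenEmbedding ?_) hzle)⟩
    obtain ⟨w, hw⟩ := hZ.1.nonempty
    exact ⟨q w, hzle hw, ⟨w, rfl⟩⟩
  haveI : IsReduced (Scheme.IdealSheafData.vanishingIdeal (Zc C)).subscheme :=
    SchBasics.isReduced_vanishingIdeal_subscheme _
  haveI : IsReduced (pullback (ιc C) q) := isReduced_of_isOpenImmersion (pullback.fst (ιc C) q)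
  obtain ⟨e, he⟩ := exists_iso_of_range_eq i (pullback.snd (ιc C) q) (by
    rw [Scheme.Pullback.range_snd, SchBasics.range_vanishingIdeal_subschemeι]
    exact hC)
  have hp : IsPullback (pullback.fst (ιc C) q) (pullback.snd (ιc C) q ≫ sd) (ιc C ≫ g') O.ι :=
    (IsPullback.of_hasPullback (ιc C) q).paste_vert hq
  show Flat (i ≫ sd) ∧ GeometricallyIntegral (i ≫ sd)
  rw [← he, Category.assoc]
  constructor
  · refine (MorphismProperty.cancel_left_of_respectsIso @Flat e.hom _).mpr ?_
    have hle : O ≤ Uc C := fun w hw => (hgood w (hsub hw)).2 C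
    have hOι : O.ι = (Spec (CommRingCat.of A')).homOfLE hle ≫ (Uc C).ι := (Scheme.homOfLE_ι _ _).symm
    have sqF := hp.flip
    rw [hOι] at sqF
    exact MorphismProperty.of_isPullback
      (IsPullback.of_bot' sqF (isPullback_morphismRestrict (ιc C ≫ g') (Uc C))).flip (hUcf C)
  · refine (MorphismProperty.cancel_left_of_respectsIso @GeometricallyIntegral e.hom _).mpr ?_
    refine (GeometricallyIntegral.iff_geometricallyIntegral_fiber _).mpr fun w => ?_
    exact (fiber_prop_iff_of_preimmersion (P := @GeometricallyIntegral) hp w).mpr ((hgood _ (hsub w.2)).1.2 C)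

end Groth.Agent.NearGen2
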