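import Groth.Agent.NearGen2.SmoothModel
import Groth.Agent.NearGen2.Fibre
import Groth.Agent.RG29.IntegralSpread
import Groth.Agent.WC97.Reduced
import Groth.Agent.SchBasics.FPCancel
import Groth.Agent.FBase64.Descend
import Groth.Agent.Cons62.FibrePreds
import Mathlib.AlgebraicGeometry.Geometrically.Irreducible

/-! Geometric irreducibility of fibres near the generic point. -/

set_option autoImplicit false
set_option linter.style.haveILetI false
universe u

open CategoryTheory CategoryTheory.Limits AlgebraicGeometry TopologicalSpace Topology TensorProduct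

namespace Groth.Agent.NearGen2

theorem irreducibleSpace_pullback_of_generic {A : CommRingCat.{u}} [IsDomain A] {Z : Scheme.{u}}
    (g : Z ⟶ Spec A) (h : GeometricallyIrreducible (g.fiberToSpecResidueField (genericPoint ↥(Spec A))))
    {L : Type u} [Field L] (σ : (A : Type u) →+* L) (hσ : Function.Injective σ) :
    IrreducibleSpace ↥(pullback g (Spec.map (CommRingCat.ofHom σ))) := by
  let pt : ↥(Spec (CommRingCat.of L)) := Classical.arbitrary _
  have hpt : Spec.map (CommRingCat.ofHom σ) pt = genericPoint ↥(Spec A) := by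
    rw [genericPoint_eq_bot_of_affine]
    refine PrimeSpectrum.ext ?_
    show Ideal.comap σ pt.asIdeal = ⊥
    have : pt.asIdeal = ⊥ := (Ideal.eq_bot_or_top _).resolve_right pt.isPrime.ne_top
    rw [this]
    exact (RingHom.injective_iff_ker_eq_bot σ).mp hσ
  obtain ⟨⟨p, φ⟩, hx⟩ := (Scheme.SpecToEquivOfField L (Spec A)).symm.surjective (Spec.map (CommRingCat.ofHom σ))
  change Spec.map φ ≫ (Spec A).fromSpecResidueField p = _ at hx
  have hp : p = genericPoint ↥(Spec A) := by
    rw [← hpt, ← hx, Scheme.Hom.comp_apply, Scheme.fromSpecResidueField_apply]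
  subst hp
  rw [← hx]
  have : IrreducibleSpace ↥(pullback (g.fiberToSpecResidueField (genericPoint ↥(Spec A))) (Spec.map φ)) :=
    pullback_of_geometrically h.geometrically_irreducibleSpace L _
  exact (pullbackLeftPullbackSndIso g _ (Spec.map φ)).hom.homeomorph.irreducibleSpace_iff.mp this

/-- The square of spectra of a base change along a field. -/
theorem isPullback_tensor (A R L : Type u) [CommRing A] [CommRing R] [CommRing L] [Algebra A R] [Algebra A L] :
    IsPullback (Spec.map (CommRingCat.ofHom (Algebra.TensorProduct.includeRight : R →ₐ[A] L ⊗[A] R).toRingHom))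
      (Spec.map (CommRingCat.ofHom (algebraMap L (L ⊗[A] R))))
      (Spec.map (CommRingCat.ofHom (algebraMap A R))) (Spec.map (CommRingCat.ofHom (algebraMap A L))) :=
  isPullback_SpecMap_of_isPushout _ _ _ _ (CommRingCat.isPushout_tensorProduct A L R).flip

theorem near_geometricallyIrreducible_spec {A : CommRingCat.{u}} [IsDomain A] {Z : Scheme.{u}}
    (g : Z ⟶ Spec A) [LocallyOfFinitePresentation g] [QuasiCompact g]
    (h : GeometricallyIrreducible (g.fiberToSpecResidueField (genericPoint ↥(Spec A)))) :
    Near fun p => GeometricallyIrreducible (g.fiberToSpecResidueField p) := by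
  -- a chart meeting the generic fibre
  obtain ⟨z, hz⟩ : ∃ z, g z = genericPoint ↥(Spec A) :=
    have : IrreducibleSpace ↥(g.fiber (genericPoint ↥(Spec A))) :=
      have : IrreducibleSpace ↥(pullback (g.fiberToSpecResidueField (genericPoint ↥(Spec A))) (𝟙 _)) :=
        pullback_of_geometrically h.geometrically_irreducibleSpace _ _
      FBase64.irreducibleSpace_of_surjective (pullback.fst (g.fiberToSpecResidueField (genericPoint ↥(Spec A))) (𝟙 _))
    ⟨g.fiberι _ (Classical.arbitrary _), apply_fiberι g _ _⟩
  obtain ⟨_, ⟨U, hU, rfl⟩, hzU, -⟩ :=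
    Z.isBasis_affineOpens.exists_subset_of_mem_open (Set.mem_univ z) isOpen_univ
  replace hU : IsAffineOpen U := hU
  obtain ⟨φ, hφ⟩ := Spec.map_surjective (hU.fromSpec ≫ g)
  let R : Type u := Γ(Z, U)
  letI : Algebra A R := φ.hom.toAlgebra
  let j : Spec (CommRingCat.of R) ⟶ Z := hU.fromSpec
  have hj : IsOpenImmersion j := inferInstanceAs (IsOpenImmersion hU.fromSpec)
  have hjg : j ≫ g = Spec.map (CommRingCat.ofHom (algebraMap A R)) := hφ.symm
  haveI : Algebra.FinitePresentation A R := by
    have : LocallyOfFinitePresentation (Spec.map φ) := by rw [hφ]; infer_instance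
    exact (HasRingHomProperty.Spec_iff (P := @LocallyOfFinitePresentation)).mp this
  haveI : Nontrivial (FractionRing A ⊗[A] R) := by
    obtain ⟨w, hw⟩ : z ∈ Set.range j := hU.range_fromSpec.ge hzU
    have h0 : Spec.map (CommRingCat.ofHom (algebraMap A R)) w = genericPoint ↥(Spec A) := by
      rw [← hjg, Scheme.Hom.comp_apply, hw, hz]
    rw [genericPoint_eq_bot_of_affine] at h0
    have h1 : w.asIdeal.comap (algebraMap A R) = ⊥ := congrArg PrimeSpectrum.asIdeal h0
    have hinj : Function.Injective (algebraMap A w.asIdeal.ResidueField) := by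
      rw [RingHom.injective_iff_ker_eq_bot, IsScalarTower.algebraMap_eq A R, ← RingHom.comap_ker,
        Ideal.ker_algebraMap_residueField, h1]
    exact (Algebra.TensorProduct.lift (S := A) (IsFractionRing.liftAlgHom (K := FractionRing A)
      (g := Algebra.ofId A w.asIdeal.ResidueField) hinj)
      (IsScalarTower.toAlgHom A R w.asIdeal.ResidueField) fun _ _ => Commute.all _ _).toRingHom.domain_nontrivial
  obtain ⟨L₀, _, _, A', T, _, _, _, _, ψ, hA'fg, hAA', hfrac, hsm, hmodel⟩ :=
    exists_smooth_model (A := A) (R := R)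
  haveI := hsm
  haveI := hfrac
  let t : Spec (CommRingCat.of A') ⟶ Spec A := Spec.map (CommRingCat.ofHom (algebraMap A A'))
  let g' := pullback.snd g t
  let sT := Spec.map (CommRingCat.ofHom (algebraMap A' T))
  let m : Spec (CommRingCat.of T) ⟶ pullback g t :=
    pullback.lift (Spec.map (CommRingCat.ofHom ψ.toRingHom) ≫ j) sT (by
      rw [Category.assoc, hjg, ← Spec.map_comp, ← Spec.map_comp, ← CommRingCat.ofHom_comp,
        ← CommRingCat.ofHom_comp, ψ.toRingHom_eq_coe, AlgHom.comp_algebraMap,
        IsScalarTower.algebraMap_eq A A' T])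
  have hm : m ≫ g' = sT := pullback.lift_snd _ _ _
  -- generic base changes
  have key : ∀ (L : Type u) [Field L] [Algebra A L] [Algebra A' L] [IsScalarTower A A' L],
      Function.Injective (algebraMap A' L) →
      ∃ e : Spec (CommRingCat.of (L ⊗[A'] T)) ⟶ pullback g (Spec.map (CommRingCat.ofHom (algebraMap A L))),
        IsOpenEmbedding e ∧ Nontrivial (L ⊗[A'] T) ∧
        e ≫ pullback.fst _ _ = Spec.map (CommRingCat.ofHom
          (Algebra.TensorProduct.includeRight : T →ₐ[A'] L ⊗[A'] T).toRingHom) ≫ m ≫ pullback.fst g t ∧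
        e ≫ pullback.snd _ _ = Spec.map (CommRingCat.ofHom (algebraMap L (L ⊗[A'] T))) := by
    intro L _ _ _ _ hinj
    let Φ : L ⊗[A] R →ₐ[L] L ⊗[A'] T := Algebra.TensorProduct.lift (Algebra.ofId L _)
      (((Algebra.TensorProduct.includeRight : T →ₐ[A'] L ⊗[A'] T).restrictScalars A).comp ψ)
      fun _ _ => Commute.all _ _
    have hΦ : ∀ r, Φ (1 ⊗ₜ r) = 1 ⊗ₜ ψ r := fun r => by simp [Φ]
    obtain ⟨hemb, hopen, hnt⟩ := hmodel L hinj Φ hΦ
    have sq := isPullback_tensor A R L
    rw [← hjg] at sq
    let u := (IsPullback.of_hasPullback g (Spec.map (CommRingCat.ofHom (algebraMap A L)))).lift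
      (Spec.map (CommRingCat.ofHom (Algebra.TensorProduct.includeRight : R →ₐ[A] L ⊗[A] R).toRingHom) ≫ j)
      (Spec.map (CommRingCat.ofHom (algebraMap L (L ⊗[A] R)))) (by rw [Category.assoc]; exact sq.w)
    have hu : IsOpenImmersion u :=
      MorphismProperty.of_isPullback (IsPullback.of_bot' sq (IsPullback.of_hasPullback _ _)) hj
    refine ⟨Spec.map (CommRingCat.ofHom Φ.toRingHom) ≫ u, ?_, hnt, ?_, ?_⟩
    · rw [Scheme.Hom.comp_base, TopCat.coe_comp]
      exact hu.base_open.comp ⟨hemb, hopen⟩
    · rw [Category.assoc, IsPullback.lift_fst, pullback.lift_fst, ← Category.assoc, ← Category.assoc,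
        ← Spec.map_comp, ← Spec.map_comp, ← CommRingCat.ofHom_comp, ← CommRingCat.ofHom_comp]
      congr 3
      exact RingHom.ext hΦ
    · rw [Category.assoc, IsPullback.lift_snd, ← Spec.map_comp, ← CommRingCat.ofHom_comp]
      congr 2
      exact RingHom.ext fun l => Φ.commutes l
  have hirrL : ∀ (L : Type u) [Field L] [Algebra A L] [Algebra A' L] [IsScalarTower A A' L],
      Function.Injective (algebraMap A' L) →
      IrreducibleSpace ↥(pullback g (Spec.map (CommRingCat.ofHom (algebraMap A L)))) :=
    fun L _ _ _ _ hinj => irreducibleSpace_pullback_of_generic g h _ (by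
      rw [IsScalarTower.algebraMap_eq A A' L]; exact hinj.comp hAA')
  -- the smooth model has geometrically integral fibres near the generic point
  obtain ⟨a, ha, hspread⟩ := RG29.exists_domain_spread (A := A') (B := T) (by
    intro L _ _ hinj
    letI : Algebra A L := ((algebraMap A' L).comp (algebraMap A A')).toAlgebra
    haveI : IsScalarTower A A' L := IsScalarTower.of_algebraMap_eq fun _ => rfl
    obtain ⟨e, he, hnt, -, -⟩ := key L hinj
    haveI := hnt
    have := hirrL L hinj
    haveI : IrreducibleSpace (PrimeSpectrum (L ⊗[A'] T)) := by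
      have h1 : IsPreirreducible (Set.univ : Set ↥(Spec (CommRingCat.of (L ⊗[A'] T)))) := by
        rw [← Set.preimage_univ (f := e)]
        exact (IrreducibleSpace.isIrreducible_univ _).2.preimage he
      exact { isPreirreducible_univ := h1, toNonempty := inferInstance }
    haveI := WC97.isReduced_of_algebraSmooth L (L ⊗[A'] T)
    have hp := PrimeSpectrum.irreducibleSpace_iff_isPrime_nilradical.mp ‹_›
    rw [nilradical_eq_zero, Ideal.zero_eq_bot] at hp
    exact IsDomain.of_bot_isPrime _)
  -- the image of the smooth model is dense in the generic fibre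
  have hgen : g' ⁻¹' {genericPoint ↥(Spec (CommRingCat.of A'))} ⊆
      closure (Set.range m ∩ g' ⁻¹' {genericPoint ↥(Spec (CommRingCat.of A'))}) := by
    obtain ⟨e, he, hnt, hfst, hsnd⟩ := key L₀ (IsFractionRing.injective A' L₀)
    haveI := hnt
    have := hirrL L₀ (IsFractionRing.injective A' L₀)
    let y₀ : Spec (CommRingCat.of L₀) ⟶ Spec (CommRingCat.of A') :=
      Spec.map (CommRingCat.ofHom (algebraMap A' L₀))
    have hy : y₀ ≫ t = Spec.map (CommRingCat.ofHom (algebraMap A L₀)) := by
      rw [← Spec.map_comp, ← CommRingCat.ofHom_comp, ← IsScalarTower.algebraMap_eq]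
    have hη : ∀ pt, y₀ pt = genericPoint ↥(Spec (CommRingCat.of A')) := fun pt => by
      rw [genericPoint_eq_bot_of_affine]
      refine PrimeSpectrum.ext ?_
      show Ideal.comap (algebraMap A' L₀) pt.asIdeal = ⊥
      rw [(Ideal.eq_bot_or_top pt.asIdeal).resolve_right pt.isPrime.ne_top]
      exact (RingHom.injective_iff_ker_eq_bot _).mp (IsFractionRing.injective A' L₀)
    let c : pullback g (Spec.map (CommRingCat.ofHom (algebraMap A L₀))) ⟶ pullback g t :=
      pullback.lift (pullback.fst _ _) (pullback.snd _ _ ≫ y₀) (by rw [Category.assoc, hy, pullback.condition])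
    have hc : IsPullback c (pullback.snd _ _) g' y₀ := by
      refine IsPullback.of_right ?_ (pullback.lift_snd _ _ _) (IsPullback.of_hasPullback g t)
      rw [pullback.lift_fst, hy]
      exact IsPullback.of_hasPullback _ _
    have hec : e ≫ c = Spec.map (CommRingCat.ofHom
        (Algebra.TensorProduct.includeRight : T →ₐ[A'] L₀ ⊗[A'] T).toRingHom) ≫ m := by
      apply pullback.hom_ext
      · rw [Category.assoc, pullback.lift_fst, hfst, Category.assoc]
      · rw [Category.assoc, pullback.lift_snd, ← Category.assoc, hsnd, Category.assoc]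
        show _ = _ ≫ m ≫ g'
        rw [hm]
        exact (isPullback_tensor A' T L₀).w.symm
    intro x hx
    obtain ⟨q, rfl, -⟩ := Scheme.exists_preimage_of_isPullback hc x (Classical.arbitrary _)
      (hx.trans (hη _).symm)
    have hd : Dense (Set.range e) := he.isOpen_range.dense (Set.range_nonempty _)
    refine closure_mono ?_ (image_closure_subset_closure_image c.continuous ⟨q, hd q, rfl⟩)
    rintro _ ⟨_, ⟨v, rfl⟩, rfl⟩
    refine ⟨⟨Spec.map (CommRingCat.ofHom
      (Algebra.TensorProduct.includeRight : T →ₐ[A'] L₀ ⊗[A'] T).toRingHom) v, ?_⟩, ?_⟩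
    · rw [← Scheme.Hom.comp_apply, ← hec, Scheme.Hom.comp_apply]
    · show g' (c (e v)) = _
      rw [← Scheme.Hom.comp_apply, hc.w, Scheme.Hom.comp_apply, hη]
  -- the chart inside the pullback
  let P := pullback j (pullback.fst g t)
  let iP : P ⟶ pullback g t := pullback.snd j (pullback.fst g t)
  let m₀ : Spec (CommRingCat.of T) ⟶ P :=
    pullback.lift (Spec.map (CommRingCat.ofHom ψ.toRingHom)) m (pullback.lift_fst _ _ _).symm
  have hm₀ : m₀ ≫ iP = m := pullback.lift_snd _ _ _
  have hPaff : IsAffine P :=
    IsAffine.of_isIso (pullbackRightPullbackFstIso g t j).hom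
  have hWdense : Near fun q => g' ⁻¹' {q} ⊆ closure (Set.range iP ∩ g' ⁻¹' {q}) := by
    refine near_dense g' iP.isOpenEmbedding.isOpen_range (hgen.trans (closure_mono ?_))
    exact Set.inter_subset_inter_left _ (by rw [← hm₀, Scheme.Hom.comp_base, TopCat.coe_comp]; exact Set.range_comp_subset_range _ _)
  have hDdense : Near fun q => (iP ≫ g').fiberι q ⁻¹' Set.univ ⊆ closure ((iP ≫ g').fiberι q ⁻¹' Set.range m₀) := by
    have : LocallyOfFinitePresentation sT := by
      rw [HasRingHomProperty.Spec_iff (P := @LocallyOfFinitePresentation)]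
      exact RingHom.finitePresentation_algebraMap.mpr hsm.finitePresentation
    have : LocallyOfFinitePresentation m₀ := by
      have : LocallyOfFinitePresentation (m₀ ≫ iP ≫ g') := by rw [← Category.assoc, hm₀, hm]; infer_instance
      exact SchBasics.locallyOfFinitePresentation_of_comp m₀ (iP ≫ g')
    have hD : IsLocallyConstructible (Set.range m₀) := by
      rw [← Set.image_univ]
      exact m₀.isLocallyConstructible_image IsConstructible.univ.isLocallyConstructible
    refine near_of_isLocallyConstructible (Cons62.cons_dense (iP ≫ g') hD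
      IsConstructible.univ.isLocallyConstructible) fun w _ => ?_
    rw [Cons62.closure_fiberι_preimage]
    have hx := apply_fiberι (iP ≫ g') _ w
    have h2 := hgen hx
    show (iP ≫ g').fiberι _ w ∈ closure _
    have h3 : (iP ≫ g').fiberι _ w ∈ iP ⁻¹' closure (Set.range m ∩ g' ⁻¹' {genericPoint ↥(Spec (CommRingCat.of A'))}) :=
      h2
    rw [iP.isOpenEmbedding.isOpenMap.preimage_closure_eq_closure_preimage iP.continuous] at h3
    refine closure_mono ?_ h3
    rintro v ⟨⟨b, hb⟩, hv⟩
    refine ⟨⟨b, iP.isOpenEmbedding.injective ?_⟩, hv⟩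
    rw [← Scheme.Hom.comp_apply, hm₀, hb]
  have ha0 : Near fun q : ↥(Spec (CommRingCat.of A')) => a ∉ q.asIdeal :=
    ⟨PrimeSpectrum.basicOpen a, ⟨⟨⊥, Ideal.isPrime_bot⟩, fun hm => ha (by simpa using hm)⟩, fun _ hq => hq⟩
  -- conclusion upstairs
  obtain ⟨V', hV', hgood⟩ := (hWdense.and hDdense).and ha0
  have hup : ∀ q ∈ V', GeometricallyIrreducible (g'.fiberToSpecResidueField q) := by
    intro q hq
    obtain ⟨⟨hW, hD⟩, haq⟩ := hgood q hq
    have hdense : g' ⁻¹' {q} ⊆ closure (Set.range m ∩ g' ⁻¹' {q}) := by
      refine hW.trans (closure_minimal ?_ isClosed_closure)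
      rintro _ ⟨⟨x₀, rfl⟩, hx₀⟩
      obtain ⟨w, rfl⟩ := exists_fiberι (iP ≫ g') (y := q) (x := x₀) hx₀
      have h1 := hD (Set.mem_univ w)
      rw [Cons62.closure_fiberι_preimage] at h1
      refine closure_mono ?_ (image_closure_subset_closure_image iP.continuous ⟨_, h1, rfl⟩)
      rintro _ ⟨_, ⟨⟨b, rfl⟩, hb⟩, rfl⟩
      exact ⟨⟨b, by rw [← hm₀, Scheme.Hom.comp_apply]⟩, hb⟩
    refine ⟨geometrically_iff_of_isClosedUnderIsomorphisms.mpr fun L _ y => ?_⟩
    obtain ⟨σ, hσ⟩ := Spec.map_surjective (y ≫ (Spec (CommRingCat.of A')).fromSpecResidueField q)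
    letI : Algebra A' L := σ.hom.toAlgebra
    have haL : algebraMap A' L a ≠ 0 := fun h0 => by
      apply haq
      have hq' : Spec.map σ (Classical.arbitrary _) = q := by
        rw [hσ, Scheme.Hom.comp_apply, Scheme.fromSpecResidueField_apply]
      rw [← hq']
      show σ.hom a ∈ PrimeSpectrum.asIdeal _
      rw [show σ.hom a = 0 from h0]
      exact zero_mem _
    haveI := hspread L haL
    have hsq : IsPullback (pullback.fst (g'.fiberToSpecResidueField q) y ≫ g'.fiberι q)
        (pullback.snd _ _) g' (y ≫ (Spec (CommRingCat.of A')).fromSpecResidueField q) :=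
      (IsPullback.of_hasPullback _ y).paste_horiz (IsPullback.of_hasPullback _ _)
    have sq : IsPullback (Spec.map (CommRingCat.ofHom
        (Algebra.TensorProduct.includeRight : T →ₐ[A'] L ⊗[A'] T).toRingHom))
        (Spec.map (CommRingCat.ofHom (algebraMap L (L ⊗[A'] T)))) (m ≫ g')
        (y ≫ (Spec (CommRingCat.of A')).fromSpecResidueField q) := by
      rw [hm, ← hσ]
      exact isPullback_tensor A' T L
    have hlift := IsPullback.of_bot' sq hsq
    set mL := hsq.lift _ _ _
    have hrange : Set.range mL =
        (pullback.fst (g'.fiberToSpecResidueField q) y ≫ g'.fiberι q) ⁻¹' Set.range m := by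
      ext x
      constructor
      · rintro ⟨v, rfl⟩
        refine ⟨Spec.map (CommRingCat.ofHom
          (Algebra.TensorProduct.includeRight : T →ₐ[A'] L ⊗[A'] T).toRingHom) v, ?_⟩
        show _ = (pullback.fst (g'.fiberToSpecResidueField q) y ≫ g'.fiberι q) (mL v)
        rw [← Scheme.Hom.comp_apply, ← Scheme.Hom.comp_apply, hlift.w]
      · rintro ⟨b, hb⟩
        obtain ⟨v, -, hv⟩ := Scheme.exists_preimage_of_isPullback hlift b x hb
        exact ⟨v, hv⟩
    have hd : Dense (Set.range mL) := by
      rw [hrange, Scheme.Hom.comp_base, TopCat.coe_comp, Set.preimage_comp]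
      have : UniversallyOpen y := inferInstance
      exact ((dense_trace_iff g' q _).mpr hdense).preimage
        (pullback.fst (g'.fiberToSpecResidueField q) y).isOpenMap
    have hirr : IsIrreducible (Set.range mL) := by
      rw [← Set.image_univ]
      exact (IrreducibleSpace.isIrreducible_univ _).image _ mL.continuous.continuousOn
    rw [irreducibleSpace_def]
    have := hirr.closure
    rwa [hd.closure_eq] at this
  -- descend
  have : LocallyOfFiniteType t := by
    rw [HasRingHomProperty.Spec_iff (P := @LocallyOfFiniteType)]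
    exact RingHom.finiteType_algebraMap.mpr ((Subalgebra.fg_iff_finiteType A').mp hA'fg)
  have htη : t (genericPoint ↥(Spec (CommRingCat.of A'))) = genericPoint ↥(Spec A) := by
    rw [genericPoint_eq_bot_of_affine, genericPoint_eq_bot_of_affine]
    refine PrimeSpectrum.ext ?_
    exact (RingHom.injective_iff_ker_eq_bot _).mp hAA'
  refine (near_meet_open t V'.2 (((genericPoint_spec _).mem_open_set_iff V'.2).mpr (by simpa using hV')) htη).mono ?_
  rintro p ⟨q, rfl, hq⟩
  have hsq := isPullback_fiberToSpecResidueField_of_isPullback (IsPullback.of_hasPullback g t) q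
  have : Surjective (Spec.map (t.residueFieldMap q)) :=
    ⟨fun x => ⟨Classical.arbitrary _, Subsingleton.elim _ _⟩⟩
  have h2 : geometrically (IrreducibleSpace ·) (pullback.snd (g.fiberToSpecResidueField (t q))
      (Spec.map (t.residueFieldMap q))) := by
    have h3 := (MorphismProperty.cancel_left_of_respectsIso
      (geometrically fun S : Scheme.{u} => IrreducibleSpace S) hsq.isoPullback.inv _).mpr
        (hup q hq).geometrically_irreducibleSpace
    exact (congrArg _ hsq.isoPullback_inv_snd).mp h3
  exact ⟨FBase64.geometrically_descend _ (fun _ _ k _ hk => @FBase64.irreducibleSpace_of_surjective _ _ k _ hk) _ _ h2⟩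

theorem near_geometricallyIrreducible {X Y : Scheme.{u}} [IrreducibleSpace Y] (f : X ⟶ Y) [LocallyOfFiniteType f]
    [QuasiCompact f] (h : GeometricallyIrreducible (f.fiberToSpecResidueField (genericPoint Y))) :
    Near fun y => GeometricallyIrreducible (f.fiberToSpecResidueField y) := by
  obtain ⟨M⟩ := exists_model f
  refine M.near ?_
  rw [← M.r_genericPoint, ← M.fiber_prop_iff @GeometricallyIrreducible] at h
  exact (near_geometricallyIrreducible_spec M.fam h).mono fun p hp =>
    (M.fiber_prop_iff @GeometricallyIrreducible p).mp hp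

end Groth.Agent.NearGen2
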