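import Groth.Agent.NearGen2.GIBase
import Groth.Agent.UH57.Basic
import Mathlib.AlgebraicGeometry.Morphisms.QuasiSeparated

/-! Finite purely inseparable models over a domain, and quasi-separatedness near the generic fibre. -/

set_option autoImplicit false
set_option linter.style.haveILetI false
set_option maxHeartbeats 1000000
universe u

open CategoryTheory CategoryTheory.Limits AlgebraicGeometry TopologicalSpace Topology

namespace Groth.Agent.NearGen2

/-- An algebra with nilpotent kernel and all `q`-power radicial elements is a universal homeomorphism. -/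
theorem isUnivHomeo_of_pow {R S : Type u} [CommRing R] [CommRing S] [Algebra R S] (q : ℕ) [hq : ExpChar S q]
    (hker : RingHom.ker (algebraMap R S) ≤ nilradical R)
    (hpow : ∀ s : S, ∃ (n : ℕ) (a : R), algebraMap R S a = s ^ q ^ n) :
    FlatMor.IsUnivHomeo (Spec.map (CommRingCat.ofHom (algebraMap R S))) := by
  have hqpos : ∀ n, 0 < q ^ n := fun n => pow_pos (expChar_pos S q) n
  have hint : Algebra.IsIntegral R S := ⟨fun s => by
    obtain ⟨n, a, ha⟩ := hpow s
    exact IsIntegral.of_pow (hqpos n) (ha ▸ isIntegral_algebraMap)⟩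
  rw [UH57.isUnivHomeo_iff]
  refine ⟨hint, ⟨?_, ?_⟩, hker⟩
  · intro P P' h
    ext s
    obtain ⟨n, a, ha⟩ := hpow s
    rw [← P.2.pow_mem_iff_mem _ (hqpos n), ← P'.2.pow_mem_iff_mem _ (hqpos n), ← ha]
    rw [PrimeSpectrum.ext_iff, SetLike.ext_iff] at h
    exact h a
  · intro Q hQ b
    have h1 : algebraMap R S 1 ∉ Q := by rw [map_one]; exact fun h => hQ.ne_top ((Q.eq_top_iff_one).2 h)
    obtain ⟨n, a, ha⟩ := hpow b
    cases hq with
    | zero => exact ⟨a, 1, h1, Or.inl (by rw [ha, one_pow, pow_one, map_one, one_mul, sub_self]; exact zero_mem _)⟩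
    | prime hp =>
      refine ⟨a, 1, h1, Or.inr ⟨q, n, hp, ?_, ?_⟩⟩
      · rw [CharP.cast_eq_zero]; exact zero_mem _
      · rw [ha, map_one, one_mul, sub_self]; exact zero_mem _

/-- A finite purely inseparable extension of the fraction field has a finite radicial model. -/
theorem exists_finite_pi_subalgebra {A : Type u} [CommRing A] [IsDomain A] (L : Type u) [Field L]
    [Algebra A L] [Algebra (FractionRing A) L] [IsScalarTower A (FractionRing A) L]
    [FiniteDimensional (FractionRing A) L] [IsPurelyInseparable (FractionRing A) L] :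
    ∃ A' : Subalgebra A L, Module.Finite A A' ∧ Function.Injective (algebraMap A A') ∧ IsFractionRing A' L ∧
      ∃ q : ℕ, ExpChar A' q ∧ ∀ s : A', ∃ (n : ℕ) (a : A), algebraMap A A' a = s ^ q ^ n := by
  classical
  let K := FractionRing A
  let q := ringExpChar K
  haveI : ExpChar L q := expChar_of_injective_algebraMap (algebraMap K L).injective q
  have hqpos : ∀ n, 0 < q ^ n := fun n => pow_pos (expChar_pos L q) n
  have hAL : Function.Injective (algebraMap A L) := by
    rw [IsScalarTower.algebraMap_eq A K L]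
    exact (algebraMap K L).injective.comp (IsFractionRing.injective A K)
  let bas := Module.finBasis K L
  have hb : ∀ i, ∃ d : A, algebraMap A L d ≠ 0 ∧ ∃ (n : ℕ) (a : A), algebraMap A L a = (algebraMap A L d * bas i) ^ q ^ n := by
    intro i
    obtain ⟨n, c, hc⟩ := IsPurelyInseparable.pow_mem K q (bas i)
    obtain ⟨⟨a, d⟩, had⟩ := IsLocalization.surj (nonZeroDivisors A) c
    refine ⟨d, fun e => nonZeroDivisors.ne_zero d.2 (hAL (e.trans (map_zero _).symm)), n,
      (d : A) ^ (q ^ n - 1) * a, ?_⟩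
    rw [mul_pow, ← hc, map_mul, map_pow, IsScalarTower.algebraMap_apply A K L a, ← had, map_mul,
      ← IsScalarTower.algebraMap_apply A K L]
    conv_rhs => rw [← Nat.sub_add_cancel (hqpos n), pow_succ]
    ring
  choose d hd n a ha using hb
  let w : Fin (Module.finrank K L) → L := fun i => algebraMap A L (d i) * bas i
  let A' : Subalgebra A L := Algebra.adjoin A (Set.range w)
  have hint : ∀ x ∈ Set.range w, IsIntegral A x := by
    rintro _ ⟨i, rfl⟩
    exact IsIntegral.of_pow (hqpos (n i)) (ha i ▸ isIntegral_algebraMap)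
  have hfin : Module.Finite A A' :=
    Module.Finite.iff_fg.mpr (fg_adjoin_of_finite (Set.finite_range w) hint)
  have hpow : ∀ x ∈ A', ∃ (m : ℕ) (r : A), algebraMap A L r = x ^ q ^ m := by
    intro x hx
    induction hx using Algebra.adjoin_induction with
    | mem x hx => obtain ⟨i, rfl⟩ := hx; exact ⟨n i, a i, ha i⟩
    | algebraMap r => exact ⟨0, r, by simp⟩
    | add x y _ _ hx hy =>
      obtain ⟨m, r, hr⟩ := hx
      obtain ⟨m', r', hr'⟩ := hy
      refine ⟨m + m', r ^ q ^ m' + r' ^ q ^ m, ?_⟩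
      rw [map_add, map_pow, map_pow, hr, hr', ← pow_mul, ← pow_mul, add_pow_expChar_pow, ← pow_add, ← pow_add,
        add_comm m' m]
    | mul x y _ _ hx hy =>
      obtain ⟨m, r, hr⟩ := hx
      obtain ⟨m', r', hr'⟩ := hy
      refine ⟨m + m', r ^ q ^ m' * r' ^ q ^ m, ?_⟩
      rw [map_mul, map_pow, map_pow, hr, hr', ← pow_mul, ← pow_mul, mul_pow, ← pow_add, ← pow_add, add_comm m' m]
  have hinj : Function.Injective (algebraMap A A') := fun x y h => hAL (congrArg Subtype.val h)
  refine ⟨A', hfin, hinj, isFractionRing_subalgebra A' fun z => ?_, q,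
    (A'.val.toRingHom.expChar_iff Subtype.val_injective q).mpr inferInstance, fun s => ?_⟩
  swap
  · obtain ⟨m, r, hr⟩ := hpow s s.2
    exact ⟨m, r, Subtype.ext (hr.trans (by push_cast; rfl))⟩
  have hz : z ∈ Submodule.span K (Set.range bas) := bas.span_eq ▸ Submodule.mem_top
  induction hz using Submodule.span_induction with
  | mem z hz =>
    obtain ⟨i, rfl⟩ := hz
    exact ⟨⟨w i, Algebra.subset_adjoin ⟨i, rfl⟩⟩, algebraMap A A' (d i),
      fun e => hd i (congrArg Subtype.val e), mul_comm _ _⟩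
  | zero => exact ⟨0, 1, one_ne_zero, by simp⟩
  | add z w _ _ hz hw =>
    obtain ⟨x, y, hy, hxy⟩ := hz
    obtain ⟨x', y', hy', hxy'⟩ := hw
    refine ⟨x * y' + x' * y, y * y', mul_ne_zero hy hy', ?_⟩
    push_cast
    rw [← hxy, ← hxy']
    ring
  | smul k z _ hz =>
    obtain ⟨x, y, hy, hxy⟩ := hz
    obtain ⟨⟨nn, dd⟩, hnd⟩ := IsLocalization.surj (nonZeroDivisors A) k
    have hdd : algebraMap A L dd ≠ 0 := fun e =>
      nonZeroDivisors.ne_zero dd.2 (hAL (e.trans (map_zero _).symm))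
    refine ⟨algebraMap A A' nn * x, algebraMap A A' dd * y,
      mul_ne_zero (fun h0 => hdd (congrArg Subtype.val h0)) hy, ?_⟩
    push_cast
    rw [← hxy, Algebra.smul_def, IsScalarTower.algebraMap_apply A K L nn, ← hnd, map_mul,
      IsScalarTower.algebraMap_apply A K L dd]
    ring

/-- A quasi-compact morphism of finite type to an irreducible affine scheme is quasi-separated near the generic
point. -/
theorem near_quasiSeparated {X : Scheme.{u}} {A : CommRingCat.{u}} [IrreducibleSpace ↥(Spec A)] (f : X ⟶ Spec A)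
    [LocallyOfFiniteType f] [QuasiCompact f] :
    ∃ W : (Spec A).Opens, (W : Set ↥(Spec A)).Nonempty ∧ QuasiSeparated (f ∣_ W) := by
  classical
  let η := genericPoint ↥(Spec A)
  haveI : CompactSpace ↥X := QuasiCompact.compactSpace_of_compactSpace f
  let 𝒰 := X.affineCover.finiteSubcover
  let U : 𝒰.I₀ → X.Opens := fun i => (𝒰.f i).opensRange
  have hU : ∀ i, IsAffineOpen (U i) := fun i => isAffineOpen_opensRange (𝒰.f i)
  -- the generic fibre is noetherian
  haveI : IsLocallyNoetherian (f.fiber η) := LocallyOfFiniteType.isLocallyNoetherian (f.fiberToSpecResidueField η)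
  haveI : CompactSpace ↥(f.fiber η) := QuasiCompact.compactSpace_of_compactSpace (f.fiberToSpecResidueField η)
  haveI : IsNoetherian (f.fiber η) := { }
  have hqc : ∀ i k, ∃ O : Set X, IsCompact O ∧ IsOpen O ∧ O ⊆ (U i : Set X) ∩ U k ∧
      ∀ x ∈ (U i : Set X) ∩ U k, f x = η → x ∈ O := by
    intro i k
    have hc : IsCompact (((U i : Set X) ∩ U k) ∩ f ⁻¹' {η}) := by
      rw [← Scheme.Hom.range_fiberι, ← Set.image_preimage_eq_inter_range]
      exact (NoetherianSpace.isCompact _).image (f.fiberι η).continuous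
    obtain ⟨T, hT, hTfin, hcov⟩ := hc.elim_finite_subcover_image (b := {V : X.affineOpens | (V : Set X) ⊆ (U i : Set X) ∩ U k})
      (c := fun V => (V.1 : Set X)) (fun V _ => V.1.2) (fun x hx => by
        obtain ⟨V, hV, hxV, hVU⟩ := exists_isAffineOpen_mem_and_subset (U := U i ⊓ U k) hx.1
        exact Set.mem_biUnion (x := (⟨V, hV⟩ : X.affineOpens)) hVU hxV)
    exact ⟨⋃ V ∈ T, (V.1 : Set X), hTfin.isCompact_biUnion fun V _ => V.2.isCompact, isOpen_biUnion fun V _ => V.1.2,
      Set.iUnion₂_subset fun V hV => hT hV, fun x hx hxη => hcov ⟨hx, hxη⟩⟩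
  choose O hOc hOo hOsub hOgen using hqc
  have hnear : Near fun q => ∀ p : 𝒰.I₀ × 𝒰.I₀, ∀ x ∈ (U p.1 : Set X) ∩ U p.2, f x = q → x ∈ O p.1 p.2 := by
    refine Near.all fun ⟨i, k⟩ => ?_
    let T : Closeds ↥(U i : Scheme.{u}) := ⟨((U i).ι ⁻¹' O i k)ᶜ, ((hOo i k).preimage (U i).ι.continuous).isClosed_compl⟩
    let c := (Scheme.IdealSheafData.vanishingIdeal T).subschemeι
    haveI : IsAffine (U i : Scheme.{u}) := hU i
    haveI : QuasiCompact ((U i).ι ≫ f) := inferInstance
    haveI : QuasiCompact (c ≫ (U i).ι ≫ f) := inferInstance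
    refine (near_avoid_open (c ≫ (U i).ι ≫ f) ((U k).2.preimage ((c ≫ (U i).ι).continuous)) fun z hz he => ?_).mono
      fun q hq x hx hxq => ?_
    · have hm : (U i).ι (c z) ∈ (U i : Set X) ∩ U k := ⟨(c z).2, hz⟩
      have hT : c z ∈ (T : Set ↥(U i : Scheme.{u})) := (SchBasics.range_vanishingIdeal_subschemeι T).le ⟨z, rfl⟩
      exact hT (hOgen i k _ hm he)
    · by_contra hne
      obtain ⟨z, hz⟩ : (⟨x, hx.1⟩ : U i) ∈ Set.range c := (SchBasics.range_vanishingIdeal_subschemeι T).ge hne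
      have hzx : (U i).ι (c z) = x := by rw [hz]; rfl
      exact hq z (by rw [Scheme.Hom.comp_apply, Scheme.Hom.comp_apply, hzx, hxq]) (show (U i).ι (c z) ∈ U k from hzx.symm ▸ hx.2)
  obtain ⟨V, hV, hgood⟩ := hnear
  have hηV : η ∈ V := ((genericPoint_spec _).mem_open_set_iff V.2).mpr (by simpa using hV)
  obtain ⟨a, haV, hηa, hsub⟩ := PrimeSpectrum.isTopologicalBasis_basic_opens.exists_subset_of_mem_open hηV V.2
  obtain ⟨a, rfl⟩ := haV
  let W : (Spec A).Opens := PrimeSpectrum.basicOpen a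
  have hW : IsAffineOpen W := IsAffineOpen.Spec_basicOpen a
  refine ⟨W, ⟨η, hηa⟩, ?_⟩
  haveI : IsAffine (W : Scheme.{u}) := hW
  rw [quasiSeparated_iff_quasiSeparatedSpace]
  let ιW := (f ⁻¹ᵁ W).ι
  let U' : 𝒰.I₀ → (f ⁻¹ᵁ W : Scheme.{u}).Opens := fun i => ιW ⁻¹ᵁ U i
  have himg : ∀ i, ιW ''ᵁ U' i = U i ⊓ f ⁻¹ᵁ W := fun i => by
    rw [ιW.image_preimage_eq_opensRange_inf, Scheme.Opens.opensRange_ι, inf_comm]
  have hbasic : ∀ i, IsAffineOpen (U i ⊓ f ⁻¹ᵁ W) := fun i => by
    haveI : IsAffine (U i : Scheme.{u}) := hU i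
    have h1 := (hW.preimage ((U i).ι ≫ f)).image_of_isOpenImmersion (U i).ι
    rwa [Scheme.Hom.comp_preimage, (U i).ι.image_preimage_eq_opensRange_inf, Scheme.Opens.opensRange_ι] at h1
  refine Scheme.quasiSeparatedSpace_of_isOpenCover U' ?_ (fun i => ?_) fun i k => ?_
  · rw [IsOpenCover, eq_top_iff]
    rintro x -
    obtain ⟨z, hz⟩ := 𝒰.covers (ιW x)
    exact Opens.mem_iSup.mpr ⟨_, show ιW x ∈ U (𝒰.idx (ιW x)) from ⟨z, hz⟩⟩
  · rw [← ιW.isAffineOpen_iff_of_isOpenImmersion, himg]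
    exact hbasic i
  · rw [ιW.isOpenEmbedding.isCompact_iff, Set.image_inter ιW.isOpenEmbedding.injective]
    have h1 : ∀ j, ιW '' (U' j : Set ↥(f ⁻¹ᵁ W : Scheme.{u})) = ((U j ⊓ f ⁻¹ᵁ W : X.Opens) : Set X) := fun j => by
      rw [← himg]; rfl
    rw [h1, h1]
    have h2 : ((U i ⊓ f ⁻¹ᵁ W : X.Opens) : Set X) ∩ (U k ⊓ f ⁻¹ᵁ W : X.Opens) =
        O i k ∩ (U i ⊓ f ⁻¹ᵁ W : X.Opens) := by
      ext x
      constructor
      · rintro ⟨⟨h1, h2⟩, h3, -⟩
        exact ⟨hgood _ (hsub h2) (i, k) x ⟨h1, h3⟩ rfl, h1, h2⟩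
      · rintro ⟨h0, h1, h2⟩
        exact ⟨⟨h1, h2⟩, (hOsub i k h0).2, h2⟩
    rw [h2]
    exact (hU i).isQuasiSeparated _ _ ((hOsub i k).trans Set.inter_subset_left) (hOo i k) (hOc i k)
      Set.inter_subset_left (U i ⊓ f ⁻¹ᵁ W).2 (hbasic i).isCompact

end Groth.Agent.NearGen2
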