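import Groth.Agent.NearGen2.GeomIrred
import Groth.Agent.FBase64.PurelyInsepReduce
import Groth.Agent.FBase64.Splitting
import Groth.Agent.FBase64.ProductDim
import Groth.Agent.FlatMor67.GenericFibre
import Groth.Agent.VarGal.GeomRed

/-! A finite purely inseparable extension making the reduction geometrically reduced. -/

set_option autoImplicit false
set_option linter.style.haveILetI false
set_option backward.isDefEq.respectTransparency.types false
set_option maxHeartbeats 1000000
set_option synthInstance.maxHeartbeats 200000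
universe u

open CategoryTheory CategoryTheory.Limits AlgebraicGeometry TopologicalSpace Topology TensorProduct

namespace Groth.Agent.NearGen2

theorem exists_reduce_set {k : Type u} [Field k] (A : Type u) [CommRing A] [Algebra k A]
    [Algebra.EssFiniteType k A] (Ω : Type u) [Field Ω] [Algebra k Ω] [PerfectField Ω] :
    ∃ S : Finset Ω, ∀ (L : Type u) [Field L] [Algebra k L] [Algebra L Ω] [IsScalarTower k L Ω],
      (S : Set Ω) ⊆ Set.range (algebraMap L Ω) →
      Algebra.IsGeometricallyReduced L ((L ⊗[k] A) ⧸ nilradical (L ⊗[k] A)) := by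
  classical
  haveI : IsNoetherianRing (Ω ⊗[k] A) := Algebra.EssFiniteType.isNoetherianRing Ω (Ω ⊗[k] A)
  obtain ⟨s, hs⟩ := (IsNoetherian.noetherian (nilradical (Ω ⊗[k] A)) : (nilradical (Ω ⊗[k] A)).FG)
  choose T hT using fun t : Ω ⊗[k] A => TensorProduct.exists_finset t
  refine ⟨s.biUnion fun t => (T t).image Prod.fst, fun L _ _ _ _ hL =>
    FBase64.PIReduce.reduce_tower (L := L) (s : Set (Ω ⊗[k] A)) hs fun u hu => ?_⟩
  rw [hT u]
  refine Subalgebra.sum_mem (Algebra.TensorProduct.map (IsScalarTower.toAlgHom k L Ω) (AlgHom.id k A)).range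
    fun i hi => ?_
  obtain ⟨l, hl⟩ := hL (Finset.mem_biUnion.mpr ⟨u, hu, Finset.mem_image_of_mem _ hi⟩)
  exact ⟨l ⊗ₜ[k] i.2, (Algebra.TensorProduct.map_tmul _ _ _ _).trans (by rw [← hl]; rfl)⟩

/-- A chart of the reduction. -/
theorem exists_chart_nilradical {k : Type u} [Field k] {X : Scheme.{u}} (f : X ⟶ Spec (CommRingCat.of k))
    {B : Type u} [CommRing B] [Algebra k B] (u : Spec (CommRingCat.of B) ⟶ X) [IsOpenImmersion u]
    (hu : u ≫ f = Spec.map (CommRingCat.ofHom (algebraMap k B))) :
    ∃ j : Spec (CommRingCat.of (B ⧸ nilradical B)) ⟶ X.nilradical.subscheme, IsOpenImmersion j ∧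
      X.nilradical.subschemeι ⁻¹' Set.range u ⊆ Set.range j ∧
      j ≫ X.nilradical.subschemeι ≫ f = Spec.map (CommRingCat.ofHom (algebraMap k (B ⧸ nilradical B))) := by
  have := FlatMor67.isReduced_subscheme_nilradical X
  let ι := X.nilradical.subschemeι
  have hsurj : Function.Surjective ι := Set.range_eq_univ.mp (by
    rw [Scheme.IdealSheafData.range_subschemeι, Scheme.support_nilradical]; rfl)
  let P := pullback ι u
  have : IsReduced P := isReduced_of_isOpenImmersion (pullback.fst ι u)
  have : IsClosedImmersion (pullback.snd ι u) := inferInstance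
  obtain ⟨I, e, he⟩ := IsClosedImmersion.Spec_iff.mp this
  have : IsReduced (Spec (CommRingCat.of (B ⧸ I))) := isReduced_of_isOpenImmersion e.inv
  have hred : _root_.IsReduced (B ⧸ I) := (affine_isReduced_iff _).mp this
  have hI : I = nilradical B := by
    refine le_antisymm (fun x hx => ?_) (fun x hx => ?_)
    · rw [nilradical_eq_sInf, Submodule.mem_sInf]
      intro Q hQ
      obtain ⟨v, hv⟩ := hsurj (u ⟨Q, hQ⟩)
      obtain ⟨p, -, hp⟩ := Scheme.Pullback.exists_preimage_pullback (f := ι) (g := u) v ⟨Q, hQ⟩ hv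
      rw [he, Scheme.Hom.comp_apply] at hp
      have hmem : x ∈ (Spec.map (CommRingCat.ofHom (Ideal.Quotient.mk I)) (e.hom p)).asIdeal := by
        show Ideal.Quotient.mk I x ∈ (e.hom p).asIdeal
        rw [Ideal.Quotient.eq_zero_iff_mem.mpr hx]
        exact zero_mem _
      rw [hp] at hmem
      exact hmem
    · rw [← Ideal.Quotient.eq_zero_iff_mem]
      exact ((mem_nilradical.mp hx).map (Ideal.Quotient.mk I)).eq_zero
  subst hI
  refine ⟨e.inv ≫ pullback.fst ι u, inferInstance, fun z hz => ?_, ?_⟩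
  · obtain ⟨b, hb⟩ := hz
    obtain ⟨p, hp, -⟩ := Scheme.Pullback.exists_preimage_pullback (f := ι) (g := u) z b hb.symm
    exact ⟨e.hom p, by rw [← Scheme.Hom.comp_apply, e.hom_inv_id_assoc, hp]⟩
  · rw [Category.assoc, ← Category.assoc (pullback.fst ι u), pullback.condition, Category.assoc, hu, he,
      Category.assoc, e.inv_hom_id_assoc, ← Spec.map_comp]
    congr 1

theorem geometricallyReduced_nilradical_of_charts {k : Type u} [Field k] {X : Scheme.{u}}
    (f : X ⟶ Spec (CommRingCat.of k)) (L : Type u) [Field L] [Algebra k L]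
    (A : ↥(irreducibleComponents ↥X) → Type u) [iA : ∀ Z, CommRing (A Z)] [iAk : ∀ Z, Algebra k (A Z)]
    (j : ∀ Z, Spec (CommRingCat.of (A Z)) ⟶ X) [hj : ∀ Z, IsOpenImmersion (j Z)]
    (hmem : ∀ Z : irreducibleComponents ↥X, Z.2.1.genericPoint ∈ Set.range (j Z))
    (hjf : ∀ Z, j Z ≫ f = Spec.map (CommRingCat.ofHom (algebraMap k (A Z))))
    (hGR : ∀ Z, Algebra.IsGeometricallyReduced L ((L ⊗[k] A Z) ⧸ nilradical (L ⊗[k] A Z))) :
    GeometricallyReduced ((FBase.bc f L).nilradical.subschemeι ≫ FBase.bcStr f L) := by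
  let R := (FBase.bc f L).nilradical.subscheme
  let ι := (FBase.bc f L).nilradical.subschemeι
  letI : R.Over (Spec (CommRingCat.of L)) := ⟨ι ≫ FBase.bcStr f L⟩
  have : IsReduced R := FlatMor67.isReduced_subscheme_nilradical _
  have hsurj : Function.Surjective ι := Set.range_eq_univ.mp (by
    rw [Scheme.IdealSheafData.range_subschemeι, Scheme.support_nilradical]; rfl)
  refine VarGal.geometricallyReduced_of_maximal_points fun η hη => ?_
  have hmax : ∀ w, w ⤳ ι η → w = ι η := fun w hw => by
    obtain ⟨v, rfl⟩ := hsurj w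
    rw [hη v (ι.isEmbedding.isInducing.specializes_iff.mp hw)]
  have hX := FBase64.eq_of_specializes_of_maximal_bc f hmax
  let Z : irreducibleComponents ↥X :=
    ⟨closure {FBase.bcπ f L (ι η)}, (FBase64.closure_singleton_mem_irreducibleComponents_iff _).mpr hX⟩
  have hgen : Z.2.1.genericPoint = FBase.bcπ f L (ι η) :=
    (Z.2.1.isGenericPoint_genericPoint isClosed_closure).eq isGenericPoint_closure
  have := hj Z
  have sq := isPullback_tensor k (A Z) L
  rw [← hjf Z] at sq
  have sq' := IsPullback.of_bot' sq (IsPullback.of_hasPullback f (Spec.map (CommRingCat.ofHom (algebraMap k L))))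
  set u₀ := (IsPullback.of_hasPullback f (Spec.map (CommRingCat.ofHom (algebraMap k L)))).lift _ _ _ with hudef
  let u : Spec (CommRingCat.of (L ⊗[k] A Z)) ⟶ FBase.bc f L := u₀
  haveI : IsOpenImmersion u := MorphismProperty.of_isPullback sq' (hj Z)
  have hu : u ≫ FBase.bcStr f L = Spec.map (CommRingCat.ofHom (algebraMap L (L ⊗[k] A Z))) :=
    IsPullback.lift_snd _ _ _ _
  obtain ⟨v, hv, hsub, hvj⟩ := exists_chart_nilradical (FBase.bcStr f L) (B := L ⊗[k] A Z) u hu
  obtain ⟨q, hq⟩ : ι η ∈ Set.range u := by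
    have hm := hmem Z
    rw [hgen] at hm
    obtain ⟨b, hb⟩ := hm
    obtain ⟨p, -, hp⟩ := Scheme.exists_preimage_of_isPullback sq' b (ι η) hb
    exact ⟨p, hp⟩
  obtain ⟨P, hP⟩ := hsub (a := η) ⟨q, hq⟩
  haveI := hGR Z
  rw [← hP]
  exact (VarGal.isGeomReducedAt_chart_iff v hvj P).mpr
    (VarGal.isGeometricallyReduced_localization _ _ (show PrimeSpectrum _ from P).asIdeal.primeCompl)


theorem exists_finite_purelyInseparable_reduced {k : Type u} [Field k] {X : Scheme.{u}}
    (f : X ⟶ Spec (CommRingCat.of k)) [LocallyOfFiniteType f] [Finite ↥(irreducibleComponents ↥X)] :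
    ∃ (k' : Type u) (_ : Field k') (_ : Algebra k k'), FiniteDimensional k k' ∧ IsPurelyInseparable k k' ∧
      GeometricallyReduced ((FBase.bc f k').nilradical.subschemeι ≫ FBase.bcStr f k') := by
  classical
  let Ω : IntermediateField k (AlgebraicClosure k) := perfectClosure k (AlgebraicClosure k)
  choose A iA iAk hft j hj hmem hjf using
    fun Z : irreducibleComponents ↥X => FBase64.exists_chart_finiteType f Z.2.1.genericPoint
  choose S hS using fun Z => exists_reduce_set (k := k) (A Z) Ω
  have : Fintype ↥(irreducibleComponents ↥X) := Fintype.ofFinite _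
  let T : Finset Ω := Finset.univ.biUnion S
  let L : IntermediateField k Ω := IntermediateField.adjoin k (T : Set Ω)
  have : FiniteDimensional k L :=
    IntermediateField.finiteDimensional_adjoin fun a _ => Algebra.IsIntegral.isIntegral a
  refine ⟨L, inferInstance, inferInstance, inferInstance, IsPurelyInseparable.tower_bot k L Ω, ?_⟩
  have hST : ∀ Z, (S Z : Set Ω) ⊆ L := fun Z a ha =>
    IntermediateField.subset_adjoin k _ (Finset.mem_biUnion.mpr ⟨Z, Finset.mem_univ _, ha⟩)
  exact geometricallyReduced_nilradical_of_charts f L A j hmem hjf fun Z =>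
    hS Z L fun a ha => ⟨⟨a, hST Z ha⟩, rfl⟩

end Groth.Agent.NearGen2
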