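import Groth.Agent.FlatCrit65.GenFree
import Mathlib.LinearAlgebra.TensorProduct.Finiteness
import Mathlib.RingTheory.FiniteStability
import Mathlib.RingTheory.Flat.Basic
import Mathlib.RingTheory.TensorProduct.Free

/-! Nilpotents in the generic fibre of a flat algebra persist in nearby fibres. -/

set_option autoImplicit false
set_option linter.style.haveILetI false
universe u

open TensorProduct

namespace Groth.Agent.NearGen2

/-- A nonzero element of a flat algebra of finite type over a domain is nonzero in a general fibre. -/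
theorem exists_forall_tmul_ne_zero {A B : Type u} [CommRing A] [IsDomain A] [CommRing B] [Algebra A B]
    [Algebra.FiniteType A B] [Module.Flat A B] {b : B} (hb : b ≠ 0) :
    ∃ a : A, a ≠ 0 ∧ ∀ (L : Type u) [Field L] [Algebra A L],
      algebraMap A L a ≠ 0 → (1 : L) ⊗ₜ[A] b ≠ 0 := by
  obtain ⟨f, hf, -, hfree, -, -⟩ := FlatCrit65.generic_freeness (R := A) (S := B) (M := B)
  let A' := Localization.Away f
  have := hfree A' (IsLocalization.Away.algebraMap_isUnit f)
  have hinj : Function.Injective (algebraMap A A') :=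
    IsLocalization.injective A' (powers_le_nonZeroDivisors_of_noZeroDivisors hf)
  let β := (1 : A') ⊗ₜ[A] b
  have hβ : β ≠ 0 := fun h =>
    hb (Algebra.TensorProduct.includeRight_injective hinj (h.trans (map_zero _).symm))
  let e := Module.Free.chooseBasis A' (A' ⊗[A] B)
  obtain ⟨i, hi⟩ : ∃ i, e.repr β i ≠ 0 := by
    by_contra! h
    exact hβ (e.repr.map_eq_zero_iff.mp (Finsupp.ext h))
  obtain ⟨⟨c, s⟩, hs⟩ := IsLocalization.surj (Submonoid.powers f) (e.repr β i)
  have hc : c ≠ 0 := by
    intro hc
    rw [show (c, s).1 = (0 : A) from hc, map_zero] at hs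
    exact hi ((IsLocalization.map_units A' s).mul_left_eq_zero.mp hs)
  refine ⟨f * c, mul_ne_zero hf hc, fun L _ _ hL h => ?_⟩
  rw [map_mul] at hL
  have hfu : IsUnit (algebraMap A L f) := (left_ne_zero_of_mul hL).isUnit
  letI := (IsLocalization.Away.lift f hfu : A' →+* L).toAlgebra
  have : IsScalarTower A A' L :=
    IsScalarTower.of_algebraMap_eq fun a => (IsLocalization.Away.lift_eq f hfu a).symm
  have h1 : (1 : L) ⊗ₜ[A'] β = 0 := by
    apply (AlgebraTensorModule.cancelBaseChange A A' L L B).injective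
    rw [AlgebraTensorModule.cancelBaseChange_tmul, one_smul, h, map_zero]
  have h2 := congrArg (fun z => (e.baseChange L).repr z i) h1
  simp only [Module.Basis.baseChange_repr_tmul, map_zero, Finsupp.coe_zero, Pi.zero_apply,
    ← Algebra.algebraMap_eq_smul_one] at h2
  have h3 := congrArg (algebraMap A' L) hs
  rw [map_mul, h2, zero_mul, ← IsScalarTower.algebraMap_apply] at h3
  exact (right_ne_zero_of_mul hL) h3.symm

/-- A nilpotent of a geometric generic fibre is defined over a finitely generated extension of the base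
and persists over a nonempty open of it. -/
theorem exists_nonreduced_spread {A B L : Type u} [CommRing A] [CommRing B] [Algebra A B]
    [Algebra.FiniteType A B] [Module.Flat A B] [Field L] [Algebra A L] (h : ¬ _root_.IsReduced (L ⊗[A] B)) :
    ∃ (A' : Subalgebra A L) (a : A'), A'.FG ∧ a ≠ 0 ∧
      ∀ (L' : Type u) [Field L'] [Algebra A L'] [Algebra A' L'] [IsScalarTower A A' L'],
        algebraMap A' L' a ≠ 0 → ¬ _root_.IsReduced (L' ⊗[A] B) := by
  classical
  obtain ⟨x, hx, hx0⟩ : ∃ x : L ⊗[A] B, IsNilpotent x ∧ x ≠ 0 := by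
    by_contra! hh
    exact h ⟨hh⟩
  obtain ⟨S, hS⟩ := TensorProduct.exists_finset x
  let A' : Subalgebra A L := Algebra.adjoin A (S.image Prod.fst : Set L)
  have hfg : A'.FG := ⟨_, rfl⟩
  have : Algebra.FiniteType A A' := A'.fg_iff_finiteType.mp hfg
  have hinj : Function.Injective (A'.val.toLinearMap.rTensor B) :=
    Module.Flat.rTensor_preserves_injective_linearMap _ Subtype.val_injective
  let ι : A' ⊗[A] B →ₐ[A] L ⊗[A] B := Algebra.TensorProduct.map A'.val (AlgHom.id A B)
  have hι : Function.Injective ι := fun y z hyz => hinj (by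
    have e : ∀ w, A'.val.toLinearMap.rTensor B w = ι w := fun w => by
      induction w using TensorProduct.induction_on with
      | zero => simp
      | tmul a b => rfl
      | add u v hu hv => simp only [map_add, hu, hv]
    rw [e, e, hyz])
  let x' : A' ⊗[A] B := ∑ p ∈ S.attach,
    (⟨p.1.1, Algebra.subset_adjoin (Finset.mem_image_of_mem _ p.2)⟩ : A') ⊗ₜ[A] p.1.2
  have hx' : ι x' = x := by
    rw [hS, map_sum]
    exact (Finset.sum_congr rfl fun p _ => rfl).trans (Finset.sum_attach S fun p => p.1 ⊗ₜ[A] p.2)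
  have hn : IsNilpotent x' := by
    obtain ⟨m, hm⟩ := hx
    exact ⟨m, hι (by rw [map_pow, hx', hm, map_zero])⟩
  have hne : x' ≠ 0 := fun e => hx0 (by rw [← hx', e, map_zero])
  have : Algebra.FiniteType A' (A' ⊗[A] B) := inferInstance
  obtain ⟨a, ha, hsp⟩ := exists_forall_tmul_ne_zero (A := A') (B := A' ⊗[A] B) hne
  refine ⟨A', a, hfg, ha, fun L' _ _ _ _ hL hred => hsp L' hL ?_⟩
  let e := Algebra.TensorProduct.cancelBaseChange A A' A' L' B
  have h1 : IsNilpotent (e ((1 : L') ⊗ₜ[A'] x')) :=
    ((hn.map (Algebra.TensorProduct.includeRight : A' ⊗[A] B →ₐ[A'] L' ⊗[A'] (A' ⊗[A] B))).map e)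
  apply e.injective
  rw [map_zero]
  exact h1.eq_zero

end Groth.Agent.NearGen2
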