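import Groth.Agent.NearGen2.Fibre
import Groth.Agent.NearGen2.ReducedAlg
import Mathlib.AlgebraicGeometry.Geometrically.Reduced

/-! Failure of (geometric) reducedness of the generic fibre spreads out. -/

set_option autoImplicit false
set_option linter.style.haveILetI false
universe u

open CategoryTheory CategoryTheory.Limits AlgebraicGeometry TopologicalSpace Topology TensorProduct

namespace Groth.Agent.NearGen2

theorem mem_range_of_specField {X : Scheme.{u}} {L : Type u} [Field L] (t : Spec (CommRingCat.of L) ⟶ X)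
    (q q' : ↥(Spec (CommRingCat.of L))) : t q = t q' :=
  congrArg t (Subsingleton.elim (α := PrimeSpectrum L) q q')

theorem isReduced_spec_iff (R : Type u) [CommRing R] :
    IsReduced (Spec (CommRingCat.of R)) ↔ _root_.IsReduced R := by
  refine ⟨fun h => ?_, fun h => inferInstance⟩
  exact isReduced_of_injective _ (Scheme.ΓSpecIso (CommRingCat.of R)).commRingCatIsoToRingEquiv.symm.injective

theorem isReduced_of_iso {X Y : Scheme.{u}} (e : X ≅ Y) [IsReduced Y] : IsReduced X :=
  isReduced_of_isOpenImmersion e.hom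

/-- Base change of an open piece to a point with values in a field. -/
theorem isReduced_piece {U X S : Scheme.{u}} (u : U ⟶ X) [IsOpenImmersion u] (g : X ⟶ S) {T : Scheme.{u}}
    (t : T ⟶ S) [IsReduced (pullback g t)] : IsReduced (pullback (u ≫ g) t) := by
  have h : IsPullback (pullback.fst (u ≫ g) t)
      (pullback.lift (pullback.fst (u ≫ g) t ≫ u) (pullback.snd (u ≫ g) t) ((Category.assoc _ _ _).trans pullback.condition))
      u (pullback.fst g t) := by
    refine IsPullback.of_bot ?_ (pullback.lift_fst _ _ _).symm (IsPullback.of_hasPullback g t)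
    rw [pullback.lift_snd]
    exact IsPullback.of_hasPullback (u ≫ g) t
  have : IsOpenImmersion (pullback.lift (pullback.fst (u ≫ g) t ≫ u) (pullback.snd (u ≫ g) t)
      ((Category.assoc _ _ _).trans pullback.condition) : pullback (u ≫ g) t ⟶ pullback g t) :=
    MorphismProperty.of_isPullback h inferInstance
  exact isReduced_of_isOpenImmersion (pullback.lift (pullback.fst (u ≫ g) t ≫ u) (pullback.snd (u ≫ g) t)
    ((Category.assoc _ _ _).trans pullback.condition) : pullback (u ≫ g) t ⟶ pullback g t)

/-- If the base change to a field is not reduced, this is witnessed on an affine piece. -/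
theorem exists_piece_not_isReduced {X S : Scheme.{u}} (g : X ⟶ S) (𝒰 : X.OpenCover) {T : Scheme.{u}} (t : T ⟶ S)
    (h : ¬ IsReduced (pullback g t)) : ∃ i, ¬ IsReduced (pullback (𝒰.f i ≫ g) t) := by
  by_contra! hall
  refine h ?_
  let 𝒱 := 𝒰.pullback₁ (pullback.fst g t)
  apply +allowSynthFailures @IsReduced.of_openCover (𝒰 := 𝒱)
  intro i
  have := hall i
  exact isReduced_of_iso (Y := pullback (𝒰.f i ≫ g) t)
    (pullbackSymmetry (pullback.fst g t) (𝒰.f i) ≪≫ pullbackRightPullbackFstIso g t (𝒰.f i))

variable {A : CommRingCat.{u}} {B L : Type u} [CommRing B] [Algebra A B] [Field L] [Algebra A L]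

theorem isReduced_pullback_spec_iff :
    IsReduced (pullback (Spec.map (CommRingCat.ofHom (algebraMap A B)))
      (Spec.map (CommRingCat.ofHom (algebraMap A L)))) ↔ _root_.IsReduced (L ⊗[A] B) := by
  let e : pullback (Spec.map (CommRingCat.ofHom (algebraMap A B))) (Spec.map (CommRingCat.ofHom (algebraMap A L))) ≅
      Spec (CommRingCat.of (L ⊗[A] B)) :=
    pullbackSymmetry _ _ ≪≫ pullbackSpecIso A L B
  rw [← isReduced_spec_iff (L ⊗[A] B)]
  exact ⟨fun _ => isReduced_of_iso e.symm, fun _ => isReduced_of_iso e⟩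

/-- Over an integral affine base: if some geometric generic fibre is not reduced, neither are nearby
geometric fibres. -/
theorem near_not_geometricallyReduced_aux [IsDomain A] {P : Scheme.{u}} (g : P ⟶ Spec A)
    [LocallyOfFinitePresentation g] [Flat g] (K : Type u) [Field K] (t : Spec (CommRingCat.of K) ⟶ Spec A)
    (ht : ∀ q, t q = genericPoint ↥(Spec A)) (h : ¬ IsReduced (pullback g t)) :
    Near fun p : ↥(Spec A) => ∃ (L : Type u) (_ : Field L) (s : Spec (CommRingCat.of L) ⟶ Spec A),
      (∀ q, s q = p) ∧ ¬ IsReduced (pullback g s) := by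
  obtain ⟨i, hi⟩ := exists_piece_not_isReduced g P.affineCover t h
  obtain ⟨R, eR⟩ : ∃ R, Nonempty (P.affineCover.X i ≅ Spec R) := ⟨_, ⟨(P.affineCover.X i).isoSpec⟩⟩
  obtain ⟨eR⟩ := eR
  let u : Spec R ⟶ P := eR.inv ≫ P.affineCover.f i
  obtain ⟨φ, hφ⟩ := Spec.map_surjective (u ≫ g)
  obtain ⟨ψ, rfl⟩ := Spec.map_surjective t
  algebraize [φ.hom, ψ.hom]
  have hfp : LocallyOfFinitePresentation (Spec.map φ) := by rw [hφ]; infer_instance
  have hfl : Flat (Spec.map φ) := by rw [hφ]; infer_instance
  rw [HasRingHomProperty.Spec_iff (P := @LocallyOfFinitePresentation)] at hfp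
  rw [HasRingHomProperty.Spec_iff (P := @Flat)] at hfl
  have : Algebra.FinitePresentation A R := hfp
  have : Module.Flat A R := hfl
  have hnr : ¬ _root_.IsReduced (K ⊗[A] (R : Type u)) := by
    rw [← isReduced_pullback_spec_iff]
    intro hr
    refine hi ?_
    have : IsReduced (pullback (eR.inv ≫ P.affineCover.f i ≫ g) (Spec.map ψ)) := by
      rw [← Category.assoc, ← hφ]
      exact hr
    have h2 : eR.hom ≫ eR.inv ≫ P.affineCover.f i ≫ g = P.affineCover.f i ≫ g := eR.hom_inv_id_assoc _
    rw [← h2]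
    exact isReduced_piece eR.hom (eR.inv ≫ P.affineCover.f i ≫ g) (Spec.map ψ)
  obtain ⟨A', a, hfg, ha, hsp⟩ := exists_nonreduced_spread hnr
  have : Algebra.FiniteType A A' := A'.fg_iff_finiteType.mp hfg
  let j : Spec (CommRingCat.of A') ⟶ Spec A := Spec.map (CommRingCat.ofHom (algebraMap A A'))
  have : LocallyOfFiniteType j := by
    rw [HasRingHomProperty.Spec_iff (P := @LocallyOfFiniteType)]
    exact RingHom.finiteType_algebraMap.mpr this
  have : QuasiCompact j := HasAffineProperty.iff_of_isAffine.mpr (by infer_instance)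
  let W : Set ↥(Spec (CommRingCat.of A')) := (PrimeSpectrum.basicOpen a : Set (PrimeSpectrum A'))
  let x₀ : ↥(Spec (CommRingCat.of A')) := (⊥ : PrimeSpectrum A')
  obtain ⟨q₀⟩ : Nonempty ↥(Spec (CommRingCat.of K)) := inferInstance
  have hx₀ : j x₀ = genericPoint ↥(Spec A) := by
    rw [← ht q₀]
    refine PrimeSpectrum.ext ?_
    show Ideal.comap (algebraMap A A') ⊥ = Ideal.comap ψ.hom q₀.asIdeal
    have : q₀.asIdeal.IsPrime := q₀.2
    rw [Ideal.eq_bot_of_prime q₀.asIdeal, ← RingHom.ker_eq_comap_bot, ← RingHom.ker_eq_comap_bot]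
    ext z
    simp only [RingHom.mem_ker, ← Subtype.coe_inj (a := algebraMap A A' z), ZeroMemClass.coe_zero]
    rfl
  refine (near_meet_open j (W := W) (PrimeSpectrum.basicOpen a).2 (x := x₀) (fun hm => ha hm) hx₀).mono ?_
  rintro p ⟨q, hq, hqW⟩
  let q' : PrimeSpectrum A' := q
  let L := q'.asIdeal.ResidueField
  refine ⟨L, inferInstance, Spec.map (CommRingCat.ofHom (algebraMap A L)), fun w => ?_, fun hr => ?_⟩
  · rw [← hq]
    refine PrimeSpectrum.ext ?_
    show Ideal.comap (algebraMap A L) w.asIdeal = Ideal.comap (algebraMap A A') q'.asIdeal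
    have : w.asIdeal.IsPrime := w.2
    rw [Ideal.eq_bot_of_prime w.asIdeal, IsScalarTower.algebraMap_eq A A' L, ← Ideal.comap_comap,
      ← RingHom.ker_eq_comap_bot, Ideal.ker_algebraMap_residueField]
  · have : IsReduced (pullback (Spec.map φ) (Spec.map (CommRingCat.ofHom (algebraMap A L)))) := by
      rw [hφ]; exact isReduced_piece u g _
    refine hsp L ?_ ((isReduced_pullback_spec_iff (A := A) (B := R) (L := L)).mp this)
    rw [ne_eq, Ideal.algebraMap_residueField_eq_zero]
    exact hqW

end Groth.Agent.NearGen2
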