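import Groth.Agent.NearGen2.Reduced

/-! Non-reducedness and non-geometric reducedness of the generic fibre hold on nearby fibres. -/

set_option autoImplicit false
set_option linter.style.haveILetI false
universe u

open CategoryTheory CategoryTheory.Limits AlgebraicGeometry TopologicalSpace Topology TensorProduct

namespace Groth.Agent.NearGen2

variable {X Y : Scheme.{u}} [IrreducibleSpace Y] (f : X ⟶ Y) [LocallyOfFiniteType f] [QuasiCompact f]

theorem near_not_geometricallyReduced (h : ¬ GeometricallyReduced (f.fiberToSpecResidueField (genericPoint Y))) :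
    Near fun y => ¬ GeometricallyReduced (f.fiberToSpecResidueField y) := by
  obtain ⟨M⟩ := exists_model f
  refine M.near ?_
  rw [← M.r_genericPoint, ← M.fiber_prop_iff @GeometricallyReduced, geometricallyReduced_iff,
    geometrically_iff_of_isClosedUnderIsomorphisms] at h
  push Not at h
  obtain ⟨K, _, y, hy⟩ := h
  refine (near_not_geometricallyReduced_aux M.fam K (y ≫ (Spec M.A).fromSpecResidueField _) (fun q => ?_)
    (fun hr => hy ?_)).mono fun p hp hG => ?_
  · rw [Scheme.Hom.comp_apply, Scheme.fromSpecResidueField_apply]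
  · exact isReduced_of_iso
      (pullbackLeftPullbackSndIso M.fam ((Spec M.A).fromSpecResidueField (genericPoint ↥(Spec M.A))) y)
  · obtain ⟨L, _, s, hs, hns⟩ := hp
    obtain ⟨⟨p', φ⟩, rfl⟩ := (Scheme.SpecToEquivOfField L (Spec M.A)).symm.surjective s
    obtain ⟨q₀⟩ : Nonempty ↥(Spec (CommRingCat.of L)) := inferInstance
    obtain rfl : p' = p := by
      rw [← hs q₀]
      show p' = (Spec.map φ ≫ (Spec M.A).fromSpecResidueField p') q₀
      rw [Scheme.Hom.comp_apply, Scheme.fromSpecResidueField_apply]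
    have hG' := (M.fiber_prop_iff @GeometricallyReduced p').mpr hG
    have : IsReduced (pullback (pullback.snd M.fam ((Spec M.A).fromSpecResidueField p')) (Spec.map φ)) :=
      pullback_of_geometrically hG'.geometrically_isReduced _ _
    exact hns (isReduced_of_iso
      (pullbackLeftPullbackSndIso M.fam ((Spec M.A).fromSpecResidueField p') (Spec.map φ)).symm)

theorem near_not_isReduced (h : ¬ IsReduced (f.fiber (genericPoint Y))) :
    Near fun y => ¬ IsReduced (f.fiber y) := by
  obtain ⟨M⟩ := exists_model f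
  refine M.near ?_
  have htr : ∀ p, IsReduced (M.fam.fiber p) ↔ IsReduced (f.fiber (M.r p)) := fun p => by
    obtain ⟨m, hm, -, -⟩ := M.exists_fiber_iso p
    exact ⟨fun _ => isReduced_of_iso (asIso m).symm, fun _ => isReduced_of_iso (asIso m)⟩
  rw [← M.r_genericPoint, ← htr] at h
  refine Near.mono (Q := fun p => ¬ IsReduced (M.fam.fiber p)) ?_ fun p hp hr => hp ((htr p).mpr hr)
  obtain ⟨i, hi⟩ := exists_piece_not_isReduced M.fam (pullback f M.r).affineCover
    ((Spec M.A).fromSpecResidueField _) h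
  obtain ⟨R, eR⟩ : ∃ R, Nonempty ((pullback f M.r).affineCover.X i ≅ Spec R) :=
    ⟨_, ⟨((pullback f M.r).affineCover.X i).isoSpec⟩⟩
  obtain ⟨eR⟩ := eR
  let u : Spec R ⟶ pullback f M.r := eR.inv ≫ (pullback f M.r).affineCover.f i
  obtain ⟨φ, hφ⟩ := Spec.map_surjective (u ≫ M.fam)
  algebraize [φ.hom]
  have hfp : LocallyOfFinitePresentation (Spec.map φ) := by rw [hφ]; infer_instance
  have hfl : Flat (Spec.map φ) := by rw [hφ]; infer_instance
  rw [HasRingHomProperty.Spec_iff (P := @LocallyOfFinitePresentation)] at hfp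
  rw [HasRingHomProperty.Spec_iff (P := @Flat)] at hfl
  have : Algebra.FinitePresentation M.A R := hfp
  have : Module.Flat M.A R := hfl
  have hiff : ∀ p : PrimeSpectrum M.A, IsReduced ((Spec.map φ).fiber p) ↔
      _root_.IsReduced (p.asIdeal.Fiber R) := fun p => by
    let e := Arrow.leftFunc.mapIso (Spec.fiberToSpecResidueFieldIso M.A R p)
    exact ⟨fun hr => (isReduced_spec_iff _).mp (@isReduced_of_iso _ _ e.symm hr),
      fun hr => @isReduced_of_iso _ _ e ((isReduced_spec_iff (p.asIdeal.Fiber R)).mpr hr)⟩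
  let η : PrimeSpectrum M.A := genericPoint ↥(Spec M.A)
  have hη : η.asIdeal = ⊥ := congrArg PrimeSpectrum.asIdeal (genericPoint_eq_bot_of_affine M.A)
  have hnr : ¬ _root_.IsReduced (η.asIdeal.Fiber R) := by
    rw [← hiff]
    intro hr
    refine hi ?_
    have : IsReduced (pullback (eR.inv ≫ (pullback f M.r).affineCover.f i ≫ M.fam)
        ((Spec M.A).fromSpecResidueField η)) := by
      rw [← Category.assoc, ← hφ]
      exact hr
    have h2 : eR.hom ≫ eR.inv ≫ (pullback f M.r).affineCover.f i ≫ M.fam =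
      (pullback f M.r).affineCover.f i ≫ M.fam := eR.hom_inv_id_assoc _
    rw [← h2]
    exact isReduced_piece eR.hom (eR.inv ≫ (pullback f M.r).affineCover.f i ≫ M.fam) _
  obtain ⟨x, hx, hx0⟩ : ∃ x : η.asIdeal.Fiber R, IsNilpotent x ∧ x ≠ 0 := by
    by_contra! hh
    exact hnr ⟨hh⟩
  obtain ⟨r, hr, b, hb⟩ := Ideal.Fiber.exists_smul_eq_one_tmul η.asIdeal x
  have hr0 : algebraMap M.A η.asIdeal.ResidueField r ≠ 0 := by
    rw [ne_eq, Ideal.algebraMap_residueField_eq_zero]; exact hr
  have hb0 : b ≠ 0 := by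
    rintro rfl
    rw [TensorProduct.tmul_zero, ← algebraMap_smul η.asIdeal.ResidueField r x, smul_eq_zero] at hb
    exact hb.elim hr0 hx0
  have hbn : IsNilpotent b := by
    have hinj : Function.Injective (algebraMap M.A η.asIdeal.ResidueField) := by
      rw [injective_iff_map_eq_zero]
      intro z hz
      rwa [Ideal.algebraMap_residueField_eq_zero, hη, Ideal.mem_bot] at hz
    obtain ⟨m, hm⟩ := (hb ▸ hx.smul r : IsNilpotent ((1 : η.asIdeal.ResidueField) ⊗ₜ[M.A] b))
    refine ⟨m, Algebra.TensorProduct.includeRight_injective (R := M.A) (A := η.asIdeal.ResidueField) (B := R) hinj ?_⟩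
    rw [map_pow, Algebra.TensorProduct.includeRight_apply, hm, map_zero]
  obtain ⟨a, ha, hsp⟩ := exists_forall_tmul_ne_zero (A := M.A) (B := R) hb0
  refine ⟨PrimeSpectrum.basicOpen a, ⟨(⊥ : PrimeSpectrum M.A), fun h => ha h⟩, fun p hp hred => ?_⟩
  let p' : PrimeSpectrum M.A := p
  have : IsReduced (pullback M.fam ((Spec M.A).fromSpecResidueField p')) := hred
  have h2 : IsReduced ((Spec.map φ).fiber p') := by
    rw [hφ]
    exact isReduced_piece (T := Spec ((Spec M.A).residueField p')) u M.fam ((Spec M.A).fromSpecResidueField p')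
  refine hsp p'.asIdeal.ResidueField ?_ ?_
  · rw [ne_eq, Ideal.algebraMap_residueField_eq_zero]; exact hp
  · have := (hiff p').mp h2
    exact (hbn.map (Algebra.TensorProduct.includeRight :
      (R : Type u) →ₐ[M.A] p'.asIdeal.Fiber R)).eq_zero

end Groth.Agent.NearGen2
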