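import Groth.Agent.NearGen2.Fibre
import Groth.Agent.NearGen2.Reduced
import Groth.Agent.NearGen2.DenseAlg
import Mathlib.AlgebraicGeometry.Morphisms.SchemeTheoreticallyDominant

/-! Scheme-theoretic density of an open in the fibres near the generic point. -/

set_option autoImplicit false
set_option linter.style.haveILetI false
universe u

open CategoryTheory CategoryTheory.Limits AlgebraicGeometry TopologicalSpace Topology TensorProduct

namespace Groth.Agent.NearGen2

/-- No nonzero element is killed by powers of all elements whose basic open lies in `U`. -/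
def AffDense (C : Type u) [CommRing C] (U : Set (PrimeSpectrum C)) : Prop :=
  ∀ c : C, (∀ g : C, (PrimeSpectrum.basicOpen g : Set (PrimeSpectrum C)) ⊆ U → ∃ N : ℕ, g ^ N * c = 0) → c = 0

/-- The sections over an affine open that die on the basic opens inside `U`. -/
theorem eq_zero_of_res_eq_zero {F : Scheme.{u}} {V : F.Opens} (hV : IsAffineOpen V) (U : F.Opens)
    (x : Γ(F, V)) (h : F.presheaf.map (homOfLE (inf_le_left : V ⊓ U ≤ V)).op x = 0) (g : Γ(F, V))
    (hg : F.basicOpen g ≤ U) : ∃ N : ℕ, g ^ N * x = 0 := by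
  refine exists_pow_mul_eq_zero_of_res_basicOpen_eq_zero_of_isAffineOpen F hV x g ?_
  show F.presheaf.map (homOfLE (F.basicOpen_le g)).op x = 0
  rw [← homOfLE_comp (le_inf (F.basicOpen_le g) hg) (inf_le_left : V ⊓ U ≤ V), op_comp, Functor.map_comp,
    ConcreteCategory.comp_apply, h, map_zero]

theorem res_eq_zero_of_ι_app {F : Scheme.{u}} (U V : F.Opens) (x : Γ(F, V)) (h0 : U.ι.app V x = 0) :
    F.presheaf.map (homOfLE (inf_le_left : V ⊓ U ≤ V)).op x = 0 := by
  have he : U.ι ''ᵁ (U.ι ⁻¹ᵁ V) = V ⊓ U := by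
    rw [Scheme.Hom.image_preimage_eq_opensRange_inf, Scheme.Opens.opensRange_ι, inf_comm]
  rw [Scheme.Opens.ι_app] at h0
  have h1 := (congrArg (F.presheaf.map (eqToHom he.symm).op) h0).trans
    (map_zero (F.presheaf.map (eqToHom he.symm).op).hom)
  erw [← ConcreteCategory.comp_apply, ← Functor.map_comp] at h1
  exact h1

theorem affDense_of_dominant {F : Scheme.{u}} (U : F.Opens) [IsSchemeTheoreticallyDominant U.ι]
    [QuasiCompact U.ι] {C : Type u} [CommRing C] (v : Spec (CommRingCat.of C) ⟶ F) [IsOpenImmersion v] :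
    AffDense C (v ⁻¹' (U : Set F)) := by
  intro c hc
  let W := v ⁻¹ᵁ U
  have : IsSchemeTheoreticallyDominant W.ι :=
    IsSchemeTheoreticallyDominant.of_isPullback (isPullback_morphismRestrict v U)
  let S := Spec (CommRingCat.of C)
  let x : Γ(S, ⊤) := (Scheme.ΓSpecIso (CommRingCat.of C)).inv c
  have : QuasiCompact W.ι := MorphismProperty.of_isPullback (isPullback_morphismRestrict v U) ‹_›
  suffices hx : x = 0 by
    have := congrArg (Scheme.ΓSpecIso (CommRingCat.of C)).hom hx
    simpa [x, ← ConcreteCategory.comp_apply] using this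
  refine W.ι.app_injective ⊤ ?_
  rw [map_zero]
  refine (W : Scheme.{u}).IsSheaf.section_ext fun z _ => ?_
  obtain ⟨_, ⟨g, rfl⟩, hzg, hgW⟩ :=
    PrimeSpectrum.isTopologicalBasis_basic_opens.exists_subset_of_mem_open (show W.ι z ∈ (W : Set S) from z.2) W.2
  obtain ⟨N, hN⟩ := hc g hgW
  let g' : Γ(S, ⊤) := (Scheme.ΓSpecIso (CommRingCat.of C)).inv g
  have hg' : S.basicOpen g' = PrimeSpectrum.basicOpen g := basicOpen_eq_of_affine g
  have hx' : S.presheaf.map (homOfLE (S.basicOpen_le g')).op x = 0 := by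
    have hu : IsUnit (S.presheaf.map (homOfLE (S.basicOpen_le g')).op g') :=
      RingedSpace.isUnit_res_basicOpen S.toRingedSpace g'
    refine (hu.pow N).mul_right_eq_zero.mp ?_
    rw [← map_pow, ← map_mul, show g' ^ N * x = (Scheme.ΓSpecIso (CommRingCat.of C)).inv (g ^ N * c) by
      simp [g', x, map_mul, map_pow], hN, map_zero, map_zero]
  refine ⟨W.ι ⁻¹ᵁ S.basicOpen g', le_top, by rw [hg']; exact hzg, ?_⟩
  rw [map_zero]
  exact (congr($(W.ι.naturality (homOfLE (S.basicOpen_le g')).op) x)).symm.trans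
    ((congrArg (W.ι.app (S.basicOpen g')).hom hx').trans (map_zero _))

theorem dominant_of_affDense {F : Scheme.{u}} (U : F.Opens)
    (h : ∀ z : F, ∃ (C : Type u) (_ : CommRing C) (v : Spec (CommRingCat.of C) ⟶ F) (_ : IsOpenImmersion v),
      z ∈ Set.range v ∧ AffDense C (v ⁻¹' (U : Set F))) :
    IsSchemeTheoreticallyDominant U.ι := by
  choose C hC v hv hz hd using h
  let V : F → F.affineOpens := fun z => ⟨(v z).opensRange, isAffineOpen_opensRange _⟩
  rw [isSchemeTheoreticallyDominant_iff]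
  refine Scheme.IdealSheafData.ext_of_iSup_eq_top V (top_le_iff.mp fun z _ => Opens.mem_iSup.mpr ⟨z, hz z⟩) fun z => ?_
  simp only [Scheme.IdealSheafData.ideal_bot, Pi.bot_apply, ← le_bot_iff]
  intro x hx
  have h0 : U.ι.app (V z).1 x = 0 := RingHom.mem_ker.1 ((U.ι.ideal_ker_le (V z)) hx)
  have h1 := res_eq_zero_of_ι_app U (V z).1 x h0
  let S := Spec (CommRingCat.of (C z))
  let e : Γ(F, (V z).1) ≅ CommRingCat.of (C z) :=
    F.presheaf.mapIso (eqToIso (v z).image_top_eq_opensRange).op ≪≫ (v z).appIso ⊤ ≪≫ Scheme.ΓSpecIso _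
  suffices he : e.hom x = 0 by
    have := congrArg e.inv he
    rw [map_zero, ← ConcreteCategory.comp_apply, e.hom_inv_id] at this
    exact this
  refine hd z _ fun g hg => ?_
  have hsub : F.basicOpen (e.inv g) ≤ U := by
    intro y hy
    obtain ⟨w, rfl⟩ : y ∈ Set.range (v z) := F.basicOpen_le (e.inv g) hy
    refine hg ?_
    have h2 : w ∈ (v z) ⁻¹ᵁ F.basicOpen (e.inv g) := hy
    have h3 : e.inv g = F.presheaf.map (eqToHom (v z).image_top_eq_opensRange.symm).op
        (((v z).appIso ⊤).inv ((Scheme.ΓSpecIso (CommRingCat.of (C z))).inv g)) := rfl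
    rw [h3, Scheme.basicOpen_res_eq, ← Scheme.image_basicOpen, Scheme.Hom.preimage_image_eq,
      basicOpen_eq_of_affine] at h2
    exact h2
  obtain ⟨N, hN⟩ := eq_zero_of_res_eq_zero (V z).2 U x h1 (e.inv g) hsub
  refine ⟨N, ?_⟩
  have := congrArg e.hom hN
  simpa [map_mul, map_pow, ← ConcreteCategory.comp_apply] using this

variable {X Y : Scheme.{u}} [IrreducibleSpace Y] (f : X ⟶ Y) [LocallyOfFiniteType f] [QuasiCompact f]

theorem near_schDense (U : X.Opens) (h : IsSchemeTheoreticallyDominant (f.fiberι (genericPoint Y) ⁻¹ᵁ U).ι) :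
    Near fun y => IsSchemeTheoreticallyDominant (f.fiberι y ⁻¹ᵁ U).ι := by
  classical
  obtain ⟨M⟩ := exists_model f
  refine M.near ?_
  have : CompactSpace ↥(pullback f M.r) := QuasiCompact.compactSpace_of_compactSpace M.fam
  let 𝒰 := (pullback f M.r).affineCover.finiteSubcover
  have hi : ∀ i, ∃ (R : CommRingCat.{u}) (φ : M.A ⟶ R) (u : Spec R ⟶ pullback f M.r) (_ : IsOpenImmersion u),
      u ≫ M.fam = Spec.map φ ∧ Set.range u = Set.range (𝒰.f i) := by
    intro i
    have : IsAffine (𝒰.X i) := inferInstanceAs (IsAffine ((pullback f M.r).affineCover.X _))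
    obtain ⟨φ, hφ⟩ := Spec.map_surjective ((𝒰.X i).isoSpec.inv ≫ 𝒰.f i ≫ M.fam)
    refine ⟨_, φ, (𝒰.X i).isoSpec.inv ≫ 𝒰.f i, inferInstance, by rw [Category.assoc, hφ], ?_⟩
    rw [Scheme.Hom.comp_base, TopCat.coe_comp, Set.range_comp, (𝒰.X i).isoSpec.inv.surjective.range_eq,
      Set.image_univ]
  choose R φ u hu hφ hrange using hi
  letI : ∀ i, Algebra M.A (R i) := fun i => (φ i).hom.toAlgebra
  -- the chart of the fibre of `X` over the fields `κ(p)`
  have hchart : ∀ (p : PrimeSpectrum M.A) i,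
      ∃ v : Spec (CommRingCat.of (p.asIdeal.Fiber (R i))) ⟶ f.fiber (M.r p), IsOpenImmersion v ∧
        (∀ q, f.fiberι (M.r p) (v q) = M.proj (u i (PrimeSpectrum.comap
          (Algebra.TensorProduct.includeRight : R i →ₐ[M.A] p.asIdeal.Fiber (R i)).toRingHom q))) ∧
        ∀ z : M.fam.fiber p, M.fam.fiberι p z ∈ Set.range (u i) →
          ∃ q, f.fiberι (M.r p) (v q) = M.proj (M.fam.fiberι p z) := by
    intro p i
    obtain ⟨m, hm, hmι, -⟩ := M.exists_fiber_iso p
    let K := p.asIdeal.ResidueField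
    let t : Spec (CommRingCat.of K) ⟶ Spec M.A := Spec.map (CommRingCat.ofHom (algebraMap M.A K))
    let e₀ : Spec (CommRingCat.of K) ⟶ Spec ((Spec M.A).residueField p) :=
      Spec.map (Scheme.Spec.residueFieldIso M.A p).hom
    have he₀ : e₀ ≫ (Spec M.A).fromSpecResidueField p = t := by
      rw [← Scheme.Spec.map_residueFieldIso_inv_eq_fromSpecResidueField]
      simp only [e₀, ← Spec.map_comp_assoc, Iso.inv_hom_id, Spec.map_id, Category.id_comp]
      rfl
    have hpo := (isPullback_SpecMap_of_isPushout _ _ _ _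
      (CommRingCat.isPushout_tensorProduct M.A K (R i))).flip
    let s : Spec (CommRingCat.of (p.asIdeal.Fiber (R i))) ⟶ Spec (R i) :=
      Spec.map (CommRingCat.ofHom (Algebra.TensorProduct.includeRight : R i →ₐ[M.A] K ⊗[M.A] R i).toRingHom)
    let π : Spec (CommRingCat.of (p.asIdeal.Fiber (R i))) ⟶ Spec (CommRingCat.of K) :=
      Spec.map (CommRingCat.ofHom (algebraMap K (K ⊗[M.A] R i)))
    have hpb : IsPullback s π (Spec.map (φ i)) t := hpo
    have hw : (s ≫ u i) ≫ M.fam = (π ≫ e₀) ≫ (Spec M.A).fromSpecResidueField p := by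
      rw [Category.assoc, hφ i, hpb.w, Category.assoc, he₀]
    let v : Spec (CommRingCat.of (p.asIdeal.Fiber (R i))) ⟶ M.fam.fiber p := pullback.lift (s ≫ u i) (π ≫ e₀) hw
    have hvι : v ≫ M.fam.fiberι p = s ≫ u i := pullback.lift_fst _ _ _
    have hsq : IsPullback s v (u i) (M.fam.fiberι p) := by
      refine IsPullback.of_bot ?_ hvι.symm (IsPullback.of_hasPullback M.fam ((Spec M.A).fromSpecResidueField p))
      rw [show v ≫ pullback.snd M.fam ((Spec M.A).fromSpecResidueField p) = π ≫ e₀ from pullback.lift_snd _ _ _,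
        hφ i]
      have hb : IsPullback t e₀ (𝟙 _) ((Spec M.A).fromSpecResidueField p) :=
        IsPullback.of_vert_isIso ⟨by rw [Category.comp_id, he₀]⟩
      simpa using hpb.paste_vert hb
    have : IsOpenImmersion v := MorphismProperty.of_isPullback hsq inferInstance
    refine ⟨v ≫ m, inferInstance, fun q => ?_, fun z hz => ?_⟩
    · simp only [← Scheme.Hom.comp_apply, Category.assoc]
      rw [hmι, ← Category.assoc, hvι]
      rfl
    · obtain ⟨w, hw'⟩ := hz
      obtain ⟨q, -, hq2⟩ := Scheme.exists_preimage_of_isPullback hsq w z hw'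
      refine ⟨q, ?_⟩
      rw [← Scheme.Hom.comp_apply, Category.assoc, hmι, ← Category.assoc, hvι, Scheme.Hom.comp_apply]
      exact congrArg M.proj (((congrArg (fun k => k q) hvι).symm.trans (Scheme.Hom.comp_apply _ _ _)).trans
        (congrArg (M.fam.fiberι p) hq2))
  choose v hv hvι hvmem using hchart
  let W : ∀ i, Set (PrimeSpectrum (R i)) := fun i => (fun q => M.proj (u i q)) ⁻¹' (U : Set X)
  let η : PrimeSpectrum M.A := genericPoint ↥(Spec M.A)
  have hηb : η.asIdeal = ⊥ := congrArg PrimeSpectrum.asIdeal (genericPoint_eq_bot_of_affine M.A)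
  have hinj : Function.Injective (algebraMap M.A η.asIdeal.ResidueField) := by
    rw [injective_iff_map_eq_zero]
    intro z hz
    rwa [Ideal.algebraMap_residueField_eq_zero, hηb, Ideal.mem_bot] at hz
  have : IsNoetherian (f.fiber (M.r η)) := isNoetherian_fiber f _
  have hηdom : IsSchemeTheoreticallyDominant (f.fiberι (M.r η) ⁻¹ᵁ U).ι := by
    have e : M.r η = genericPoint Y := M.r_genericPoint
    rw [e]; exact h
  have hloc : ∀ i, Near fun p : ↥(Spec M.A) => AffDense (p.asIdeal.Fiber (R i))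
      ((v p i) ⁻¹' (f.fiberι (M.r p) ⁻¹ᵁ U : Set (f.fiber (M.r p)))) := by
    intro i
    have hWo : IsOpen (W i) := U.2.preimage ((u i ≫ M.proj).continuous)
    have hfp : LocallyOfFinitePresentation (Spec.map (φ i)) := by rw [← hφ i]; infer_instance
    have hfl : Flat (Spec.map (φ i)) := by rw [← hφ i]; infer_instance
    rw [HasRingHomProperty.Spec_iff (P := @LocallyOfFinitePresentation)] at hfp
    rw [HasRingHomProperty.Spec_iff (P := @Flat)] at hfl
    have : Algebra.FinitePresentation M.A (R i) := hfp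
    have : Module.Flat M.A (R i) := hfl
    let ι₀ : R i →ₐ[M.A] η.asIdeal.Fiber (R i) := Algebra.TensorProduct.includeRight
    have : IsNoetherianRing (η.asIdeal.Fiber (R i)) := Algebra.FiniteType.isNoetherianRing η.asIdeal.ResidueField _
    obtain ⟨t, ht⟩ := (NoetherianSpace.isCompact (PrimeSpectrum.comap ι₀.toRingHom ⁻¹' W i)).elim_finite_subcover
      (fun b : {b : R i // (PrimeSpectrum.basicOpen b : Set _) ⊆ W i} =>
        (PrimeSpectrum.basicOpen (ι₀ b.1) : Set (PrimeSpectrum (η.asIdeal.Fiber (R i)))))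
      (fun b => (PrimeSpectrum.basicOpen (ι₀ b.1)).2) (fun q hq => by
        obtain ⟨_, ⟨b, rfl⟩, hqb, hbW⟩ :=
          PrimeSpectrum.isTopologicalBasis_basic_opens.exists_subset_of_mem_open (show PrimeSpectrum.comap ι₀.toRingHom q ∈ W i from hq) hWo
        exact Set.mem_iUnion.mpr ⟨⟨b, hbW⟩, hqb⟩)
    have hη := affDense_of_dominant (f.fiberι (M.r η) ⁻¹ᵁ U) (v η i)
    obtain ⟨a, ha, hspread⟩ := exists_no_common_annihilator (A := M.A) (fun b : ↥t => b.1.1)
      η.asIdeal.ResidueField hinj (fun c hc => hη c fun g hg => by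
        have hrad : g ∈ (Ideal.span (Set.range fun b : ↥t => ι₀ b.1.1)).radical := by
          rw [Ideal.radical_eq_sInf, Submodule.mem_sInf]
          rintro J ⟨hJ, hJp⟩
          by_contra hgJ
          let q : PrimeSpectrum (η.asIdeal.Fiber (R i)) := ⟨J, hJp⟩
          have hqW : q ∈ PrimeSpectrum.comap ι₀.toRingHom ⁻¹' W i := by
            have h1 : f.fiberι (M.r η) ((v η i) q) ∈ U := hg hgJ
            rwa [hvι η i q] at h1
          obtain ⟨b, hb, hqb⟩ := Set.mem_iUnion₂.mp (ht hqW)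
          exact hqb (hJ (Ideal.subset_span ⟨⟨b, hb⟩, rfl⟩))
        obtain ⟨N, hN⟩ := hrad
        obtain ⟨w, hw⟩ := Ideal.mem_span_range_iff_exists_fun.mp hN
        refine ⟨N, ?_⟩
        rw [← hw, Finset.sum_mul]
        exact Finset.sum_eq_zero fun b _ => by
          rw [mul_assoc]
          exact (congrArg (w b * ·) (hc b)).trans (mul_zero _))
    refine ⟨PrimeSpectrum.basicOpen a, ⟨(⊥ : PrimeSpectrum M.A), fun hm => ha hm⟩, fun p hp c hc => ?_⟩
    have hp' : algebraMap M.A (p : PrimeSpectrum M.A).asIdeal.ResidueField a ≠ 0 := by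
      rw [ne_eq, Ideal.algebraMap_residueField_eq_zero]; exact hp
    refine eq_zero_of_pow_mul _ (hspread _ hp') c fun b => hc _ fun q hq => ?_
    show f.fiberι (M.r p) ((v p i) q) ∈ U
    rw [hvι p i q]
    exact b.1.2 hq
  refine (Near.all hloc).mono fun p hp => dominant_of_affDense _ fun z => ?_
  obtain ⟨m, hm, hmι, -⟩ := M.exists_fiber_iso p
  obtain ⟨z', rfl⟩ := m.homeomorph.surjective z
  let i := (𝒰.idx (M.fam.fiberι p z'))
  obtain ⟨q, hq⟩ := hvmem p i z' (by rw [hrange i]; exact 𝒰.covers _)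
  refine ⟨_, inferInstance, v p i, hv p i, ⟨q, ?_⟩, hp i⟩
  refine (f.fiberι (M.r p)).isEmbedding.injective (hq.trans ?_)
  rw [← Scheme.Hom.comp_apply, ← hmι, Scheme.Hom.comp_apply]
  rfl

end Groth.Agent.NearGen2
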