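import Groth.Agent.FlatMor67.GeomReducedSmooth
import Groth.Agent.ConsProp93.DimGeneric
import Mathlib.RingTheory.Smooth.NoetherianDescent
import Mathlib.RingTheory.Smooth.Flat
import Mathlib.RingTheory.Localization.BaseChange
import Mathlib.RingTheory.Spectrum.Prime.Topology

/-! A finitely presented algebra over a domain acquires, after a finite extension of the fraction field, a
smooth model whose generic fibres are homeomorphic to open pieces of those of the algebra. -/

set_option autoImplicit false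
set_option linter.style.haveILetI false
universe u

open TensorProduct

namespace Groth.Agent.NearGen2

theorem isFractionRing_subalgebra {A L₀ : Type u} [CommRing A] [Field L₀] [Algebra A L₀]
    (A' : Subalgebra A L₀) (h : ∀ z : L₀, ∃ x y : A', y ≠ 0 ∧ z * y = x) : IsFractionRing A' L₀ := by
  refine IsFractionRing.of_field A' L₀ fun z => ?_
  obtain ⟨x, y, hy, hxy⟩ := h z
  refine ⟨x, y, ?_⟩
  have : (y : L₀) ≠ 0 := fun e => hy (Subtype.ext e)
  show z = (x : L₀) / (y : L₀)
  rw [← hxy, mul_div_cancel_right₀ z this]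

/-- `Spec` of a base change of a ring map with nilpotent kernel that is surjective. -/
theorem range_comap_baseChange_of_surjective {k L P Q : Type u} [Field k] [CommRing L] [Algebra k L]
    [CommRing P] [CommRing Q] [Algebra k P] [Algebra k Q] (f : P →ₐ[k] Q) (hf : Function.Surjective f)
    (hker : RingHom.ker f ≤ nilradical P) :
    Function.Surjective (Algebra.TensorProduct.map (AlgHom.id L L) f) ∧
      Set.range (PrimeSpectrum.comap (Algebra.TensorProduct.map (AlgHom.id L L) f).toRingHom) = Set.univ := by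
  have hs : Function.Surjective (Algebra.TensorProduct.map (AlgHom.id L L) f) := by
    intro y
    induction y using TensorProduct.induction_on with
    | zero => exact ⟨0, map_zero _⟩
    | tmul l q =>
      obtain ⟨p, rfl⟩ := hf q
      exact ⟨l ⊗ₜ p, rfl⟩
    | add a b ha hb =>
      obtain ⟨x, rfl⟩ := ha
      obtain ⟨y, rfl⟩ := hb
      exact ⟨x + y, map_add _ _ _⟩
  refine ⟨hs, ?_⟩
  rw [range_comap_of_surjective _ _ hs]
  refine Set.eq_univ_of_forall fun q x hx => ?_
  have hfun : ∀ y, Algebra.TensorProduct.map (AlgHom.id k L) f y = Algebra.TensorProduct.map (AlgHom.id L L) f y := by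
    intro y
    induction y using TensorProduct.induction_on with
    | zero => simp
    | tmul a b => rfl
    | add a b ha hb => rw [map_add, map_add, ha, hb]
  have hx' : x ∈ RingHom.ker (Algebra.TensorProduct.map (AlgHom.id k L) f) := (hfun x).trans hx
  rw [Algebra.TensorProduct.lTensor_ker f hf] at hx'
  refine (Ideal.map_le_iff_le_comap.mpr fun y hy => ?_) hx'
  exact nilradical_le_prime q.asIdeal (mem_nilradical.mpr ((mem_nilradical.mp (hker hy)).map _))

theorem exists_smooth_model {A R : Type u} [CommRing A] [IsDomain A] [CommRing R] [Algebra A R]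
    [Algebra.FinitePresentation A R] [Nontrivial (FractionRing A ⊗[A] R)] :
    ∃ (L₀ : Type u) (_ : Field L₀) (_ : Algebra A L₀) (A' : Subalgebra A L₀) (T : Type u) (_ : CommRing T)
      (_ : Algebra A' T) (_ : Algebra A T) (_ : IsScalarTower A A' T) (ψ : R →ₐ[A] T),
      A'.FG ∧ Function.Injective (algebraMap A A') ∧ IsFractionRing A' L₀ ∧ Algebra.Smooth A' T ∧
      ∀ (L : Type u) [Field L] [Algebra A L] [Algebra A' L] [IsScalarTower A A' L],
        Function.Injective (algebraMap A' L) →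
        ∀ (Φ : L ⊗[A] R →ₐ[L] L ⊗[A'] T), (∀ r, Φ (1 ⊗ₜ r) = 1 ⊗ₜ ψ r) →
          Topology.IsEmbedding (PrimeSpectrum.comap Φ.toRingHom) ∧
            IsOpen (Set.range (PrimeSpectrum.comap Φ.toRingHom)) ∧ Nontrivial (L ⊗[A'] T) := by
  classical
  let K := FractionRing A
  let C := K ⊗[A] R
  -- a good element
  obtain ⟨c, hc, hcQ⟩ := FlatMor67.GRS.exists_smooth_perfect (k := K) (A := C)
    (perfectClosure K (AlgebraicClosure K))
  obtain ⟨a, b, ha, hab⟩ := ConsProp93.exists_eq_inv_tmul (A := A) (B := R) c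
  let R' := Localization.Away b
  let C' := K ⊗[A] R'
  letI : Algebra C C' := (Algebra.TensorProduct.map (AlgHom.id K K) (IsScalarTower.toAlgHom A R R')).toRingHom.toAlgebra
  haveI : IsScalarTower K C C' := IsScalarTower.of_algebraMap_eq fun x => by
    show _ = (Algebra.TensorProduct.map (AlgHom.id K K) (IsScalarTower.toAlgHom A R R')) (x ⊗ₜ 1)
    simp
  haveI hloc : IsLocalization.Away ((1 : K) ⊗ₜ[A] b) C' := by
    have := IsLocalization.tensorProduct_tensorProduct_right A K (A := R) (Submonoid.powers b) R'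
      (RingHom.ext fun x => by
        show (Algebra.TensorProduct.map (AlgHom.id K K) (IsScalarTower.toAlgHom A R R')) ((1 : K) ⊗ₜ x) = _
        simp)
    rwa [Submonoid.map_powers] at this
  have hu : IsUnit (algebraMap K C (algebraMap A K a)) :=
    ((map_ne_zero_iff _ (IsFractionRing.injective A K)).mpr ha).isUnit.map _
  haveI : IsLocalization.Away c C' := by
    refine IsLocalization.Away.of_associated (r := (1 : K) ⊗ₜ[A] b) ?_
    have h1 : (1 : K) ⊗ₜ[A] b = algebraMap K C (algebraMap A K a) * c := by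
      rw [← hab]
      exact Algebra.smul_def (algebraMap A K a) c
    rw [h1]
    exact associated_unit_mul_left c _ hu
  haveI hC' : Nontrivial C' := by
    obtain ⟨M, hM⟩ := Ideal.exists_maximal C
    have : M.IsPrime := hM.isPrime
    obtain ⟨P, hP, -⟩ := Ideal.exists_minimalPrimes_le (I := (⊥ : Ideal C)) (J := M) bot_le
    have hPp : P.IsPrime := hP.1.1
    have hd : Disjoint (Submonoid.powers c : Set C) (P : Set C) := by
      rw [Set.disjoint_left]
      rintro x ⟨n, rfl⟩ hx
      exact hc P hP (hPp.mem_of_pow_mem n hx)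
    exact nontrivial_of_ne 1 0 fun h10 =>
      (IsLocalization.isPrime_of_isPrime_disjoint (Submonoid.powers c) C' P hPp hd).ne_top
        ((Ideal.eq_top_iff_one _).mpr (h10 ▸ zero_mem _))
  haveI : Algebra.FiniteType K C' := inferInstance
  obtain ⟨Q, iQ1, iQ2, iQ3, iQ4, ψK, hψs, hψk, hψr, iQ5, iQ6⟩ := hcQ C'
  obtain ⟨L₀, iL, iKL, hfin, hins, Q', iQ', iLQ, φ, hφs, hφn, hφr, hQred, hQsm⟩ :=
    FlatMor67.GRS.exists_descent (k := K) (C := C') _ Q ψK hψs hψk hψr
  letI : Algebra A L₀ := ((algebraMap K L₀).comp (algebraMap A K)).toAlgebra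
  haveI : IsScalarTower A K L₀ := IsScalarTower.of_algebraMap_eq fun _ => rfl
  letI : Algebra A Q' := ((algebraMap L₀ Q').comp (algebraMap A L₀)).toAlgebra
  haveI : IsScalarTower A L₀ Q' := IsScalarTower.of_algebraMap_eq fun _ => rfl
  let eR : L₀ ⊗[A] R' →+* Q' := φ.comp
    ((Algebra.TensorProduct.comm K L₀ C').toRingEquiv.toRingHom.comp
      (Algebra.TensorProduct.cancelBaseChange A K L₀ L₀ R').symm.toRingEquiv.toRingHom)
  let Φ₀ : L₀ ⊗[A] R' →ₐ[L₀] Q' :=
    { eR with
      commutes' := fun l => by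
        show φ (Algebra.TensorProduct.comm K L₀ C'
          ((Algebra.TensorProduct.cancelBaseChange A K L₀ L₀ R').symm (l ⊗ₜ 1))) = _
        rw [Algebra.TensorProduct.cancelBaseChange_symm_tmul, Algebra.TensorProduct.comm_tmul]
        exact hφr l }
  have hΦs : Function.Surjective Φ₀ :=
    hφs.comp ((Algebra.TensorProduct.comm K L₀ C').surjective.comp
      (Algebra.TensorProduct.cancelBaseChange A K L₀ L₀ R').symm.surjective)
  have hΦn : RingHom.ker Φ₀ ≤ nilradical _ := fun z hz => by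
    have h2 := hφn (Algebra.TensorProduct.comm K L₀ C'
      ((Algebra.TensorProduct.cancelBaseChange A K L₀ L₀ R').symm z)) hz
    rw [mem_nilradical]
    rwa [IsNilpotent.map_iff (Algebra.TensorProduct.comm K L₀ C').injective,
      IsNilpotent.map_iff (Algebra.TensorProduct.cancelBaseChange A K L₀ L₀ R').symm.injective] at h2
  obtain ⟨A₁, T₀, iT0, iA1T, hA₁, hT₀, ⟨e⟩⟩ := Algebra.Smooth.exists_subalgebra_fg (R := A) (A := L₀) (B := Q')
  haveI := hT₀
  -- generators and coefficients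
  obtain ⟨s, hs⟩ := (Algebra.FiniteType.out : (⊤ : Subalgebra A R).FG)
  let u₀ : R →ₐ[A] Q' := ((Φ₀.restrictScalars A).comp Algebra.TensorProduct.includeRight).comp
    (IsScalarTower.toAlgHom A R R')
  choose S hS using fun r : R => TensorProduct.exists_finset (e (u₀ r))
  obtain ⟨s₁, hs₁⟩ := hA₁
  let bas := Module.Free.chooseBasis K L₀
  haveI : Fintype (Module.Free.ChooseBasisIndex K L₀) := inferInstance
  let G : Finset L₀ := s₁ ∪ s.biUnion (fun r => (S r).image Prod.fst) ∪ Finset.univ.image bas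
  let A' : Subalgebra A L₀ := Algebra.adjoin A (G : Set L₀)
  have hle : A₁ ≤ A' := by
    rw [← hs₁]; exact Algebra.adjoin_mono (by simp [G])
  letI : Algebra A₁ A' := (Subalgebra.inclusion hle).toRingHom.toAlgebra
  haveI : IsScalarTower A₁ A' L₀ := IsScalarTower.of_algebraMap_eq fun _ => rfl
  let T := A' ⊗[A₁] T₀
  haveI : IsScalarTower A A' T := IsScalarTower.of_algebraMap_eq fun _ => rfl
  haveI : Algebra.Smooth A' T := inferInstance
  let eT : L₀ ⊗[A'] T ≃ₐ[L₀] Q' := (Algebra.TensorProduct.cancelBaseChange A₁ A' L₀ L₀ T₀).trans e.symm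
  have hA'inj : Function.Injective (algebraMap A' L₀) := Subtype.val_injective
  let ι : T →ₐ[A] Q' :=
    { (eT.toRingEquiv.toRingHom.comp (Algebra.TensorProduct.includeRight : T →ₐ[A'] L₀ ⊗[A'] T).toRingHom) with
      commutes' := fun x => by
        show eT ((1 : L₀) ⊗ₜ[A'] algebraMap A T x) = algebraMap L₀ Q' (algebraMap A L₀ x)
        have h1 : (1 : L₀) ⊗ₜ[A'] algebraMap A T x =
            algebraMap L₀ (L₀ ⊗[A'] T) (algebraMap A' L₀ (algebraMap A A' x)) := by
          rw [IsScalarTower.algebraMap_apply A A' T, ← IsScalarTower.algebraMap_apply A' L₀ (L₀ ⊗[A'] T)]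
          exact (Algebra.TensorProduct.includeRight : T →ₐ[A'] L₀ ⊗[A'] T).commutes _
        rw [h1, AlgEquiv.commutes]
        rfl }
  have hι : Function.Injective ι :=
    eT.injective.comp (Algebra.TensorProduct.includeRight_injective hA'inj)
  have hrange : ∀ r, u₀ r ∈ ι.range := by
    suffices (⊤ : Subalgebra A R) ≤ ι.range.comap u₀ from fun r => this (trivial : r ∈ (⊤ : Subalgebra A R))
    rw [← hs, Algebra.adjoin_le_iff]
    intro r hr
    show u₀ r ∈ ι.range
    rw [← e.symm_apply_apply (u₀ r), hS r, map_sum]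
    refine Subalgebra.sum_mem _ fun p hp => ?_
    have hp1 : p.1 ∈ A' := Algebra.subset_adjoin (by
      simp only [G, Finset.coe_union, Set.mem_union, Finset.mem_coe]
      exact Or.inl (Or.inr (Finset.mem_biUnion.mpr ⟨r, hr, Finset.mem_image_of_mem _ hp⟩)))
    refine ⟨(⟨p.1, hp1⟩ : A') ⊗ₜ[A₁] p.2, ?_⟩
    show eT ((1 : L₀) ⊗ₜ[A'] ((⟨p.1, hp1⟩ : A') ⊗ₜ[A₁] p.2)) = _
    show e.symm _ = e.symm _
    refine congrArg e.symm ?_
    refine (Algebra.TensorProduct.cancelBaseChange_tmul ..).trans ?_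
    congr 1
    exact (Algebra.smul_def _ _).trans (mul_one _)
  let ψ : R →ₐ[A] T := (AlgEquiv.ofInjective ι hι).symm.toAlgHom.comp (u₀.codRestrict ι.range hrange)
  have hψ : ∀ r, ι (ψ r) = u₀ r := fun r =>
    congrArg Subtype.val ((AlgEquiv.ofInjective ι hι).apply_symm_apply ⟨u₀ r, hrange r⟩)
  have hfrac : IsFractionRing A' L₀ := by
    refine isFractionRing_subalgebra A' fun z => ?_
    have hmem : ∀ z : L₀, z ∈ Submodule.span K (Set.range bas) → ∃ x y : A', y ≠ 0 ∧ z * y = x := by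
      intro z hz
      induction hz using Submodule.span_induction with
      | mem z hz =>
        obtain ⟨i, rfl⟩ := hz
        exact ⟨⟨bas i, Algebra.subset_adjoin (by simp [G])⟩, 1, one_ne_zero, mul_one _⟩
      | zero => exact ⟨0, 1, one_ne_zero, by simp⟩
      | add z w _ _ hz hw =>
        obtain ⟨x, y, hy, hxy⟩ := hz
        obtain ⟨x', y', hy', hxy'⟩ := hw
        refine ⟨x * y' + x' * y, y * y', mul_ne_zero hy hy', ?_⟩
        push_cast
        rw [← hxy, ← hxy']
        ring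
      | smul k z _ hz =>
        obtain ⟨x, y, hy, hxy⟩ := hz
        obtain ⟨⟨n, d⟩, hnd⟩ := IsLocalization.surj (nonZeroDivisors A) k
        have hd : algebraMap A L₀ d ≠ 0 := by
          rw [IsScalarTower.algebraMap_apply A K L₀]
          exact (map_ne_zero _).mpr ((map_ne_zero_iff _ (IsFractionRing.injective A K)).mpr
            (nonZeroDivisors.ne_zero d.2))
        refine ⟨algebraMap A A' n * x, algebraMap A A' d * y,
          mul_ne_zero (fun h0 => hd (congrArg Subtype.val h0)) hy, ?_⟩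
        push_cast
        rw [← hxy, Algebra.smul_def, IsScalarTower.algebraMap_apply A K L₀ n, ← hnd, map_mul,
          IsScalarTower.algebraMap_apply A K L₀ d]
        ring
    exact hmem z (bas.span_eq ▸ Submodule.mem_top)
  have hAA' : Function.Injective (algebraMap A A') := fun x y h => by
    have h' := congrArg Subtype.val h
    exact IsFractionRing.injective A K ((algebraMap K L₀).injective h')
  refine ⟨L₀, iL, inferInstance, A', T, inferInstance, inferInstance, inferInstance, inferInstance, ψ,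
    ⟨G, rfl⟩, hAA', hfrac, inferInstance, ?_⟩
  intro L _ _ _ _ hinj Φ hΦ
  letI : SMul A' L := Algebra.toSMul
  letI : Module A' L := Algebra.toModule
  letI : Algebra L₀ L := (IsFractionRing.lift hinj : L₀ →+* L).toAlgebra
  haveI : @IsScalarTower A' L₀ L Algebra.toSMul Algebra.toSMul Algebra.toSMul :=
    IsScalarTower.of_algebraMap_eq fun x => (IsFractionRing.lift_algebraMap hinj x).symm
  haveI : IsScalarTower A L₀ L := IsScalarTower.of_algebraMap_eq fun x => by
    rw [IsScalarTower.algebraMap_apply A A' L, IsScalarTower.algebraMap_apply A A' L₀,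
      ← IsScalarTower.algebraMap_apply A' L₀ L]
  let e₁ : L ⊗[L₀] Q' ≃ₐ[L] L ⊗[A'] T :=
    (Algebra.TensorProduct.congr AlgEquiv.refl eT.symm).trans (Algebra.TensorProduct.cancelBaseChange A' L₀ L L T)
  let Ξ₁ : L ⊗[A] R →ₐ[L] L ⊗[A] R' :=
    Algebra.TensorProduct.map (AlgHom.id L L) (IsScalarTower.toAlgHom A R R')
  let Ξ₂ : L ⊗[A] R' ≃ₐ[L] L ⊗[L₀] (L₀ ⊗[A] R') := (Algebra.TensorProduct.cancelBaseChange A L₀ L L R').symm
  let Ξ₃ : L ⊗[L₀] (L₀ ⊗[A] R') →ₐ[L] L ⊗[L₀] Q' := Algebra.TensorProduct.map (AlgHom.id L L) Φ₀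
  have hΦeq : Φ = (e₁.toAlgHom.comp Ξ₃).comp (Ξ₂.toAlgHom.comp Ξ₁) := by
    refine Algebra.TensorProduct.ext (Subsingleton.elim _ _) (AlgHom.ext fun r => ?_)
    show Φ (1 ⊗ₜ r) = e₁ (Ξ₃ (Ξ₂ (Ξ₁ (1 ⊗ₜ r))))
    rw [hΦ]
    simp only [Ξ₁, Ξ₂, Ξ₃, Algebra.TensorProduct.map_tmul, AlgHom.id_apply,
      Algebra.TensorProduct.cancelBaseChange_symm_tmul]
    have h1 : Φ₀ ((1 : L₀) ⊗ₜ[A] (IsScalarTower.toAlgHom A R R') r) = eT ((1 : L₀) ⊗ₜ[A'] ψ r) := (hψ r).symm
    rw [h1]
    simp [e₁]
  have hl := range_comap_baseChange_of_surjective (L := L) Φ₀ hΦs hΦn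
  letI : Algebra (L ⊗[A] R) (L ⊗[A] R') := Ξ₁.toRingHom.toAlgebra
  haveI : IsScalarTower L (L ⊗[A] R) (L ⊗[A] R') := IsScalarTower.of_algebraMap_eq fun x => by
    show _ = (Algebra.TensorProduct.map (AlgHom.id L L) (IsScalarTower.toAlgHom A R R')) (x ⊗ₜ 1)
    simp
  haveI : IsLocalization.Away ((1 : L) ⊗ₜ[A] b) (L ⊗[A] R') := by
    have := IsLocalization.tensorProduct_tensorProduct_right A L (A := R) (Submonoid.powers b) R'
      (RingHom.ext fun x => by
        show (Algebra.TensorProduct.map (AlgHom.id L L) (IsScalarTower.toAlgHom A R R')) ((1 : L) ⊗ₜ x) = _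
        simp)
    rwa [Submonoid.map_powers] at this
  have hemb1 : Topology.IsOpenEmbedding (PrimeSpectrum.comap Ξ₁.toRingHom) :=
    PrimeSpectrum.localization_away_isOpenEmbedding (L ⊗[A] R') ((1 : L) ⊗ₜ[A] b)
  let h₁ := PrimeSpectrum.homeomorphOfRingEquiv (R := L ⊗[L₀] Q') (S := L ⊗[A'] T) e₁.toRingEquiv
  let h₂ := PrimeSpectrum.homeomorphOfRingEquiv (R := L ⊗[A] R') (S := L ⊗[L₀] (L₀ ⊗[A] R')) Ξ₂.toRingEquiv
  have hsurj3 : Function.Surjective
      (PrimeSpectrum.comap (R := L ⊗[L₀] (L₀ ⊗[A] R')) (S := L ⊗[L₀] Q') Ξ₃.toRingHom) :=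
    Set.range_eq_univ.mp hl.2
  have hemb3 : Topology.IsEmbedding
      (PrimeSpectrum.comap (R := L ⊗[L₀] (L₀ ⊗[A] R')) (S := L ⊗[L₀] Q') Ξ₃.toRingHom) :=
    (PrimeSpectrum.isClosedEmbedding_comap_of_surjective (L ⊗[L₀] Q')
      (R := L ⊗[L₀] (L₀ ⊗[A] R')) Ξ₃.toRingHom hl.1).isEmbedding
  let c₁ := PrimeSpectrum.comap (R := L ⊗[A] R) (S := L ⊗[A] R') Ξ₁.toRingHom
  let c₂ := PrimeSpectrum.comap (R := L ⊗[A] R') (S := L ⊗[L₀] (L₀ ⊗[A] R')) Ξ₂.toRingEquiv.toRingHom
  let c₃ := PrimeSpectrum.comap (R := L ⊗[L₀] (L₀ ⊗[A] R')) (S := L ⊗[L₀] Q') Ξ₃.toRingHom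
  let c₄ := PrimeSpectrum.comap (R := L ⊗[L₀] Q') (S := L ⊗[A'] T) e₁.toRingEquiv.toRingHom
  have hcomp : PrimeSpectrum.comap (R := L ⊗[A] R) (S := L ⊗[A'] T) Φ.toRingHom = c₁ ∘ c₂ ∘ c₃ ∘ c₄ := by
    rw [hΦeq]
    rfl
  have hb1 : Function.Bijective c₄ := ⟨(h₁.symm).injective, (h₁.symm).surjective⟩
  have hb2 : Function.Bijective c₂ := ⟨(h₂.symm).injective, (h₂.symm).surjective⟩
  have he4 : Topology.IsEmbedding c₄ := h₁.symm.isEmbedding
  have he2 : Topology.IsEmbedding c₂ := h₂.symm.isEmbedding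
  refine ⟨?_, ?_, ?_⟩
  · rw [hcomp]
    exact hemb1.isEmbedding.comp (he2.comp (hemb3.comp he4))
  · rw [hcomp, (hb2.2.comp (hsurj3.comp hb1.2)).range_comp]
    exact hemb1.isOpen_range
  · haveI : Nontrivial (C' ⊗[K] L₀) :=
      (Algebra.TensorProduct.includeLeft_injective (R := K) (S := K) (algebraMap K L₀).injective :
        Function.Injective (Algebra.TensorProduct.includeLeft : C' →ₐ[K] C' ⊗[K] L₀)).nontrivial
    haveI : Nontrivial Q' := nontrivial_of_ne 1 0 fun h10 => by
      obtain ⟨n, hn⟩ := hφn 1 (by rw [map_one, h10])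
      rw [one_pow] at hn
      exact one_ne_zero hn
    haveI : Nontrivial (L ⊗[L₀] Q') :=
      (Algebra.TensorProduct.includeRight_injective (R := L₀) (A := L) (B := Q')
        (algebraMap L₀ L).injective).nontrivial
    exact e₁.toEquiv.nontrivial_congr.mp inferInstance

end Groth.Agent.NearGen2
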